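import Mathlib

/-!
# Automorphisms of orthogonal groups: abstract group theory

Elements of prime-power order in a central quotient, the set of non-identity elements lying in
the centre of a Sylow subgroup, and first-order relations on a group defined from a set of
elements; all of these are respected by automorphisms.
-/

set_option autoImplicit false

namespace Cfsg.Agent.Lib.Helper14

section pelt

variable {G : Type*} [Group G]

/-- `x` has `p`-power order. -/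
def IsPElt (p : ℕ) (x : G) : Prop := ∃ k : ℕ, x ^ (p ^ k) = 1

theorem IsPElt.one (p : ℕ) : IsPElt p (1 : G) := ⟨0, by simp⟩

theorem pow_pow_add_eq_one {p : ℕ} {x : G} {k : ℕ} (h : x ^ (p ^ k) = 1) (l : ℕ) :
    x ^ (p ^ (k + l)) = 1 := by
  rw [pow_add, pow_mul, h, one_pow]

theorem IsPElt.mul {p : ℕ} {x y : G} (hx : IsPElt p x) (hy : IsPElt p y) (h : Commute x y) :
    IsPElt p (x * y) := by
  obtain ⟨k, hk⟩ := hx
  obtain ⟨l, hl⟩ := hy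
  refine ⟨k + l, ?_⟩
  rw [h.mul_pow, pow_pow_add_eq_one hk l, add_comm, pow_pow_add_eq_one hl k, one_mul]

theorem IsPElt.inv {p : ℕ} {x : G} (hx : IsPElt p x) : IsPElt p x⁻¹ := by
  obtain ⟨k, hk⟩ := hx
  exact ⟨k, by rw [inv_pow, hk, inv_one]⟩

theorem IsPElt.conj {p : ℕ} {x : G} (hx : IsPElt p x) (g : G) : IsPElt p (g * x * g⁻¹) := by
  obtain ⟨k, hk⟩ := hx
  exact ⟨k, by rw [conj_pow, hk, mul_one, mul_inv_cancel]⟩

theorem IsPElt.map {p : ℕ} {H : Type*} [Group H] (f : G →* H) {x : G} (hx : IsPElt p x) :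
    IsPElt p (f x) := by
  obtain ⟨k, hk⟩ := hx
  exact ⟨k, by rw [← map_pow, hk, map_one]⟩

theorem IsPElt.of_isPGroup {p : ℕ} {T : Subgroup G} (hT : IsPGroup p T) {x : G} (hx : x ∈ T) :
    IsPElt p x := by
  obtain ⟨k, hk⟩ := hT ⟨x, hx⟩
  refine ⟨k, ?_⟩
  have := congrArg (Subtype.val) hk
  simpa using this

/-- Two `p`-elements with the same image in the central quotient are equal, if the centre has no
non-trivial `p`-elements. -/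
theorem eq_of_mk_eq_of_isPElt {p : ℕ} (hZ : ∀ z ∈ Subgroup.center G, IsPElt p z → z = 1)
    {x y : G} (hx : IsPElt p x) (hy : IsPElt p y)
    (h : (QuotientGroup.mk x : G ⧸ Subgroup.center G) = QuotientGroup.mk y) : x = y := by
  have hz : x⁻¹ * y ∈ Subgroup.center G := QuotientGroup.eq.mp h
  have hc : Commute x (x⁻¹ * y) := Subgroup.mem_center_iff.mp hz x
  have hxy : Commute x y := by
    have := Commute.mul_right (Commute.refl x) hc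
    rwa [mul_inv_cancel_left] at this
  have hp : IsPElt p (x⁻¹ * y) := IsPElt.mul hx.inv hy hxy.inv_left
  exact inv_mul_eq_one.mp (hZ _ hz hp)

/-- Commutation with a `p`-element lifts from the central quotient. -/
theorem commute_of_mk_commute {p : ℕ} (hZ : ∀ z ∈ Subgroup.center G, IsPElt p z → z = 1)
    {g x : G} (hx : IsPElt p x)
    (h : Commute (QuotientGroup.mk g : G ⧸ Subgroup.center G) (QuotientGroup.mk x)) :
    Commute g x := by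
  have h1 : (QuotientGroup.mk (g * x * g⁻¹) : G ⧸ Subgroup.center G) = QuotientGroup.mk x := by
    rw [QuotientGroup.mk_mul, QuotientGroup.mk_mul, QuotientGroup.mk_inv, h.eq,
      mul_inv_cancel_right]
  have h2 := eq_of_mk_eq_of_isPElt hZ (hx.conj g) hx h1
  exact mul_inv_eq_iff_eq_mul.mp h2

end pelt

section syl

variable {H : Type*} [Group H]

/-- Non-identity elements lying in the centre of some Sylow `p`-subgroup. -/
def sylCentre (p : ℕ) (H : Type*) [Group H] : Set H :=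
  {X | X ≠ 1 ∧ ∃ S : Sylow p H, X ∈ S ∧ ∀ Y ∈ S, X * Y = Y * X}

theorem sylCentre_map {p : ℕ} (φ : H ≃* H) {X : H} (hX : X ∈ sylCentre p H) :
    φ X ∈ sylCentre p H := by
  obtain ⟨h1, S, hXS, hc⟩ := hX
  have hr : (S : Subgroup H) ≤ φ.symm.toMonoidHom.range := by
    intro y _
    exact ⟨φ y, by simp⟩
  have hinj : Function.Injective φ.symm.toMonoidHom := φ.symm.injective
  refine ⟨fun h => h1 (by simpa using h),
    S.comapOfInjective φ.symm.toMonoidHom hinj hr, ?_, ?_⟩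
  · show φ X ∈ ((S.comapOfInjective φ.symm.toMonoidHom hinj hr : Sylow p H) :
      Subgroup H)
    rw [Sylow.coe_comapOfInjective, Subgroup.mem_comap]
    have e : φ.symm.toMonoidHom (φ X) = X := by simp
    rw [e]
    exact hXS
  · intro Y hY
    have hY' : Y ∈ ((S.comapOfInjective φ.symm.toMonoidHom hinj hr : Sylow p H) :
      Subgroup H) := hY
    rw [Sylow.coe_comapOfInjective, Subgroup.mem_comap] at hY'
    have hY'' : φ.symm Y ∈ S := hY'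
    have := congrArg φ (hc _ hY'')
    simpa using this

theorem sylCentre_iff {p : ℕ} (φ : H ≃* H) (X : H) :
    φ X ∈ sylCentre p H ↔ X ∈ sylCentre p H := by
  constructor
  · intro h
    have := sylCentre_map φ.symm h
    simpa using this
  · exact sylCentre_map φ

end syl

section rel

variable {H : Type*} [Group H] (𝒟 : Set H)

/-- Strong commutation: the elements commute and their product is in `𝒟` or trivial. -/
def SRel (X Y : H) : Prop := Commute X Y ∧ (X * Y ∈ 𝒟 ∨ X * Y = 1)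

/-- Weak commutation: the elements commute but their product is neither in `𝒟` nor trivial. -/
def TRel (X Y : H) : Prop := Commute X Y ∧ ¬ (X * Y ∈ 𝒟 ∨ X * Y = 1)

/-- Elements of `𝒟` strongly commuting with both `X` and `Y`. -/
def MSet (X Y : H) : Set H := {Z | Z ∈ 𝒟 ∧ SRel 𝒟 Z X ∧ SRel 𝒟 Z Y}

/-- The "large perp" criterion. -/
def G3 (X Y : H) : Prop :=
  TRel 𝒟 X Y ∧ ∀ Z₁ Z₂, Z₁ ∈ MSet 𝒟 X Y → Z₂ ∈ MSet 𝒟 X Y → TRel 𝒟 Z₁ Z₂ →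
    ∃ W₁ W₂ W₃, (W₁ ∈ MSet 𝒟 X Y ∧ W₁ ∈ MSet 𝒟 Z₁ Z₂) ∧ (W₂ ∈ MSet 𝒟 X Y ∧ W₂ ∈ MSet 𝒟 Z₁ Z₂) ∧
      (W₃ ∈ MSet 𝒟 X Y ∧ W₃ ∈ MSet 𝒟 Z₁ Z₂) ∧ TRel 𝒟 W₁ W₂ ∧ TRel 𝒟 W₁ W₃ ∧ TRel 𝒟 W₂ W₃

variable {𝒟}

theorem srel_map (φ : H ≃* H) (h𝒟 : ∀ X, φ X ∈ 𝒟 ↔ X ∈ 𝒟) (X Y : H) :
    SRel 𝒟 (φ X) (φ Y) ↔ SRel 𝒟 X Y := by
  unfold SRel
  rw [← map_mul, h𝒟, map_eq_one_iff φ φ.injective]
  constructor
  · rintro ⟨h1, h2⟩
    refine ⟨?_, h2⟩
    have : φ (X * Y) = φ (Y * X) := by rw [map_mul, map_mul]; exact h1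
    exact φ.injective this
  · rintro ⟨h1, h2⟩
    refine ⟨?_, h2⟩
    show φ X * φ Y = φ Y * φ X
    rw [← map_mul, ← map_mul, h1.eq]

theorem trel_map (φ : H ≃* H) (h𝒟 : ∀ X, φ X ∈ 𝒟 ↔ X ∈ 𝒟) (X Y : H) :
    TRel 𝒟 (φ X) (φ Y) ↔ TRel 𝒟 X Y := by
  unfold TRel
  rw [← map_mul, h𝒟, map_eq_one_iff φ φ.injective]
  constructor
  · rintro ⟨h1, h2⟩
    refine ⟨?_, h2⟩
    have : φ (X * Y) = φ (Y * X) := by rw [map_mul, map_mul]; exact h1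
    exact φ.injective this
  · rintro ⟨h1, h2⟩
    refine ⟨?_, h2⟩
    show φ X * φ Y = φ Y * φ X
    rw [← map_mul, ← map_mul, h1.eq]

theorem mset_map (φ : H ≃* H) (h𝒟 : ∀ X, φ X ∈ 𝒟 ↔ X ∈ 𝒟) (X Y Z : H) :
    φ Z ∈ MSet 𝒟 (φ X) (φ Y) ↔ Z ∈ MSet 𝒟 X Y := by
  constructor
  · rintro ⟨a, b, c⟩
    exact ⟨(h𝒟 Z).mp a, (srel_map φ h𝒟 _ _).mp b, (srel_map φ h𝒟 _ _).mp c⟩
  · rintro ⟨a, b, c⟩
    exact ⟨(h𝒟 Z).mpr a, (srel_map φ h𝒟 _ _).mpr b, (srel_map φ h𝒟 _ _).mpr c⟩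

theorem g3_map_of (φ : H ≃* H) (h𝒟 : ∀ X, φ X ∈ 𝒟 ↔ X ∈ 𝒟) {X Y : H} (h : G3 𝒟 X Y) :
    G3 𝒟 (φ X) (φ Y) := by
  obtain ⟨hT, hall⟩ := h
  refine ⟨(trel_map φ h𝒟 X Y).mpr hT, ?_⟩
  intro Z₁ Z₂ h1 h2 h12
  obtain ⟨Z₁', rfl⟩ := φ.surjective Z₁
  obtain ⟨Z₂', rfl⟩ := φ.surjective Z₂
  rw [mset_map φ h𝒟] at h1 h2
  rw [trel_map φ h𝒟] at h12
  obtain ⟨W₁, W₂, W₃, ⟨a1, a2⟩, ⟨b1, b2⟩, ⟨c1, c2⟩, t12, t13, t23⟩ := hall Z₁' Z₂' h1 h2 h12
  refine ⟨φ W₁, φ W₂, φ W₃, ⟨?_, ?_⟩, ⟨?_, ?_⟩, ⟨?_, ?_⟩, ?_, ?_, ?_⟩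
  · exact (mset_map φ h𝒟 _ _ _).mpr a1
  · exact (mset_map φ h𝒟 _ _ _).mpr a2
  · exact (mset_map φ h𝒟 _ _ _).mpr b1
  · exact (mset_map φ h𝒟 _ _ _).mpr b2
  · exact (mset_map φ h𝒟 _ _ _).mpr c1
  · exact (mset_map φ h𝒟 _ _ _).mpr c2
  · exact (trel_map φ h𝒟 _ _).mpr t12
  · exact (trel_map φ h𝒟 _ _).mpr t13
  · exact (trel_map φ h𝒟 _ _).mpr t23

theorem g3_map (φ : H ≃* H) (h𝒟 : ∀ X, φ X ∈ 𝒟 ↔ X ∈ 𝒟) (X Y : H) :
    G3 𝒟 (φ X) (φ Y) ↔ G3 𝒟 X Y := by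
  constructor
  · intro h
    have h𝒟' : ∀ X, φ.symm X ∈ 𝒟 ↔ X ∈ 𝒟 := by
      intro X
      rw [← h𝒟 (φ.symm X)]
      simp
    have := g3_map_of φ.symm h𝒟' h
    simpa using this
  · exact g3_map_of φ h𝒟

end rel

end Cfsg.Agent.Lib.Helper14
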