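import Mathlib
import Cfsg.Agent.Lib.Helper14.EichlerGen

set_option autoImplicit false

namespace Cfsg.Agent.Lib.Helper14

open Matrix Module
open scoped commutatorElement

section perfect

variable {ι : Type} [Fintype ι] [DecidableEq ι] {F : Type*} [Field F]

/-- The Eichler transformation `ρ_{u,x}` lies in the derived subgroup of `Ω`. -/
def PD (Q : QuadraticForm F (ι → F)) (u x : ι → F) : Prop :=
  ∀ g : ↥(Cfsg.isometryGroup F ⇑Q),
    ((g : Matrix.GeneralLinearGroup ι F) : Matrix ι ι F) = eichMat Q u x →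
    g ∈ ⁅commutator ↥(Cfsg.isometryGroup F ⇑Q), commutator ↥(Cfsg.isometryGroup F ⇑Q)⁆

theorem PD_add (Q : QuadraticForm F (ι → F)) (hQ : (QuadraticMap.polarBilin Q).Nondegenerate)
    {u x x' : ι → F} (hu : Q u = 0) (hx : QuadraticMap.polar ⇑Q u x = 0)
    (hx' : QuadraticMap.polar ⇑Q u x' = 0) (h : PD Q u x) (h' : PD Q u x') :
    PD Q u (x + x') := by
  intro g hg
  have e : g = eichElt Q hQ u x hu hx * eichElt Q hQ u x' hu hx' := by
    apply isom_ext
    rw [hg, ← eichMat_mul Q hu hx hx']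
    rfl
  rw [e]
  exact Subgroup.mul_mem _ (h _ rfl) (h' _ rfl)

theorem PD_neg (Q : QuadraticForm F (ι → F)) (hQ : (QuadraticMap.polarBilin Q).Nondegenerate)
    {u x : ι → F} (hu : Q u = 0) (hx : QuadraticMap.polar ⇑Q u x = 0) (h : PD Q u x) :
    PD Q u (-x) := by
  intro g hg
  have hx' : QuadraticMap.polar ⇑Q u (-x) = 0 := by
    rw [QuadraticMap.polar_neg_right, hx, neg_zero]
  have e : g = (eichElt Q hQ u x hu hx)⁻¹ := by
    rw [eq_inv_iff_mul_eq_one]
    apply isom_ext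
    show ((g : Matrix.GeneralLinearGroup ι F) : Matrix ι ι F) * eichMat Q u x = 1
    rw [hg, eichMat_mul Q hu hx' hx, neg_add_cancel, eichMat_zero_right]
  rw [e]
  exact Subgroup.inv_mem _ (h _ rfl)

/-- Commutator of an element of `Ω` fixing `u` with an Eichler transformation. -/
theorem PD_comm [Fintype F] (Q : QuadraticForm F (ι → F))
    (hQ : (QuadraticMap.polarBilin Q).Nondegenerate) (hn : 5 ≤ Fintype.card ι) {u w : ι → F}
    (hu : Q u = 0) (huw : QuadraticMap.polar ⇑Q u w = 0) (h : ↥(Cfsg.isometryGroup F ⇑Q))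
    (hh : h ∈ commutator ↥(Cfsg.isometryGroup F ⇑Q))
    (hhu : ((h : Matrix.GeneralLinearGroup ι F) : Matrix ι ι F) *ᵥ u = u) :
    PD Q u (((h : Matrix.GeneralLinearGroup ι F) : Matrix ι ι F) *ᵥ w - w) := by
  intro g hg
  have hS := isom_preserves h
  have hpol : QuadraticMap.polar ⇑Q u
      (((h : Matrix.GeneralLinearGroup ι F) : Matrix ι ι F) *ᵥ w) = 0 := by
    have := polar_mulVec Q _ hS u w
    rw [hhu] at this
    rw [this]; exact huw
  have hpol' : QuadraticMap.polar ⇑Q u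
      (((h : Matrix.GeneralLinearGroup ι F) : Matrix ι ι F) *ᵥ w - w) = 0 := by
    rw [QuadraticMap.polar_sub_right, hpol, huw, sub_zero]
  have key : g * eichElt Q hQ u w hu huw * h = h * eichElt Q hQ u w hu huw := by
    apply isom_ext
    show ((g : Matrix.GeneralLinearGroup ι F) : Matrix ι ι F) * eichMat Q u w *
      ((h : Matrix.GeneralLinearGroup ι F) : Matrix ι ι F) =
      ((h : Matrix.GeneralLinearGroup ι F) : Matrix ι ι F) * eichMat Q u w
    rw [hg, eichMat_mul Q hu hpol' huw, sub_add_cancel, eichMat_conj Q _ hS u w, hhu]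
  have e : g = ⁅h, eichElt Q hQ u w hu huw⁆ := by
    rw [commutatorElement_def]
    exact eq_mul_inv_of_mul_eq (eq_mul_inv_of_mul_eq key)
  rw [e]
  exact Subgroup.commutator_mem_commutator hh (eich_mem_omega Q hQ hn hu huw _ rfl)

theorem PD_step2 [Fintype F] (Q : QuadraticForm F (ι → F))
    (hQ : (QuadraticMap.polarBilin Q).Nondegenerate) (hn : 5 ≤ Fintype.card ι)
    {u u' s y w0 : ι → F} (hu : Q u = 0) (hu' : Q u' = 0)
    (huu' : QuadraticMap.polar ⇑Q u u' = 0) (hus : QuadraticMap.polar ⇑Q u s = 0)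
    (hu's : QuadraticMap.polar ⇑Q u' s = 0) (huy : QuadraticMap.polar ⇑Q u y = 0)
    (hu'y : QuadraticMap.polar ⇑Q u' y = 0) (hsy : QuadraticMap.polar ⇑Q s y ≠ 0)
    (huw0 : QuadraticMap.polar ⇑Q u w0 = 0) (hu'w0 : QuadraticMap.polar ⇑Q u' w0 = 1) (c : F) :
    PD Q u (s - c • u') := by
  obtain ⟨t, ht⟩ : ∃ t : F, t = (c - QuadraticMap.polar ⇑Q s w0 - Q s) /
    QuadraticMap.polar ⇑Q s y := ⟨_, rfl⟩
  have htt : QuadraticMap.polar ⇑Q s w0 + t * QuadraticMap.polar ⇑Q s y + Q s = c := by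
    rw [ht]; field_simp; ring
  obtain ⟨w, hw⟩ : ∃ w : ι → F, w = w0 + t • y := ⟨_, rfl⟩
  have huw : QuadraticMap.polar ⇑Q u w = 0 := by
    rw [hw, QuadraticMap.polar_add_right, QuadraticMap.polar_smul_right, huw0, huy]; simp
  have hu'w : QuadraticMap.polar ⇑Q u' w = 1 := by
    rw [hw, QuadraticMap.polar_add_right, QuadraticMap.polar_smul_right, hu'w0, hu'y]; simp
  have hsw : QuadraticMap.polar ⇑Q s w =
      QuadraticMap.polar ⇑Q s w0 + t * QuadraticMap.polar ⇑Q s y := by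
    rw [hw, QuadraticMap.polar_add_right, QuadraticMap.polar_smul_right, smul_eq_mul]
  have hh := eich_mem_omega Q hQ hn hu' hu's (eichElt Q hQ u' s hu' hu's) rfl
  have hhu : eichMat Q u' s *ᵥ u = u := by
    rw [eichMat_mulVec, QuadraticMap.polar_comm (⇑Q) s u, hus, QuadraticMap.polar_comm (⇑Q) u' u,
      huu']
    simp
  have h1 := PD_comm Q hQ hn hu huw (eichElt Q hQ u' s hu' hu's) hh hhu
  have e : eichMat Q u' s *ᵥ w - w = s - c • u' := by
    rw [eichMat_mulVec, hu'w, hsw, mul_one, one_smul, ← htt]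
    abel
  rw [← e]
  exact h1

theorem PD_step3 [Fintype F] (Q : QuadraticForm F (ι → F))
    (hQ : (QuadraticMap.polarBilin Q).Nondegenerate) (hn : 5 ≤ Fintype.card ι)
    {u u' w0 : ι → F} (hu : Q u = 0) (hu' : Q u' = 0)
    (huu' : QuadraticMap.polar ⇑Q u u' = 0)
    (huw0 : QuadraticMap.polar ⇑Q u w0 = 0) (hu'w0 : QuadraticMap.polar ⇑Q u' w0 = 1)
    (x : ι → F) (hux : QuadraticMap.polar ⇑Q u x = 0) (hu'x : QuadraticMap.polar ⇑Q u' x = 0) :
    PD Q u x := by
  have hdim : 5 ≤ finrank F (ι → F) := by rw [Module.finrank_fintype_fun_eq_card]; exact hn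
  have hrank := finrank_le_inf_ker_ker (QuadraticMap.polarBilin Q u)
    (QuadraticMap.polarBilin Q u')
  have hex : ∃ s0 y0 : ι → F, QuadraticMap.polar ⇑Q u s0 = 0 ∧
      QuadraticMap.polar ⇑Q u' s0 = 0 ∧ QuadraticMap.polar ⇑Q u y0 = 0 ∧
      QuadraticMap.polar ⇑Q u' y0 = 0 ∧ QuadraticMap.polar ⇑Q s0 y0 ≠ 0 := by
    by_contra hcon
    push Not at hcon
    have := two_mul_finrank_le_of_isotropic hQ
      (X := LinearMap.ker (QuadraticMap.polarBilin Q u) ⊓
        LinearMap.ker (QuadraticMap.polarBilin Q u'))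
      (fun a ha b hb => hcon a b (LinearMap.mem_ker.mp ha.1) (LinearMap.mem_ker.mp ha.2)
        (LinearMap.mem_ker.mp hb.1) (LinearMap.mem_ker.mp hb.2))
    omega
  obtain ⟨s0, y0, hus0, hu's0, huy0, hu'y0, hsy0⟩ := hex
  have key : ∀ s : ι → F, QuadraticMap.polar ⇑Q u s = 0 → QuadraticMap.polar ⇑Q u' s = 0 →
      (∃ y : ι → F, QuadraticMap.polar ⇑Q u y = 0 ∧ QuadraticMap.polar ⇑Q u' y = 0 ∧
        QuadraticMap.polar ⇑Q s y ≠ 0) → PD Q u s := by
    rintro s hus hu's ⟨y, huy, hu'y, hsy⟩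
    have := PD_step2 Q hQ hn hu hu' huu' hus hu's huy hu'y hsy huw0 hu'w0 0
    rwa [zero_smul, sub_zero] at this
  by_cases hx : ∃ y : ι → F, QuadraticMap.polar ⇑Q u y = 0 ∧ QuadraticMap.polar ⇑Q u' y = 0 ∧
      QuadraticMap.polar ⇑Q x y ≠ 0
  · exact key x hux hu'x hx
  · push Not at hx
    have hux0 : QuadraticMap.polar ⇑Q u (x + s0) = 0 := by
      rw [QuadraticMap.polar_add_right, hux, hus0, add_zero]
    have h1 : PD Q u (x + s0) := key (x + s0) hux0
      (by rw [QuadraticMap.polar_add_right, hu'x, hu's0, add_zero])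
      ⟨y0, huy0, hu'y0, by
        rw [QuadraticMap.polar_add_left, hx y0 huy0 hu'y0, zero_add]; exact hsy0⟩
    have h2 : PD Q u s0 := key s0 hus0 hu's0 ⟨y0, huy0, hu'y0, hsy0⟩
    have h3 := PD_add Q hQ hu hux0
      (by rw [QuadraticMap.polar_neg_right, hus0, neg_zero]) h1 (PD_neg Q hQ hu hus0 h2)
    rwa [add_neg_cancel_right] at h3

/-- Every Eichler transformation lies in the derived subgroup of `Ω` (dimension at least five,
finite field). -/
theorem PD_all [Fintype F] (Q : QuadraticForm F (ι → F))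
    (hQ : (QuadraticMap.polarBilin Q).Nondegenerate) (hn : 5 ≤ Fintype.card ι)
    {u w : ι → F} (hu0 : u ≠ 0) (hu : Q u = 0) (huw : QuadraticMap.polar ⇑Q u w = 0) :
    PD Q u w := by
  have hTop : Cfsg.Agent.Lib.Helper99.QNondegOn Q ⊤ :=
    fun v _ hv => hQ.1 v (fun x => hv x Submodule.mem_top)
  obtain ⟨û, -, hQû, huû⟩ := Cfsg.Agent.Lib.Helper99.exists_hyp_partner Q ⊤ hTop
    (Submodule.mem_top (x := u)) hu0 hu
  have hM := Cfsg.Agent.Lib.Helper99.hyp_nondegOn Q hTop (Submodule.mem_top (x := u))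
    (Submodule.mem_top (x := û)) hu hQû huû
  have hMmem : ∀ m, m ∈ ((⊤ : Submodule F (ι → F)) ⊓ Cfsg.Agent.Lib.Helper99.qperp Q u û) ↔
      QuadraticMap.polar ⇑Q m u = 0 ∧ QuadraticMap.polar ⇑Q m û = 0 := by
    intro m
    rw [Submodule.mem_inf, Cfsg.Agent.Lib.Helper99.mem_qperp]
    simp
  have hrank := finrank_le_inf_ker_ker (QuadraticMap.polarBilin Q u)
    (QuadraticMap.polarBilin Q û)
  have hle : LinearMap.ker (QuadraticMap.polarBilin Q u) ⊓
      LinearMap.ker (QuadraticMap.polarBilin Q û) ≤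
      (⊤ : Submodule F (ι → F)) ⊓ Cfsg.Agent.Lib.Helper99.qperp Q u û := by
    intro m hm
    rw [hMmem]
    exact ⟨by rw [QuadraticMap.polar_comm]; exact LinearMap.mem_ker.mp hm.1,
      by rw [QuadraticMap.polar_comm]; exact LinearMap.mem_ker.mp hm.2⟩
  have hM3 : 3 ≤ finrank F
      ↥((⊤ : Submodule F (ι → F)) ⊓ Cfsg.Agent.Lib.Helper99.qperp Q u û) := by
    have := Submodule.finrank_mono hle
    rw [Module.finrank_fintype_fun_eq_card] at hrank
    omega
  obtain ⟨s1, hs1M, hs10, hQs1⟩ := Cfsg.Agent.Lib.Helper99.exists_isotropic Q _ hM3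
  obtain ⟨s2, hs2M, hQs2, hs12⟩ := Cfsg.Agent.Lib.Helper99.exists_hyp_partner Q _ hM hs1M hs10
    hQs1
  have hus1 : QuadraticMap.polar ⇑Q u s1 = 0 := by
    rw [QuadraticMap.polar_comm]; exact ((hMmem s1).mp hs1M).1
  have hus2 : QuadraticMap.polar ⇑Q u s2 = 0 := by
    rw [QuadraticMap.polar_comm]; exact ((hMmem s2).mp hs2M).1
  have hs21 : QuadraticMap.polar ⇑Q s2 s1 = 1 := by rw [QuadraticMap.polar_comm]; exact hs12
  have hs11 : QuadraticMap.polar ⇑Q s1 s1 = 0 := by rw [polar_self_eq, hQs1, mul_zero]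
  obtain ⟨c, hc⟩ : ∃ c, c = QuadraticMap.polar ⇑Q s2 w := ⟨_, rfl⟩
  have hp1 : QuadraticMap.polar ⇑Q u (c • s1) = 0 := by
    rw [QuadraticMap.polar_smul_right, hus1, smul_zero]
  have hp2 : QuadraticMap.polar ⇑Q u (w - c • s1) = 0 := by
    rw [QuadraticMap.polar_sub_right, hp1, huw, sub_zero]
  have h1 : PD Q u (c • s1) := PD_step3 Q hQ hn hu hQs1 hus1 hus2 hs12 (c • s1) hp1
    (by rw [QuadraticMap.polar_smul_right, hs11, smul_zero])
  have h2 : PD Q u (w - c • s1) := PD_step3 Q hQ hn hu hQs2 hus2 hus1 hs21 (w - c • s1) hp2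
    (by rw [QuadraticMap.polar_sub_right, QuadraticMap.polar_smul_right, hs21, ← hc]; simp)
  have h3 := PD_add Q hQ hu hp1 hp2 h1 h2
  rwa [add_sub_cancel] at h3

/-- `Ω` is perfect, as a statement about subgroups of the isometry group. -/
theorem omega_perfect_sub [Fintype F] (Q : QuadraticForm F (ι → F))
    (hQ : (QuadraticMap.polarBilin Q).Nondegenerate) (hn : 5 ≤ Fintype.card ι) :
    ⁅commutator ↥(Cfsg.isometryGroup F ⇑Q), commutator ↥(Cfsg.isometryGroup F ⇑Q)⁆ =
      commutator ↥(Cfsg.isometryGroup F ⇑Q) := by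
  apply le_antisymm (Subgroup.commutator_le_self _)
  have h1 : Subgroup.closure (eichSet Q) ≤
      ⁅commutator ↥(Cfsg.isometryGroup F ⇑Q), commutator ↥(Cfsg.isometryGroup F ⇑Q)⁆ := by
    rw [Subgroup.closure_le]
    rintro g ⟨u, w, hu, huw, hg⟩
    by_cases hu0 : u = 0
    · have : g = 1 := by
        apply isom_ext
        rw [hg, hu0, eichMat_zero_left]
        rfl
      rw [this]
      exact Subgroup.one_mem _
    · exact PD_all Q hQ hn hu0 hu huw g hg
  exact (omega_eq_closure_eich Q hQ hn).le.trans h1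

/-- `Ω` is perfect (dimension at least five, finite field). -/
theorem omega_perfect [Fintype F] (Q : QuadraticForm F (ι → F))
    (hQ : (QuadraticMap.polarBilin Q).Nondegenerate) (hn : 5 ≤ Fintype.card ι) :
    commutator ↥(commutator ↥(Cfsg.isometryGroup F ⇑Q)) = ⊤ := by
  have h := omega_perfect_sub Q hQ hn
  rw [← Subgroup.map_subtype_commutator] at h
  apply Subgroup.map_injective (Subgroup.subtype_injective _)
  rw [h, ← MonoidHom.range_eq_map, Subgroup.range_subtype]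

end perfect

end Cfsg.Agent.Lib.Helper14
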