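import Mathlib
import Cfsg.Agent.Lib.Helper14.OmegaPerfect

set_option autoImplicit false

namespace Cfsg.Agent.Lib.Helper14

open Matrix Module
open scoped Pointwise

/-- A primitivity criterion: an "opposition" relation such that point stabilisers are transitive
on opposite points, two non-opposite points have a common opposite point, and distinct
non-opposite points can be made opposite inside a block. -/
theorem isPreprimitive_of_opp {G X : Type*} [Group G] [MulAction G X]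
    [MulAction.IsPretransitive G X] (opp : X → X → Prop) (hsymm : ∀ p q, opp p q → opp q p)
    (hA : ∀ p q q', opp p q → opp p q' → ∃ g : G, g • p = p ∧ g • q = q')
    (hB' : ∀ p r, ¬ opp p r → ∃ s, opp p s ∧ opp r s)
    (hC : ∀ p p', p ≠ p' → ¬ opp p p' → ∃ g : G, g • p' = p' ∧ opp p (g • p)) :
    MulAction.IsPreprimitive G X where
  isTrivialBlock_of_isBlock {B} hB := by
    by_cases hsub : B.Subsingleton
    · exact Or.inl hsub
    right
    rw [Set.not_subsingleton_iff] at hsub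
    obtain ⟨p, hp, p', hp', hne⟩ := hsub
    have fixB : ∀ (g : G) (a : X), a ∈ B → g • a = a → ∀ b ∈ B, g • b ∈ B := by
      intro g a ha hga b hb
      have h := hB.smul_eq_of_mem ha (by rw [hga]; exact ha)
      rw [← h]
      exact Set.smul_mem_smul_set hb
    have step2 : ∀ a b, a ∈ B → b ∈ B → opp a b → ∀ s, opp a s → s ∈ B := by
      intro a b ha hb hab s has
      obtain ⟨g, hga, hgb⟩ := hA a b s hab has
      rw [← hgb]
      exact fixB g a ha hga b hb
    obtain ⟨q, hq, hpq⟩ : ∃ q ∈ B, opp p q := by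
      by_cases h : opp p p'
      · exact ⟨p', hp', h⟩
      · obtain ⟨g, hg, hopp⟩ := hC p p' hne h
        exact ⟨g • p, fixB g p' hp' hg p hp, hopp⟩
    rw [Set.eq_univ_iff_forall]
    intro r
    by_cases h : opp p r
    · exact step2 p q hp hq hpq r h
    · obtain ⟨s, hps, hrs⟩ := hB' p r h
      have hs : s ∈ B := step2 p q hp hq hpq s hps
      exact step2 s p hs hp (hsymm _ _ hps) r (hsymm _ _ hrs)

/-- Iwasawa's criterion in the form: the quotient by the centre is simple. -/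
theorem isSimpleGroup_quotient_center_of_iwasawa {G X : Type*} [Group G] [MulAction G X]
    [MulAction.IsPreprimitive G X] (IwaS : MulAction.IwasawaStructure G X)
    (hperf : commutator G = ⊤)
    (hfix : ∀ g : G, (∀ p : X, g • p = p) → g ∈ Subgroup.center G) (hne : ∃ g : G, g ≠ 1) :
    IsSimpleGroup (G ⧸ Subgroup.center G) := by
  have key : ∀ (N : Subgroup G) [N.Normal], N ≤ Subgroup.center G ∨ N = ⊤ := by
    intro N _
    by_cases hfixN : MulAction.fixedPoints N X = Set.univ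
    · left
      intro g hg
      apply hfix
      intro p
      have hp : p ∈ MulAction.fixedPoints N X := hfixN ▸ Set.mem_univ p
      exact hp ⟨g, hg⟩
    · right
      have h1 := IwaS.commutator_le N hfixN
      rw [hperf] at h1
      exact top_le_iff.1 h1
  have hcne : Subgroup.center G ≠ ⊤ := by
    intro hc
    obtain ⟨g, hg⟩ := hne
    have h1 : commutator G = ⊥ := (commutator_eq_bot_iff_center_eq_top _).2 hc
    rw [hperf] at h1
    have h2 : g ∈ (⊤ : Subgroup G) := Subgroup.mem_top g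
    rw [h1, Subgroup.mem_bot] at h2
    exact hg h2
  have hnt : Nontrivial (G ⧸ Subgroup.center G) := QuotientGroup.nontrivial_iff.2 hcne
  refine { toNontrivial := hnt, eq_bot_or_eq_top_of_normal := fun H hH => ?_ }
  have hN : (H.comap (QuotientGroup.mk' (Subgroup.center G))).Normal := hH.comap _
  rcases key (H.comap (QuotientGroup.mk' (Subgroup.center G))) with h1 | h1
  · left
    rw [eq_bot_iff]
    intro x hx
    obtain ⟨g, rfl⟩ := QuotientGroup.mk_surjective x
    have hg : g ∈ Subgroup.center G := h1 hx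
    rw [Subgroup.mem_bot]
    exact (QuotientGroup.eq_one_iff g).2 hg
  · right
    rw [eq_top_iff]
    intro x _
    obtain ⟨g, rfl⟩ := QuotientGroup.mk_surjective x
    have hg : g ∈ H.comap (QuotientGroup.mk' (Subgroup.center G)) := by
      rw [h1]
      exact Subgroup.mem_top g
    exact hg

section pts

variable {ι : Type} [Fintype ι] [DecidableEq ι] {F : Type*} [Field F]

/-- Singular points: the one-dimensional totally singular subspaces. -/
def SingPt (Q : QuadraticForm F (ι → F)) : Type _ :=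
  {U : Submodule F (ι → F) // finrank F U = 1 ∧ ∀ x ∈ U, Q x = 0}

theorem isom_mulVec_ne_zero (Q : (ι → F) → F) (g : ↥(Cfsg.isometryGroup F Q)) {u : ι → F}
    (hu : u ≠ 0) : ((g : Matrix.GeneralLinearGroup ι F) : Matrix ι ι F) *ᵥ u ≠ 0 := by
  intro h
  apply hu
  apply isom_mulVecLin_injective g
  rw [Matrix.mulVecLin_apply, h, map_zero]

/-- The action of the isometry group on singular points. -/
noncomputable instance singPtAction (Q : QuadraticForm F (ι → F)) :
    MulAction ↥(Cfsg.isometryGroup F ⇑Q) (SingPt Q) where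
  smul g U := ⟨U.1.map (Matrix.mulVecLin ((g : Matrix.GeneralLinearGroup ι F) : Matrix ι ι F)),
    by
      constructor
      · exact (LinearEquiv.finrank_eq
          (Submodule.equivMapOfInjective _ (isom_mulVecLin_injective g) U.1)).symm.trans U.2.1
      · rintro _ ⟨x, hx, rfl⟩
        rw [Matrix.mulVecLin_apply, isom_preserves g x]
        exact U.2.2 x hx⟩
  one_smul U := by
    apply Subtype.ext
    show U.1.map (Matrix.mulVecLin (1 : Matrix ι ι F)) = U.1
    rw [Matrix.mulVecLin_one, Submodule.map_id]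
  mul_smul g h U := by
    apply Subtype.ext
    show U.1.map (Matrix.mulVecLin (((g : Matrix.GeneralLinearGroup ι F) : Matrix ι ι F) *
      ((h : Matrix.GeneralLinearGroup ι F) : Matrix ι ι F))) =
      (U.1.map (Matrix.mulVecLin ((h : Matrix.GeneralLinearGroup ι F) : Matrix ι ι F))).map
        (Matrix.mulVecLin ((g : Matrix.GeneralLinearGroup ι F) : Matrix ι ι F))
    rw [Matrix.mulVecLin_mul, Submodule.map_comp]

theorem smul_singPt_val (Q : QuadraticForm F (ι → F)) (g : ↥(Cfsg.isometryGroup F ⇑Q))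
    (U : SingPt Q) : (g • U).1 =
      U.1.map (Matrix.mulVecLin ((g : Matrix.GeneralLinearGroup ι F) : Matrix ι ι F)) := rfl

/-- The singular point spanned by a non-zero singular vector. -/
def mkPt (Q : QuadraticForm F (ι → F)) (u : ι → F) (hu0 : u ≠ 0) (hu : Q u = 0) : SingPt Q :=
  ⟨Submodule.span F {u}, finrank_span_singleton hu0, by
    intro x hx
    obtain ⟨c, rfl⟩ := Submodule.mem_span_singleton.mp hx
    rw [QuadraticMap.map_smul, hu, smul_zero]⟩

theorem exists_rep (Q : QuadraticForm F (ι → F)) (U : SingPt Q) :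
    ∃ (u : ι → F) (hu0 : u ≠ 0) (hu : Q u = 0), U = mkPt Q u hu0 hu := by
  obtain ⟨v, hv0, hv⟩ := finrank_eq_one_iff'.mp U.2.1
  have hv0' : (v : ι → F) ≠ 0 := fun h => hv0 (Subtype.ext h)
  refine ⟨v, hv0', U.2.2 v v.2, ?_⟩
  apply Subtype.ext
  show U.1 = Submodule.span F {(v : ι → F)}
  apply le_antisymm
  · intro x hx
    obtain ⟨c, hc⟩ := hv ⟨x, hx⟩
    rw [Submodule.mem_span_singleton]
    exact ⟨c, by simpa using congrArg Subtype.val hc⟩
  · rw [Submodule.span_singleton_le_iff_mem]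
    exact v.2

theorem smul_mkPt (Q : QuadraticForm F (ι → F)) (g : ↥(Cfsg.isometryGroup F ⇑Q)) (u : ι → F)
    (hu0 : u ≠ 0) (hu : Q u = 0) :
    g • mkPt Q u hu0 hu = mkPt Q (((g : Matrix.GeneralLinearGroup ι F) : Matrix ι ι F) *ᵥ u)
      (isom_mulVec_ne_zero _ g hu0) (by rw [isom_preserves g u]; exact hu) := by
  apply Subtype.ext
  show (Submodule.span F {u}).map
    (Matrix.mulVecLin ((g : Matrix.GeneralLinearGroup ι F) : Matrix ι ι F)) =
    Submodule.span F {((g : Matrix.GeneralLinearGroup ι F) : Matrix ι ι F) *ᵥ u}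
  rw [Submodule.map_span, Set.image_singleton, Matrix.mulVecLin_apply]

theorem mkPt_eq_of_smul (Q : QuadraticForm F (ι → F)) {u v : ι → F} (hu0 : u ≠ 0) (hu : Q u = 0)
    (hv0 : v ≠ 0) (hv : Q v = 0) (c : F) (h : v = c • u) :
    mkPt Q v hv0 hv = mkPt Q u hu0 hu := by
  have hc : c ≠ 0 := by
    rintro rfl
    exact hv0 (by rw [h, zero_smul])
  apply Subtype.ext
  show Submodule.span F {v} = Submodule.span F {u}
  rw [h]
  exact Submodule.span_singleton_smul_eq (IsUnit.mk0 c hc) u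

/-- Two singular points are opposite if they are not orthogonal. -/
def opp (Q : QuadraticForm F (ι → F)) (U U' : SingPt Q) : Prop :=
  ∃ x ∈ U.1, ∃ y ∈ U'.1, QuadraticMap.polar ⇑Q x y ≠ 0

theorem opp_mkPt (Q : QuadraticForm F (ι → F)) {u v : ι → F} (hu0 : u ≠ 0) (hu : Q u = 0)
    (hv0 : v ≠ 0) (hv : Q v = 0) :
    opp Q (mkPt Q u hu0 hu) (mkPt Q v hv0 hv) ↔ QuadraticMap.polar ⇑Q u v ≠ 0 := by
  constructor
  · rintro ⟨x, hx, y, hy, h⟩
    obtain ⟨c, rfl⟩ := Submodule.mem_span_singleton.mp hx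
    obtain ⟨d, rfl⟩ := Submodule.mem_span_singleton.mp hy
    intro h0
    apply h
    rw [QuadraticMap.polar_smul_left, QuadraticMap.polar_smul_right, h0]
    simp
  · intro h
    exact ⟨u, Submodule.mem_span_singleton_self u, v, Submodule.mem_span_singleton_self v, h⟩

theorem opp_symm (Q : QuadraticForm F (ι → F)) (U U' : SingPt Q) (h : opp Q U U') :
    opp Q U' U := by
  obtain ⟨x, hx, y, hy, h⟩ := h
  exact ⟨y, hy, x, hx, by rw [QuadraticMap.polar_comm]; exact h⟩

/-- An Eichler transformation fixing `u` and moving `x` to `x'`. -/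
theorem eich_move (Q : QuadraticForm F (ι → F)) {u x x' : ι → F} (hu : Q u = 0) (hx : Q x = 0)
    (hx' : Q x' = 0) (hux : QuadraticMap.polar ⇑Q u x = 1)
    (hux' : QuadraticMap.polar ⇑Q u x' = 1) :
    QuadraticMap.polar ⇑Q u (x' - x) = 0 ∧ eichMat Q u (x' - x) *ᵥ u = u ∧
      eichMat Q u (x' - x) *ᵥ x = x' := by
  have huu : QuadraticMap.polar ⇑Q u u = 0 := by rw [polar_self_eq, hu, mul_zero]
  have hxx : QuadraticMap.polar ⇑Q x x = 0 := by rw [polar_self_eq, hx, mul_zero]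
  have hw : QuadraticMap.polar ⇑Q u (x' - x) = 0 := by
    rw [QuadraticMap.polar_sub_right, hux, hux', sub_self]
  refine ⟨hw, ?_, ?_⟩
  · rw [eichMat_mulVec, huu, QuadraticMap.polar_comm (⇑Q) (x' - x) u, hw]
    simp
  · have hQw : Q (x' - x) = - QuadraticMap.polar ⇑Q x' x := by
      have h := quad_sub_smul Q x' x 1
      rw [one_smul, hx, hx'] at h
      rw [h]; ring
    rw [eichMat_mulVec, hux, hQw, QuadraticMap.polar_sub_left, hxx]
    have : QuadraticMap.polar ⇑Q x' x - 0 + -QuadraticMap.polar ⇑Q x' x * 1 = 0 := by ring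
    rw [this]
    simp

theorem opp_transitive [Fintype F] (Q : QuadraticForm F (ι → F))
    (hQ : (QuadraticMap.polarBilin Q).Nondegenerate) (hn : 5 ≤ Fintype.card ι)
    (p q q' : SingPt Q) (h : opp Q p q) (h' : opp Q p q') :
    ∃ g : ↥(commutator ↥(Cfsg.isometryGroup F ⇑Q)), g • p = p ∧ g • q = q' := by
  obtain ⟨u, hu0, hu, rfl⟩ := exists_rep Q p
  obtain ⟨x, hx0, hx, rfl⟩ := exists_rep Q q
  obtain ⟨x', hx'0, hx', rfl⟩ := exists_rep Q q'
  rw [opp_mkPt] at h h'
  obtain ⟨a, ha⟩ : ∃ a, a = QuadraticMap.polar ⇑Q u x := ⟨_, rfl⟩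
  obtain ⟨a', ha'⟩ : ∃ a', a' = QuadraticMap.polar ⇑Q u x' := ⟨_, rfl⟩
  rw [← ha] at h
  rw [← ha'] at h'
  have hx1 : Q (a⁻¹ • x) = 0 := by rw [QuadraticMap.map_smul, hx, smul_zero]
  have hx1' : Q (a'⁻¹ • x') = 0 := by rw [QuadraticMap.map_smul, hx', smul_zero]
  have hux1 : QuadraticMap.polar ⇑Q u (a⁻¹ • x) = 1 := by
    rw [QuadraticMap.polar_smul_right, ← ha, smul_eq_mul, inv_mul_cancel₀ h]
  have hux1' : QuadraticMap.polar ⇑Q u (a'⁻¹ • x') = 1 := by
    rw [QuadraticMap.polar_smul_right, ← ha', smul_eq_mul, inv_mul_cancel₀ h']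
  obtain ⟨hw, hgu, hgx⟩ := eich_move Q hu hx1 hx1' hux1 hux1'
  have hg₀ := eich_mem_omega Q hQ hn hu hw (eichElt Q hQ u (a'⁻¹ • x' - a⁻¹ • x) hu hw) rfl
  refine ⟨⟨eichElt Q hQ u (a'⁻¹ • x' - a⁻¹ • x) hu hw, hg₀⟩, ?_, ?_⟩
  · show eichElt Q hQ u (a'⁻¹ • x' - a⁻¹ • x) hu hw • mkPt Q u hu0 hu = mkPt Q u hu0 hu
    rw [smul_mkPt]
    apply mkPt_eq_of_smul Q (c := 1)
    rw [one_smul]
    exact hgu
  · show eichElt Q hQ u (a'⁻¹ • x' - a⁻¹ • x) hu hw • mkPt Q x hx0 hx = mkPt Q x' hx'0 hx'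
    rw [smul_mkPt]
    apply mkPt_eq_of_smul Q (c := a * a'⁻¹)
    have e : x = a • (a⁻¹ • x) := by rw [smul_smul, mul_inv_cancel₀ h, one_smul]
    have e2 : eichMat Q u (a'⁻¹ • x' - a⁻¹ • x) *ᵥ (a • (a⁻¹ • x)) = (a * a'⁻¹) • x' := by
      rw [mulVec_smul, hgx, smul_smul]
    rw [← e] at e2
    exact e2

theorem exists_opp_both (Q : QuadraticForm F (ι → F))
    (hQ : (QuadraticMap.polarBilin Q).Nondegenerate) (p r : SingPt Q) (h : ¬ opp Q p r) :
    ∃ s, opp Q p s ∧ opp Q r s := by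
  obtain ⟨u, hu0, hu, rfl⟩ := exists_rep Q p
  obtain ⟨v, hv0, hv, rfl⟩ := exists_rep Q r
  rw [opp_mkPt, not_not] at h
  obtain ⟨zu, hzu⟩ := Cfsg.Agent.Lib.Helper44.exists_polar_ne_zero Q hQ hu0
  obtain ⟨zv, hzv⟩ := Cfsg.Agent.Lib.Helper44.exists_polar_ne_zero Q hQ hv0
  obtain ⟨y, -, hyu, hyv⟩ := Cfsg.Agent.Lib.Helper44.exists_mem_notMem_notMem
    (⊤ : Submodule F (ι → F)) (LinearMap.ker (QuadraticMap.polarBilin Q u))
    (LinearMap.ker (QuadraticMap.polarBilin Q v))
    (fun hle => hzu (LinearMap.mem_ker.mp (hle (Submodule.mem_top (x := zu)))))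
    (fun hle => hzv (LinearMap.mem_ker.mp (hle (Submodule.mem_top (x := zv)))))
  have hyu' : QuadraticMap.polar ⇑Q u y ≠ 0 := fun h0 => hyu (LinearMap.mem_ker.mpr h0)
  have hyv' : QuadraticMap.polar ⇑Q v y ≠ 0 := fun h0 => hyv (LinearMap.mem_ker.mpr h0)
  obtain ⟨c, hc⟩ : ∃ c, c = Q y / QuadraticMap.polar ⇑Q u y := ⟨_, rfl⟩
  have hs : Q (y - c • u) = 0 := by
    rw [quad_sub_smul, hu, QuadraticMap.polar_comm (⇑Q) y u, hc]
    field_simp
    ring
  have hus : QuadraticMap.polar ⇑Q u (y - c • u) = QuadraticMap.polar ⇑Q u y := by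
    rw [QuadraticMap.polar_sub_right, QuadraticMap.polar_smul_right, polar_self_eq, hu]
    simp
  have hvs : QuadraticMap.polar ⇑Q v (y - c • u) = QuadraticMap.polar ⇑Q v y := by
    rw [QuadraticMap.polar_sub_right, QuadraticMap.polar_smul_right,
      QuadraticMap.polar_comm (⇑Q) v u, h]
    simp
  have hs0 : y - c • u ≠ 0 := by
    intro h0
    rw [h0, QuadraticMap.polar_zero_right] at hus
    exact hyu' hus.symm
  refine ⟨mkPt Q _ hs0 hs, ?_, ?_⟩
  · rw [opp_mkPt, hus]; exact hyu'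
  · rw [opp_mkPt, hvs]; exact hyv'

theorem exists_move_opp [Fintype F] (Q : QuadraticForm F (ι → F))
    (hQ : (QuadraticMap.polarBilin Q).Nondegenerate) (hn : 5 ≤ Fintype.card ι)
    (p p' : SingPt Q) (hne : p ≠ p') (h : ¬ opp Q p p') :
    ∃ g : ↥(commutator ↥(Cfsg.isometryGroup F ⇑Q)), g • p' = p' ∧ opp Q p (g • p) := by
  obtain ⟨u, hu0, hu, rfl⟩ := exists_rep Q p
  obtain ⟨u', hu'0, hu', rfl⟩ := exists_rep Q p'
  rw [opp_mkPt, not_not] at h
  have hy0 : ∃ y0, QuadraticMap.polar ⇑Q u' y0 = 0 ∧ QuadraticMap.polar ⇑Q u y0 ≠ 0 := by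
    by_contra hcon
    push Not at hcon
    obtain ⟨a, ha⟩ := Cfsg.Agent.Lib.Helper44.exists_smul_of_orth Q hQ (v := u) (w := u') hcon
    exact hne (mkPt_eq_of_smul Q hu'0 hu' hu0 hu a ha.symm)
  obtain ⟨y0, hu'y0, huy0⟩ := hy0
  obtain ⟨y, hy⟩ : ∃ y, y = (QuadraticMap.polar ⇑Q u y0)⁻¹ • y0 := ⟨_, rfl⟩
  have huy : QuadraticMap.polar ⇑Q u y = 1 := by
    rw [hy, QuadraticMap.polar_smul_right, smul_eq_mul, inv_mul_cancel₀ huy0]
  have hu'y : QuadraticMap.polar ⇑Q u' y = 0 := by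
    rw [hy, QuadraticMap.polar_smul_right, hu'y0, smul_zero]
  obtain ⟨s, hs⟩ : ∃ s, s = y - Q y • u := ⟨_, rfl⟩
  have hQs : Q s = 0 := by
    rw [hs, quad_sub_smul, hu, QuadraticMap.polar_comm (⇑Q) y u, huy]; ring
  have hsu : QuadraticMap.polar ⇑Q s u = 1 := by
    rw [hs, QuadraticMap.polar_sub_left, QuadraticMap.polar_smul_left, polar_self_eq, hu,
      QuadraticMap.polar_comm (⇑Q) y u, huy]
    simp
  have hsu' : QuadraticMap.polar ⇑Q s u' = 0 := by
    rw [hs, QuadraticMap.polar_sub_left, QuadraticMap.polar_smul_left, h,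
      QuadraticMap.polar_comm (⇑Q) y u', hu'y]
    simp
  have hdim : 5 ≤ finrank F (ι → F) := by rw [Module.finrank_fintype_fun_eq_card]; exact hn
  have hrank := finrank_le_inf_ker_ker (QuadraticMap.polarBilin Q s)
    (QuadraticMap.polarBilin Q u')
  obtain ⟨w, hw, hQw⟩ := exists_nonsingular_of_finrank hQ
    (X := LinearMap.ker (QuadraticMap.polarBilin Q s) ⊓
      LinearMap.ker (QuadraticMap.polarBilin Q u')) (by omega)
  have hsw : QuadraticMap.polar ⇑Q s w = 0 := LinearMap.mem_ker.mp hw.1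
  have hu'w : QuadraticMap.polar ⇑Q u' w = 0 := LinearMap.mem_ker.mp hw.2
  have hg₀ := eich_mem_omega Q hQ hn hQs hsw (eichElt Q hQ s w hQs hsw) rfl
  refine ⟨⟨eichElt Q hQ s w hQs hsw, hg₀⟩, ?_, ?_⟩
  · show eichElt Q hQ s w hQs hsw • mkPt Q u' hu'0 hu' = mkPt Q u' hu'0 hu'
    rw [smul_mkPt]
    apply mkPt_eq_of_smul Q (c := 1)
    rw [one_smul]
    show eichMat Q s w *ᵥ u' = u'
    rw [eichMat_mulVec, hsu', QuadraticMap.polar_comm (⇑Q) w u', hu'w]
    simp
  · show opp Q (mkPt Q u hu0 hu) (eichElt Q hQ s w hQs hsw • mkPt Q u hu0 hu)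
    rw [smul_mkPt, opp_mkPt]
    have e : QuadraticMap.polar ⇑Q u (eichMat Q s w *ᵥ u) = - Q w := by
      rw [eichMat_mulVec, hsu, QuadraticMap.polar_sub_right, QuadraticMap.polar_add_right,
        QuadraticMap.polar_smul_right, QuadraticMap.polar_smul_right, polar_self_eq, hu,
        QuadraticMap.polar_comm (⇑Q) u s, hsu, QuadraticMap.polar_comm (⇑Q) w u]
      simp
    show QuadraticMap.polar ⇑Q u (eichMat Q s w *ᵥ u) ≠ 0
    rw [e]
    exact neg_ne_zero.mpr hQw

theorem omega_pretransitive [Fintype F] (Q : QuadraticForm F (ι → F))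
    (hQ : (QuadraticMap.polarBilin Q).Nondegenerate) (hn : 5 ≤ Fintype.card ι) :
    MulAction.IsPretransitive ↥(commutator ↥(Cfsg.isometryGroup F ⇑Q)) (SingPt Q) := by
  constructor
  intro U W
  obtain ⟨g, hg, hmap⟩ := Cfsg.Agent.Lib.Helper44.omega_transitive_singular Q hQ
    (Or.inr (by omega)) U.1 W.1 (k := 1) (by omega) U.2.1 W.2.1 U.2.2 W.2.2
  exact ⟨⟨g, hg⟩, Subtype.ext hmap⟩

/-- `Ω` acts primitively on the singular points (dimension at least five). -/
theorem omega_preprimitive [Fintype F] (Q : QuadraticForm F (ι → F))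
    (hQ : (QuadraticMap.polarBilin Q).Nondegenerate) (hn : 5 ≤ Fintype.card ι) :
    MulAction.IsPreprimitive ↥(commutator ↥(Cfsg.isometryGroup F ⇑Q)) (SingPt Q) := by
  have := omega_pretransitive Q hQ hn
  exact isPreprimitive_of_opp (opp Q) (opp_symm Q) (opp_transitive Q hQ hn)
    (exists_opp_both Q hQ) (exists_move_opp Q hQ hn)

end pts

end Cfsg.Agent.Lib.Helper14
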