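import Mathlib
import Cfsg.Agent.Lib.Helper14.SingPts
import Cfsg.Agent.Lib.Helper44.SiegelOmega

set_option autoImplicit false

namespace Cfsg.Agent.Lib.Helper14

open Matrix Module

section parabolic

variable {ι : Type} [Fintype ι] [DecidableEq ι] {F : Type*} [Field F]

theorem isom_inv_mulVec (Q : (ι → F) → F) (h : ↥(Cfsg.isometryGroup F Q)) (x : ι → F) :
    (((h⁻¹ : ↥(Cfsg.isometryGroup F Q)) : Matrix.GeneralLinearGroup ι F) : Matrix ι ι F) *ᵥ
      (((h : Matrix.GeneralLinearGroup ι F) : Matrix ι ι F) *ᵥ x) = x := by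
  rw [Matrix.mulVec_mulVec, ← Units.val_mul, ← Subgroup.coe_mul, inv_mul_cancel, Subgroup.coe_one,
    Units.val_one, Matrix.one_mulVec]

theorem isom_mulVec_inv (Q : (ι → F) → F) (h : ↥(Cfsg.isometryGroup F Q)) (x : ι → F) :
    ((h : Matrix.GeneralLinearGroup ι F) : Matrix ι ι F) *ᵥ
      ((((h⁻¹ : ↥(Cfsg.isometryGroup F Q)) : Matrix.GeneralLinearGroup ι F) : Matrix ι ι F) *ᵥ x)
        = x := by
  rw [Matrix.mulVec_mulVec, ← Units.val_mul, ← Subgroup.coe_mul, mul_inv_cancel, Subgroup.coe_one,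
    Units.val_one, Matrix.one_mulVec]

/-- The root group at the singular vector `u` (all Eichler transformations `ρ_{u,w}`) is
contained in `H`. -/
def rootIn (Q : QuadraticForm F (ι → F)) (H : Subgroup ↥(Cfsg.isometryGroup F ⇑Q))
    (u : ι → F) : Prop :=
  ∀ w : ι → F, QuadraticMap.polar ⇑Q u w = 0 → ∀ g : ↥(Cfsg.isometryGroup F ⇑Q),
    ((g : Matrix.GeneralLinearGroup ι F) : Matrix ι ι F) = eichMat Q u w → g ∈ H

theorem rootIn_zero (Q : QuadraticForm F (ι → F)) (H : Subgroup ↥(Cfsg.isometryGroup F ⇑Q)) :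
    rootIn Q H 0 := by
  intro w _ g hg
  rw [eichMat_zero_left] at hg
  have : g = 1 := isom_ext hg
  rw [this]
  exact H.one_mem

theorem rootIn_conj (Q : QuadraticForm F (ι → F)) (H : Subgroup ↥(Cfsg.isometryGroup F ⇑Q))
    {u : ι → F} (hu : rootIn Q H u) (h : ↥(Cfsg.isometryGroup F ⇑Q)) (hh : h ∈ H) :
    rootIn Q H (((h : Matrix.GeneralLinearGroup ι F) : Matrix ι ι F) *ᵥ u) := by
  intro w' hw' g hg
  have key : h⁻¹ * g * h ∈ H := by
    apply hu ((((h⁻¹ : ↥(Cfsg.isometryGroup F ⇑Q)) : Matrix.GeneralLinearGroup ι F) :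
      Matrix ι ι F) *ᵥ w')
    · have := polar_mulVec Q _ (isom_preserves h⁻¹)
        (((h : Matrix.GeneralLinearGroup ι F) : Matrix ι ι F) *ᵥ u) w'
      rw [isom_inv_mulVec] at this
      rw [this]
      exact hw'
    · simp only [Subgroup.coe_mul, Units.val_mul]
      rw [hg, eichMat_conj Q _ (isom_preserves h⁻¹), isom_inv_mulVec, mul_assoc, ← Units.val_mul,
        ← Subgroup.coe_mul, inv_mul_cancel, Subgroup.coe_one, Units.val_one, mul_one]
  have e : g = h * (h⁻¹ * g * h) * h⁻¹ := by group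
  rw [e]
  exact H.mul_mem (H.mul_mem hh key) (H.inv_mem hh)

theorem rootIn_smul (Q : QuadraticForm F (ι → F)) (H : Subgroup ↥(Cfsg.isometryGroup F ⇑Q))
    {u : ι → F} (hu : rootIn Q H u) (c : F) : rootIn Q H (c • u) := by
  intro w hw g hg
  rw [eichMat_smul_left] at hg
  apply hu (c • w) _ g hg
  rw [QuadraticMap.polar_smul_right, ← QuadraticMap.polar_smul_left]
  exact hw

theorem rootIn_opp (Q : QuadraticForm F (ι → F))
    (hQ : (QuadraticMap.polarBilin Q).Nondegenerate) (H : Subgroup ↥(Cfsg.isometryGroup F ⇑Q))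
    {u x x' : ι → F} (hu : Q u = 0) (hx : Q x = 0) (hx' : Q x' = 0)
    (hRu : rootIn Q H u) (hRx : rootIn Q H x) (hux : QuadraticMap.polar ⇑Q u x ≠ 0)
    (hux' : QuadraticMap.polar ⇑Q u x' ≠ 0) : rootIn Q H x' := by
  obtain ⟨a, ha⟩ : ∃ a, a = QuadraticMap.polar ⇑Q u x := ⟨_, rfl⟩
  obtain ⟨a', ha'⟩ : ∃ a', a' = QuadraticMap.polar ⇑Q u x' := ⟨_, rfl⟩
  rw [← ha] at hux
  rw [← ha'] at hux'
  have hx1 : Q (a⁻¹ • x) = 0 := by rw [QuadraticMap.map_smul, hx, smul_zero]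
  have hx1' : Q (a'⁻¹ • x') = 0 := by rw [QuadraticMap.map_smul, hx', smul_zero]
  have hux1 : QuadraticMap.polar ⇑Q u (a⁻¹ • x) = 1 := by
    rw [QuadraticMap.polar_smul_right, ← ha, smul_eq_mul, inv_mul_cancel₀ hux]
  have hux1' : QuadraticMap.polar ⇑Q u (a'⁻¹ • x') = 1 := by
    rw [QuadraticMap.polar_smul_right, ← ha', smul_eq_mul, inv_mul_cancel₀ hux']
  obtain ⟨hw, -, hgx⟩ := eich_move Q hu hx1 hx1' hux1 hux1'
  have hg : eichElt Q hQ u (a'⁻¹ • x' - a⁻¹ • x) hu hw ∈ H := hRu _ hw _ rfl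
  have h1 := rootIn_conj Q H (rootIn_smul Q H hRx a⁻¹) _ hg
  rw [eichElt_coe, hgx] at h1
  have h2 := rootIn_smul Q H h1 a'
  rw [smul_smul, mul_inv_cancel₀ hux', one_smul] at h2
  exact h2

theorem rootIn_all (Q : QuadraticForm F (ι → F))
    (hQ : (QuadraticMap.polarBilin Q).Nondegenerate) (H : Subgroup ↥(Cfsg.isometryGroup F ⇑Q))
    {u v : ι → F} (hu : Q u = 0) (hv : Q v = 0) (huv : QuadraticMap.polar ⇑Q u v ≠ 0)
    (hRu : rootIn Q H u) (hRv : rootIn Q H v) (r : ι → F) (hr : Q r = 0) : rootIn Q H r := by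
  by_cases h : QuadraticMap.polar ⇑Q u r = 0
  · by_cases hr0 : r = 0
    · rw [hr0]; exact rootIn_zero Q H
    have hu0 : u ≠ 0 := by
      rintro rfl
      exact huv (QuadraticMap.polar_zero_left _ _)
    obtain ⟨s, hs1, hs2⟩ := exists_opp_both Q hQ (mkPt Q u hu0 hu) (mkPt Q r hr0 hr)
      (by rw [opp_mkPt, not_not]; exact h)
    obtain ⟨s', hs'0, hs', rfl⟩ := exists_rep Q s
    rw [opp_mkPt] at hs1 hs2
    have hRs : rootIn Q H s' := rootIn_opp Q hQ H hu hv hs' hRu hRv huv hs1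
    exact rootIn_opp Q hQ H hs' hu hr hRs hRu
      (by rw [QuadraticMap.polar_comm]; exact hs1) (by rw [QuadraticMap.polar_comm]; exact hs2)
  · exact rootIn_opp Q hQ H hu hv hr hRu hRv huv h

theorem omega_le_of_rootIn [Fintype F] (Q : QuadraticForm F (ι → F))
    (hQ : (QuadraticMap.polarBilin Q).Nondegenerate) (hn : 5 ≤ Fintype.card ι)
    (H : Subgroup ↥(Cfsg.isometryGroup F ⇑Q)) (hall : ∀ r, Q r = 0 → rootIn Q H r) :
    commutator ↥(Cfsg.isometryGroup F ⇑Q) ≤ H := by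
  rw [omega_eq_closure_eich Q hQ hn, Subgroup.closure_le]
  rintro g ⟨u, w, hu, huw, hg⟩
  exact hall u hu w huw g hg

theorem eich_stab (Q : QuadraticForm F (ι → F)) {W : Submodule F (ι → F)}
    (hW : ∀ x ∈ W, Q x = 0) {u : ι → F} (huW : u ∈ W) (w : ι → F) :
    ∀ x ∈ W, eichMat Q u w *ᵥ x ∈ W := by
  intro x hx
  rw [eichMat_mulVec, polar_eq_zero_of_ts hW huW hx, zero_smul, add_zero]
  exact W.sub_mem hx (W.smul_mem _ huW)

theorem ts_sup_span (Q : QuadraticForm F (ι → F)) {W : Submodule F (ι → F)}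
    (hW : ∀ x ∈ W, Q x = 0) {s : ι → F} (hs : Q s = 0)
    (hsW : ∀ x ∈ W, QuadraticMap.polar ⇑Q x s = 0) :
    ∀ x ∈ W ⊔ Submodule.span F {s}, Q x = 0 := by
  intro x hx
  obtain ⟨a, ha, b, hb, rfl⟩ := Submodule.mem_sup.mp hx
  obtain ⟨c, rfl⟩ := Submodule.mem_span_singleton.mp hb
  rw [QuadraticMap.map_add (⇑Q) a (c • s), hW a ha, QuadraticMap.map_smul, hs,
    QuadraticMap.polar_smul_right, hsW a ha]
  simp

/-- Core of the maximality of parabolic subgroups of `Ω`: an overgroup in `Ω` of the stabiliser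
of a totally singular subspace `W` either stabilises `W` or is `Ω`. -/
theorem parabolic_max [Fintype F] (Q : QuadraticForm F (ι → F))
    (hQ : (QuadraticMap.polarBilin Q).Nondegenerate) (hn : 5 ≤ Fintype.card ι)
    (W : Submodule F (ι → F)) (hW : ∀ x ∈ W, Q x = 0)
    (hmov : ∀ S : Submodule F (ι → F), W < S → (∀ x ∈ S, Q x = 0) →
      2 * (finrank F W + 1) < Fintype.card ι)
    (M : Subgroup ↥(Cfsg.isometryGroup F ⇑Q))
    (hPM : ∀ g ∈ commutator ↥(Cfsg.isometryGroup F ⇑Q),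
      (∀ x ∈ W, ((g : Matrix.GeneralLinearGroup ι F) : Matrix ι ι F) *ᵥ x ∈ W) → g ∈ M) :
    (∀ g ∈ M, ∀ x ∈ W, ((g : Matrix.GeneralLinearGroup ι F) : Matrix ι ι F) *ᵥ x ∈ W) ∨
      commutator ↥(Cfsg.isometryGroup F ⇑Q) ≤ M := by
  have hroot : ∀ u ∈ W, rootIn Q M u := by
    intro u hu w huw g hg
    apply hPM g (eich_mem_omega Q hQ hn (hW u hu) huw g hg)
    intro x hx
    rw [hg]
    exact eich_stab Q hW hu w x hx
  by_cases hc : ∃ h ∈ M, ∃ x ∈ W, ∃ y ∈ W, QuadraticMap.polar ⇑Q x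
      (((h : Matrix.GeneralLinearGroup ι F) : Matrix ι ι F) *ᵥ y) ≠ 0
  · right
    obtain ⟨h, hh, x, hx, y, hy, hxy⟩ := hc
    apply omega_le_of_rootIn Q hQ hn M
    exact rootIn_all Q hQ M (hW x hx) ((isom_preserves h y).trans (hW y hy)) hxy (hroot x hx)
      (rootIn_conj Q M (hroot y hy) h hh)
  · left
    push Not at hc
    by_contra hcon
    push Not at hcon
    obtain ⟨h₀, hh₀, y₀, hy₀, hs⟩ := hcon
    obtain ⟨s, hsdef⟩ : ∃ s, s = ((h₀ : Matrix.GeneralLinearGroup ι F) : Matrix ι ι F) *ᵥ y₀ :=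
      ⟨_, rfl⟩
    rw [← hsdef] at hs
    have hQs : Q s = 0 := by rw [hsdef]; exact (isom_preserves h₀ y₀).trans (hW y₀ hy₀)
    have hsW : ∀ x ∈ W, QuadraticMap.polar ⇑Q x s = 0 := fun x hx => by
      rw [hsdef]; exact hc h₀ hh₀ x hx y₀ hy₀
    have hss : QuadraticMap.polar ⇑Q s s = 0 := by rw [polar_self_eq, hQs, mul_zero]
    have hdim : 2 * (finrank F W + 1) < Fintype.card ι := by
      apply hmov (W ⊔ Submodule.span F {s})
      · apply lt_of_le_of_ne le_sup_left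
        intro heq
        apply hs
        rw [heq]
        exact Submodule.mem_sup_right (Submodule.mem_span_singleton_self s)
      · exact ts_sup_span Q hW hQs hsW
    obtain ⟨y, hyW, hys⟩ : ∃ y, (∀ x ∈ W, QuadraticMap.polar ⇑Q x y = 0) ∧
        QuadraticMap.polar ⇑Q y s ≠ 0 := by
      by_contra hcon2
      push Not at hcon2
      apply hs
      rw [← Cfsg.Agent.Lib.Helper44.orth_orth Q hQ W, Cfsg.Agent.Lib.Helper44.mem_orth_iff]
      intro y hy
      rw [Cfsg.Agent.Lib.Helper44.mem_orth_iff] at hy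
      exact hcon2 y hy
    obtain ⟨c, hcdef⟩ : ∃ c, c = Q y / QuadraticMap.polar ⇑Q y s := ⟨_, rfl⟩
    obtain ⟨u, hudef⟩ : ∃ u, u = y - c • s := ⟨_, rfl⟩
    have hQu : Q u = 0 := by
      rw [hudef, quad_sub_smul, hQs, hcdef]
      field_simp
      ring
    have huW : ∀ x ∈ W, QuadraticMap.polar ⇑Q x u = 0 := by
      intro x hx
      rw [hudef, QuadraticMap.polar_sub_right, QuadraticMap.polar_smul_right, hyW x hx,
        hsW x hx]
      simp
    have hus : QuadraticMap.polar ⇑Q u s = QuadraticMap.polar ⇑Q y s := by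
      rw [hudef, QuadraticMap.polar_sub_left, QuadraticMap.polar_smul_left, hss]
      simp
    -- a non-singular vector in `W^⊥ ∩ u^⊥`
    have hfin : finrank F (ι → F) = Fintype.card ι := Module.finrank_fintype_fun_eq_card F
    have h1 := Cfsg.Agent.Lib.Helper44.finrank_orth Q hQ W
    have h2 := finrank_le_inf_ker_add_one (QuadraticMap.polarBilin Q u)
      (Cfsg.Agent.Lib.Helper44.orth Q W)
    have h3 := Submodule.finrank_le W
    obtain ⟨w, hwX, hQw⟩ := exists_nonsingular_of_finrank hQ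
      (X := Cfsg.Agent.Lib.Helper44.orth Q W ⊓ LinearMap.ker (QuadraticMap.polarBilin Q u))
      (by omega)
    have hwW : ∀ x ∈ W, QuadraticMap.polar ⇑Q x w = 0 :=
      (Cfsg.Agent.Lib.Helper44.mem_orth_iff Q W w).mp hwX.1
    have huw : QuadraticMap.polar ⇑Q u w = 0 := LinearMap.mem_ker.mp hwX.2
    have hρM : eichElt Q hQ u w hQu huw ∈ M := by
      apply hPM _ (eich_mem_omega Q hQ hn hQu huw _ rfl)
      intro x hx
      rw [eichElt_coe, eichMat_mulVec, QuadraticMap.polar_comm (⇑Q) u x, huW x hx,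
        QuadraticMap.polar_comm (⇑Q) w x, hwW x hx]
      simp only [zero_smul, add_zero, mul_zero, sub_zero]
      exact hx
    have hfin := hc (h₀⁻¹ * eichElt Q hQ u w hQu huw * h₀)
      (M.mul_mem (M.mul_mem (M.inv_mem hh₀) hρM) hh₀) y₀ hy₀ y₀ hy₀
    have e1 : QuadraticMap.polar ⇑Q y₀
        ((((h₀⁻¹ * eichElt Q hQ u w hQu huw * h₀ : ↥(Cfsg.isometryGroup F ⇑Q)) :
          Matrix.GeneralLinearGroup ι F) : Matrix ι ι F) *ᵥ y₀) =
        QuadraticMap.polar ⇑Q s (eichMat Q u w *ᵥ s) := by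
      have := polar_mulVec Q _ (isom_preserves h₀) y₀
        ((((h₀⁻¹ * eichElt Q hQ u w hQu huw * h₀ : ↥(Cfsg.isometryGroup F ⇑Q)) :
          Matrix.GeneralLinearGroup ι F) : Matrix ι ι F) *ᵥ y₀)
      rw [← this, ← hsdef]
      congr 1
      simp only [Subgroup.coe_mul, Units.val_mul]
      rw [← Matrix.mulVec_mulVec, ← Matrix.mulVec_mulVec, isom_mulVec_inv, eichElt_coe, ← hsdef]
    rw [e1] at hfin
    have e2 : QuadraticMap.polar ⇑Q s (eichMat Q u w *ᵥ s) =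
        - (Q w * QuadraticMap.polar ⇑Q y s * QuadraticMap.polar ⇑Q y s) := by
      rw [eichMat_mulVec, QuadraticMap.polar_sub_right, QuadraticMap.polar_add_right,
        QuadraticMap.polar_smul_right, QuadraticMap.polar_smul_right, hss,
        QuadraticMap.polar_comm (⇑Q) s u, hus, QuadraticMap.polar_comm (⇑Q) s w]
      simp only [smul_eq_mul]
      ring
    rw [e2] at hfin
    have : Q w * QuadraticMap.polar ⇑Q y s * QuadraticMap.polar ⇑Q y s ≠ 0 :=
      mul_ne_zero (mul_ne_zero hQw hys) hys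
    exact this (neg_eq_zero.mp hfin)

/-- Maximality of parabolic subgroups of `Ω`, in the form of the statements. -/
theorem parabolic_isMaximalIn [Fintype F] (Q : QuadraticForm F (ι → F))
    (hQ : (QuadraticMap.polarBilin Q).Nondegenerate) (hn : 5 ≤ Fintype.card ι)
    (W : Submodule F (ι → F)) (hW0 : W ≠ ⊥) (hW : ∀ x ∈ W, Q x = 0)
    (hmov : ∀ S : Submodule F (ι → F), W < S → (∀ x ∈ S, Q x = 0) →
      2 * (finrank F W + 1) < Fintype.card ι) :
    Cfsg.Geo.IsMaximalIn (Cfsg.Geo.omegaGL ⇑Q)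
      (Cfsg.Geo.subspaceStabilizer W ⊓ Cfsg.Geo.omegaGL ⇑Q) := by
  constructor
  · refine lt_of_le_of_ne inf_le_right ?_
    intro heq
    obtain ⟨u, huW, hu0⟩ := Submodule.exists_mem_ne_zero_of_ne_bot hW0
    have huu : QuadraticMap.polar ⇑Q u u = 0 := by rw [polar_self_eq, hW u huW, mul_zero]
    obtain ⟨s, hs, -⟩ := exists_opp_both Q hQ (mkPt Q u hu0 (hW u huW))
      (mkPt Q u hu0 (hW u huW)) (by rw [opp_mkPt, not_not]; exact huu)
    have := omega_pretransitive Q hQ hn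
    obtain ⟨g, hg⟩ := MulAction.exists_smul_eq (commutator ↥(Cfsg.isometryGroup F ⇑Q))
      (mkPt Q u hu0 (hW u huW)) s
    have hgΩ : ((g : ↥(Cfsg.isometryGroup F ⇑Q)) : Matrix.GeneralLinearGroup ι F) ∈
        Cfsg.Geo.omegaGL ⇑Q := (Cfsg.Agent.Lib.Helper44.coe_mem_omegaGL_iff _).mpr g.2
    rw [← heq] at hgΩ
    have hgW := (Subgroup.mem_inf.mp hgΩ).1
    have hguW : (((g : ↥(Cfsg.isometryGroup F ⇑Q)) : Matrix.GeneralLinearGroup ι F) :
        Matrix ι ι F) *ᵥ u ∈ W := (hgW u).mp huW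
    have hg' : (g : ↥(Cfsg.isometryGroup F ⇑Q)) • mkPt Q u hu0 (hW u huW) = s := hg
    rw [smul_mkPt] at hg'
    rw [← hg', opp_mkPt] at hs
    exact hs (polar_eq_zero_of_ts hW huW hguW)
  · intro M hPM hMK
    have hPM' : ∀ g ∈ commutator ↥(Cfsg.isometryGroup F ⇑Q),
        (∀ x ∈ W, ((g : Matrix.GeneralLinearGroup ι F) : Matrix ι ι F) *ᵥ x ∈ W) →
        g ∈ M.comap (Cfsg.isometryGroup F ⇑Q).subtype := by
      intro g hgΩ hgW
      apply hPM
      exact Subgroup.mem_inf.mpr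
        ⟨Cfsg.Agent.Lib.Helper44.mem_subspaceStabilizer_of_isom g W hgW,
          (Cfsg.Agent.Lib.Helper44.coe_mem_omegaGL_iff g).mpr hgΩ⟩
    rcases parabolic_max Q hQ hn W hW hmov (M.comap (Cfsg.isometryGroup F ⇑Q).subtype) hPM'
      with h | h
    · left
      apply le_antisymm _ hPM
      intro g hg
      obtain ⟨g', -, rfl⟩ := Cfsg.Agent.Lib.Helper44.exists_of_mem_omegaGL (hMK hg)
      exact Subgroup.mem_inf.mpr
        ⟨Cfsg.Agent.Lib.Helper44.mem_subspaceStabilizer_of_isom g' W (h g' hg), hMK hg⟩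
    · right
      apply le_antisymm hMK
      intro g hg
      obtain ⟨g', hg'Ω, rfl⟩ := Cfsg.Agent.Lib.Helper44.exists_of_mem_omegaGL hg
      exact h hg'Ω

end parabolic

end Cfsg.Agent.Lib.Helper14
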