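import Mathlib
import Cfsg.Agent.Lib.Helper14.ParabolicMax
import Cfsg.Agent.Lib.Helper99.Quad

set_option autoImplicit false

namespace Cfsg.Agent.Lib.Helper14

open Matrix Module

section eichin

variable {ι : Type} [Fintype ι] [DecidableEq ι] {F : Type*} [Field F]

/-- The Eichler transformation `ρ_{u,w}` lies in `M`. -/
def EIn (Q : QuadraticForm F (ι → F)) (M : Subgroup ↥(Cfsg.isometryGroup F ⇑Q))
    (u w : ι → F) : Prop :=
  ∀ g : ↥(Cfsg.isometryGroup F ⇑Q),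
    ((g : Matrix.GeneralLinearGroup ι F) : Matrix ι ι F) = eichMat Q u w → g ∈ M

theorem EIn_zero (Q : QuadraticForm F (ι → F)) (M : Subgroup ↥(Cfsg.isometryGroup F ⇑Q))
    (u : ι → F) : EIn Q M u 0 := by
  intro g hg
  rw [eichMat_zero_right] at hg
  have : g = 1 := isom_ext hg
  rw [this]
  exact M.one_mem

theorem EIn_add (Q : QuadraticForm F (ι → F))
    (hQ : (QuadraticMap.polarBilin Q).Nondegenerate) (M : Subgroup ↥(Cfsg.isometryGroup F ⇑Q))
    {u w w' : ι → F} (hu : Q u = 0) (huw : QuadraticMap.polar ⇑Q u w = 0)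
    (huw' : QuadraticMap.polar ⇑Q u w' = 0) (h : EIn Q M u w) (h' : EIn Q M u w') :
    EIn Q M u (w + w') := by
  intro g hg
  have e : g = eichElt Q hQ u w hu huw * eichElt Q hQ u w' hu huw' := by
    apply isom_ext
    simp only [Subgroup.coe_mul, Units.val_mul]
    rw [hg, eichElt_coe, eichElt_coe, eichMat_mul Q hu huw huw']
  rw [e]
  exact M.mul_mem (h _ rfl) (h' _ rfl)

theorem EIn_neg (Q : QuadraticForm F (ι → F))
    (hQ : (QuadraticMap.polarBilin Q).Nondegenerate) (M : Subgroup ↥(Cfsg.isometryGroup F ⇑Q))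
    {u w : ι → F} (hu : Q u = 0) (huw : QuadraticMap.polar ⇑Q u w = 0) (h : EIn Q M u w) :
    EIn Q M u (-w) := by
  intro g hg
  have e : eichElt Q hQ u w hu huw * g = 1 := by
    apply isom_ext
    simp only [Subgroup.coe_mul, Units.val_mul, Subgroup.coe_one, Units.val_one]
    rw [hg, eichElt_coe, eichMat_mul Q hu huw
      (by rw [QuadraticMap.polar_neg_right, huw, neg_zero]), add_neg_cancel, eichMat_zero_right]
  have e2 : g = (eichElt Q hQ u w hu huw)⁻¹ := (inv_eq_of_mul_eq_one_right e).symm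
  rw [e2]
  exact M.inv_mem (h _ rfl)

theorem EIn_conj (Q : QuadraticForm F (ι → F)) (M : Subgroup ↥(Cfsg.isometryGroup F ⇑Q))
    {u w : ι → F} (h : EIn Q M u w) (k : ↥(Cfsg.isometryGroup F ⇑Q)) (hk : k ∈ M) :
    EIn Q M (((k : Matrix.GeneralLinearGroup ι F) : Matrix ι ι F) *ᵥ u)
      (((k : Matrix.GeneralLinearGroup ι F) : Matrix ι ι F) *ᵥ w) := by
  intro g hg
  have key : k⁻¹ * g * k ∈ M := by
    apply h
    simp only [Subgroup.coe_mul, Units.val_mul]
    rw [hg, mul_assoc, ← eichMat_conj Q _ (isom_preserves k), ← mul_assoc, ← Units.val_mul,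
      ← Subgroup.coe_mul, inv_mul_cancel, Subgroup.coe_one, Units.val_one, one_mul]
  have e : g = k * (k⁻¹ * g * k) * k⁻¹ := by group
  rw [e]
  exact M.mul_mem (M.mul_mem hk key) (M.inv_mem hk)

theorem EIn_smul_left (Q : QuadraticForm F (ι → F)) (M : Subgroup ↥(Cfsg.isometryGroup F ⇑Q))
    (u w : ι → F) (c : F) : EIn Q M (c • u) w ↔ EIn Q M u (c • w) := by
  unfold EIn
  rw [eichMat_smul_left]

theorem EIn_sub (Q : QuadraticForm F (ι → F))
    (hQ : (QuadraticMap.polarBilin Q).Nondegenerate) (M : Subgroup ↥(Cfsg.isometryGroup F ⇑Q))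
    {u w w' : ι → F} (hu : Q u = 0) (huw : QuadraticMap.polar ⇑Q u w = 0)
    (huw' : QuadraticMap.polar ⇑Q u w' = 0) (h : EIn Q M u w) (h' : EIn Q M u w') :
    EIn Q M u (w - w') := by
  rw [sub_eq_add_neg]
  exact EIn_add Q hQ M hu huw (by rw [QuadraticMap.polar_neg_right, huw', neg_zero]) h
    (EIn_neg Q hQ M hu huw' h')

end eichin

section irred

open Cfsg.Agent.Lib.Helper99

variable {ι : Type} [Fintype ι] [DecidableEq ι] {F : Type*} [Field F]

theorem finrank_le_inf_qperp_add_two (Q : QuadraticForm F (ι → F)) (M : Submodule F (ι → F))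
    (v w : ι → F) : finrank F M ≤ finrank F ↥(M ⊓ qperp Q v w) + 2 := by
  unfold Cfsg.Agent.Lib.Helper99.qperp Cfsg.Agent.Lib.Helper99.perp2
  rw [← inf_assoc]
  have h1 := finrank_le_inf_ker_add_one
    (LinearMap.BilinForm.flip (QuadraticMap.polarBilin Q) v) M
  have h2 := finrank_le_inf_ker_add_one
    (LinearMap.BilinForm.flip (QuadraticMap.polarBilin Q) w)
    (M ⊓ LinearMap.ker (LinearMap.BilinForm.flip (QuadraticMap.polarBilin Q) v))
  omega

theorem exists_ne_zero_of_finrank_pos {M : Submodule F (ι → F)} (h : 1 ≤ finrank F M) :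
    ∃ c ∈ M, c ≠ 0 := by
  apply Submodule.exists_mem_ne_zero_of_ne_bot
  rintro rfl
  rw [finrank_bot] at h
  omega

variable [Fintype F]

/-- In a nondegenerate subspace of dimension at least three, every non-zero vector is
non-orthogonal to some singular vector. -/
theorem exists_sing_not_perp (Q : QuadraticForm F (ι → F)) {Y : Submodule F (ι → F)}
    (hY : QNondegOn Q Y) (hdim : 3 ≤ finrank F Y) {z : ι → F} (hz : z ∈ Y) (hz0 : z ≠ 0) :
    ∃ s ∈ Y, Q s = 0 ∧ QuadraticMap.polar ⇑Q s z ≠ 0 := by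
  obtain ⟨e, heY, he0, hQe⟩ := exists_isotropic Q Y hdim
  obtain ⟨e', he'Y, hQe', hee'⟩ := exists_hyp_partner Q Y hY heY he0 hQe
  by_cases h1 : QuadraticMap.polar ⇑Q e z = 0
  swap
  · exact ⟨e, heY, hQe, h1⟩
  by_cases h2 : QuadraticMap.polar ⇑Q e' z = 0
  swap
  · exact ⟨e', he'Y, hQe', h2⟩
  have hY₀ := hyp_nondegOn Q hY heY he'Y hQe hQe' hee'
  have hz₀ : z ∈ Y ⊓ qperp Q e e' :=
    ⟨hz, (mem_qperp Q e e' z).mpr ⟨by rw [QuadraticMap.polar_comm]; exact h1,
      by rw [QuadraticMap.polar_comm]; exact h2⟩⟩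
  obtain ⟨d, hd, hzd⟩ : ∃ d ∈ Y ⊓ qperp Q e e', QuadraticMap.polar ⇑Q z d ≠ 0 := by
    by_contra hcon
    push Not at hcon
    exact hz0 (hY₀ z hz₀ hcon)
  have hd' := (mem_qperp Q e e' d).mp hd.2
  refine ⟨d - Q d • e + e', Y.add_mem (Y.sub_mem hd.1 (Y.smul_mem _ heY)) he'Y, ?_, ?_⟩
  · have e1 : d - Q d • e + e' = d + (1 : F) • e' - Q d • e := by module
    rw [e1, quad_add_smul_sub_smul, hQe, hQe', hd'.1, hd'.2, QuadraticMap.polar_comm (⇑Q) e' e,
      hee']
    ring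
  · rw [QuadraticMap.polar_add_left, QuadraticMap.polar_sub_left, QuadraticMap.polar_smul_left,
      h1, h2, QuadraticMap.polar_comm (⇑Q) d z]
    simpa using hzd

/-- Irreducibility: a non-zero subspace of a nondegenerate subspace `Y` of dimension at least
three which is invariant under the Eichler transformations of `Y` is all of `Y`. -/
theorem eich_irreducible (Q : QuadraticForm F (ι → F)) {Y : Submodule F (ι → F)}
    (hY : QNondegOn Q Y) (hdim : 3 ≤ finrank F Y) (A : Submodule F (ι → F)) (hAY : A ≤ Y)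
    (hinv : ∀ x ∈ Y, ∀ y ∈ Y, Q x = 0 → QuadraticMap.polar ⇑Q x y = 0 →
      ∀ z ∈ A, eichMat Q x y *ᵥ z ∈ A) (hA0 : A ≠ ⊥) : A = Y := by
  obtain ⟨z₀, hz₀A, hz₀0⟩ := Submodule.exists_mem_ne_zero_of_ne_bot hA0
  obtain ⟨s, hsY, hQs, hsz₀⟩ := exists_sing_not_perp Q hY hdim (hAY hz₀A) hz₀0
  obtain ⟨z, hzdef⟩ : ∃ z, z = (QuadraticMap.polar ⇑Q s z₀)⁻¹ • z₀ := ⟨_, rfl⟩
  have hzA : z ∈ A := by rw [hzdef]; exact A.smul_mem _ hz₀A
  have hsz : QuadraticMap.polar ⇑Q s z = 1 := by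
    rw [hzdef, QuadraticMap.polar_smul_right, smul_eq_mul, inv_mul_cancel₀ hsz₀]
  have hs0 : s ≠ 0 := by
    rintro rfl
    rw [QuadraticMap.polar_zero_left] at hsz₀
    exact hsz₀ rfl
  have hC1 : ∀ y ∈ Y, QuadraticMap.polar ⇑Q s y = 0 →
      y - (QuadraticMap.polar ⇑Q y z + Q y) • s ∈ A := by
    intro y hy hsy
    have h1 := hinv s hsY y hy hQs hsy z hzA
    rw [eichMat_mulVec, hsz, one_smul, mul_one] at h1
    have h2 := A.sub_mem h1 hzA
    have e : z + y - (QuadraticMap.polar ⇑Q y z + Q y) • s - z =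
        y - (QuadraticMap.polar ⇑Q y z + Q y) • s := by abel
    rw [e] at h2
    exact h2
  obtain ⟨s', hs'Y, hQs', hss'⟩ := exists_hyp_partner Q Y hY hsY hs0 hQs
  have hY₀ := hyp_nondegOn Q hY hsY hs'Y hQs hQs' hss'
  have hfin := finrank_le_inf_qperp_add_two Q Y s s'
  obtain ⟨c, hc, hc0⟩ := exists_ne_zero_of_finrank_pos (M := Y ⊓ qperp Q s s') (by omega)
  obtain ⟨d, hd, hcd⟩ : ∃ d ∈ Y ⊓ qperp Q s s', QuadraticMap.polar ⇑Q c d ≠ 0 := by
    by_contra hcon
    push Not at hcon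
    exact hc0 (hY₀ c hc hcon)
  have hsc : QuadraticMap.polar ⇑Q s c = 0 := by
    rw [QuadraticMap.polar_comm]; exact ((mem_qperp Q s s' c).mp hc.2).1
  have hsd : QuadraticMap.polar ⇑Q s d = 0 := by
    rw [QuadraticMap.polar_comm]; exact ((mem_qperp Q s s' d).mp hd.2).1
  have hsA : s ∈ A := by
    have h1 := hC1 c hc.1 hsc
    have h2 := hC1 d hd.1 hsd
    have h3 := hC1 (c + d) (Y.add_mem hc.1 hd.1)
      (by rw [QuadraticMap.polar_add_right, hsc, hsd, add_zero])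
    have h4 : QuadraticMap.polar ⇑Q c d • s ∈ A := by
      have h5 := A.sub_mem (A.add_mem h1 h2) h3
      have e : c - (QuadraticMap.polar ⇑Q c z + Q c) • s +
          (d - (QuadraticMap.polar ⇑Q d z + Q d) • s) -
          (c + d - (QuadraticMap.polar ⇑Q (c + d) z + Q (c + d)) • s) =
          QuadraticMap.polar ⇑Q c d • s := by
        rw [QuadraticMap.polar_add_left, QuadraticMap.map_add (⇑Q) c d]
        module
      rw [e] at h5
      exact h5
    have h6 := A.smul_mem (QuadraticMap.polar ⇑Q c d)⁻¹ h4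
    rwa [smul_smul, inv_mul_cancel₀ hcd, one_smul] at h6
  apply le_antisymm hAY
  intro v hv
  have h1 := hC1 (v - QuadraticMap.polar ⇑Q s v • z) (Y.sub_mem hv (Y.smul_mem _ (hAY hzA)))
    (by rw [QuadraticMap.polar_sub_right, QuadraticMap.polar_smul_right, hsz]; simp)
  have h2 : v - QuadraticMap.polar ⇑Q s v • z ∈ A := by
    have h3 := A.add_mem h1 (A.smul_mem (QuadraticMap.polar ⇑Q (v - QuadraticMap.polar ⇑Q s v • z) z
      + Q (v - QuadraticMap.polar ⇑Q s v • z)) hsA)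
    simpa using h3
  have h4 := A.add_mem h2 (A.smul_mem (QuadraticMap.polar ⇑Q s v) hzA)
  simpa using h4

/-- A proper non-zero subspace is moved by some Eichler element of `Ω`. -/
theorem exists_omega_not_stab (Q : QuadraticForm F (ι → F))
    (hQ : (QuadraticMap.polarBilin Q).Nondegenerate) (hn : 5 ≤ Fintype.card ι)
    (W : Submodule F (ι → F)) (hW0 : W ≠ ⊥) (hW1 : W ≠ ⊤) :
    ∃ g ∈ commutator ↥(Cfsg.isometryGroup F ⇑Q),
      ¬ ∀ x ∈ W, ((g : Matrix.GeneralLinearGroup ι F) : Matrix ι ι F) *ᵥ x ∈ W := by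
  by_contra hcon
  push Not at hcon
  apply hW1
  have hnd : QNondegOn Q ⊤ := fun u _ hu => hQ.1 u (fun v => hu v Submodule.mem_top)
  apply eich_irreducible Q hnd (by rw [finrank_top, Module.finrank_fintype_fun_eq_card]; omega)
    W le_top _ hW0
  intro x _ y _ hQx hxy z hz
  exact hcon (eichElt Q hQ x y hQx hxy) (eich_mem_omega Q hQ hn hQx hxy _ rfl) z hz

end irred

section wrapper

variable {ι : Type} [Fintype ι] [DecidableEq ι] {F : Type*} [Field F] [Fintype F]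

/-- Wrapper turning an overgroup dichotomy into `IsMaximalIn`. -/
theorem isMaximalIn_stab_of (Q : QuadraticForm F (ι → F))
    (hQ : (QuadraticMap.polarBilin Q).Nondegenerate) (hn : 5 ≤ Fintype.card ι)
    (W : Submodule F (ι → F)) (hW0 : W ≠ ⊥) (hW1 : W ≠ ⊤)
    (hcore : ∀ M : Subgroup ↥(Cfsg.isometryGroup F ⇑Q),
      (∀ g ∈ commutator ↥(Cfsg.isometryGroup F ⇑Q),
        (∀ x ∈ W, ((g : Matrix.GeneralLinearGroup ι F) : Matrix ι ι F) *ᵥ x ∈ W) → g ∈ M) →
      (∀ g ∈ M, ∀ x ∈ W, ((g : Matrix.GeneralLinearGroup ι F) : Matrix ι ι F) *ᵥ x ∈ W) ∨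
        commutator ↥(Cfsg.isometryGroup F ⇑Q) ≤ M) :
    Cfsg.Geo.IsMaximalIn (Cfsg.Geo.omegaGL ⇑Q)
      (Cfsg.Geo.subspaceStabilizer W ⊓ Cfsg.Geo.omegaGL ⇑Q) := by
  constructor
  · refine lt_of_le_of_ne inf_le_right ?_
    intro heq
    obtain ⟨g, hgΩ, hg⟩ := exists_omega_not_stab Q hQ hn W hW0 hW1
    apply hg
    have hgΩ' : (g : Matrix.GeneralLinearGroup ι F) ∈ Cfsg.Geo.omegaGL ⇑Q :=
      (Cfsg.Agent.Lib.Helper44.coe_mem_omegaGL_iff _).mpr hgΩ
    rw [← heq] at hgΩ'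
    have hgW := (Subgroup.mem_inf.mp hgΩ').1
    intro x hx
    exact (hgW x).mp hx
  · intro M hPM hMK
    have hPM' : ∀ g ∈ commutator ↥(Cfsg.isometryGroup F ⇑Q),
        (∀ x ∈ W, ((g : Matrix.GeneralLinearGroup ι F) : Matrix ι ι F) *ᵥ x ∈ W) →
        g ∈ M.comap (Cfsg.isometryGroup F ⇑Q).subtype := by
      intro g hgΩ hgW
      apply hPM
      exact Subgroup.mem_inf.mpr
        ⟨Cfsg.Agent.Lib.Helper44.mem_subspaceStabilizer_of_isom g W hgW,
          (Cfsg.Agent.Lib.Helper44.coe_mem_omegaGL_iff g).mpr hgΩ⟩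
    rcases hcore (M.comap (Cfsg.isometryGroup F ⇑Q).subtype) hPM' with h | h
    · left
      apply le_antisymm _ hPM
      intro g hg
      obtain ⟨g', -, rfl⟩ := Cfsg.Agent.Lib.Helper44.exists_of_mem_omegaGL (hMK hg)
      exact Subgroup.mem_inf.mpr
        ⟨Cfsg.Agent.Lib.Helper44.mem_subspaceStabilizer_of_isom g' W (h g' hg), hMK hg⟩
    · right
      apply le_antisymm hMK
      intro g hg
      obtain ⟨g', hg'Ω, rfl⟩ := Cfsg.Agent.Lib.Helper44.exists_of_mem_omegaGL hg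
      exact h hg'Ω

end wrapper

end Cfsg.Agent.Lib.Helper14
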