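import Mathlib
import Cfsg.Agent.Lib.Helper14.NondegA

set_option autoImplicit false

namespace Cfsg.Agent.Lib.Helper14

open Matrix Module

section line

open Cfsg.Agent.Lib.Helper99

variable {ι : Type} [Fintype ι] [DecidableEq ι] {F : Type*} [Field F]

omit [Fintype ι] [DecidableEq ι] in
/-- The span of a set of pairwise orthogonal singular vectors is totally singular. -/
theorem ts_span (Q : QuadraticForm F (ι → F)) (T : Set (ι → F)) (hT : ∀ a ∈ T, Q a = 0)
    (hTT : ∀ a ∈ T, ∀ b ∈ T, QuadraticMap.polar ⇑Q a b = 0) :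
    ∀ x ∈ Submodule.span F T, Q x = 0 := by
  have h1 : ∀ a ∈ T, ∀ y ∈ Submodule.span F T, QuadraticMap.polar ⇑Q a y = 0 := by
    intro a ha y hy
    induction hy using Submodule.span_induction with
    | mem b hb => exact hTT a ha b hb
    | zero => exact QuadraticMap.polar_zero_right _ _
    | add x y _ _ hx hy => rw [QuadraticMap.polar_add_right, hx, hy, add_zero]
    | smul c x _ hx => rw [QuadraticMap.polar_smul_right, hx, smul_zero]
  have h2 : ∀ x ∈ Submodule.span F T, ∀ y ∈ Submodule.span F T,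
      QuadraticMap.polar ⇑Q x y = 0 := by
    intro x hx y hy
    induction hx using Submodule.span_induction with
    | mem a ha => exact h1 a ha y hy
    | zero => exact QuadraticMap.polar_zero_left _ _
    | add x x' _ _ hx hx' => rw [QuadraticMap.polar_add_left, hx, hx', add_zero]
    | smul c x _ hx => rw [QuadraticMap.polar_smul_left, hx, smul_zero]
  intro x hx
  induction hx using Submodule.span_induction with
  | mem a ha => exact hT a ha
  | zero => exact map_zero Q
  | add x y hx hy hQx hQy =>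
    rw [QuadraticMap.map_add (⇑Q) x y, hQx, hQy, h2 x hx y hy]
    simp
  | smul c x _ hQx => rw [QuadraticMap.map_smul, hQx, smul_zero]

variable [Fintype F]

/-- A subspace of dimension at least `n/2 + 3` contains two non-orthogonal singular vectors. -/
theorem exists_sing_pair (Q : QuadraticForm F (ι → F))
    (hQ : (QuadraticMap.polarBilin Q).Nondegenerate) (X : Submodule F (ι → F))
    (hX : Fintype.card ι + 6 ≤ 2 * finrank F X) :
    ∃ u₁ ∈ X, ∃ u₂ ∈ X, Q u₁ = 0 ∧ Q u₂ = 0 ∧ QuadraticMap.polar ⇑Q u₁ u₂ ≠ 0 := by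
  by_contra hcon
  push Not at hcon
  obtain ⟨S, hSdef⟩ : ∃ S, S = Submodule.span F {u : ι → F | u ∈ X ∧ Q u = 0} := ⟨_, rfl⟩
  have hSts : ∀ x ∈ S, Q x = 0 := by
    rw [hSdef]
    apply ts_span Q
    · intro a ha; exact ha.2
    · intro a ha b hb; exact hcon a ha.1 b hb.1 ha.2 hb.2
  have h1 := two_mul_finrank_le_of_ts hQ hSts
  rw [Module.finrank_fintype_fun_eq_card] at h1
  obtain ⟨C', hC'⟩ := Submodule.exists_isCompl S
  have h2 := Submodule.finrank_add_eq_of_isCompl hC'
  rw [Module.finrank_fintype_fun_eq_card] at h2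
  have h3 := Submodule.finrank_sup_add_finrank_inf_eq C' X
  have h4 := Submodule.finrank_le (C' ⊔ X)
  rw [Module.finrank_fintype_fun_eq_card] at h4
  obtain ⟨c, hc, hc0, hQc⟩ := exists_isotropic Q (C' ⊓ X) (by omega)
  apply hc0
  have hcS : c ∈ S := by
    rw [hSdef]
    exact Submodule.subset_span ⟨hc.2, hQc⟩
  have : c ∈ S ⊓ C' := ⟨hcS, hc.1⟩
  rw [hC'.inf_eq_bot] at this
  exact (Submodule.mem_bot F).mp this

/-- Core of the maximality of the stabiliser of a line. -/
theorem line_max (Q : QuadraticForm F (ι → F))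
    (hQ : (QuadraticMap.polarBilin Q).Nondegenerate) (hn : 10 ≤ Fintype.card ι) (v : ι → F)
    (M : Subgroup ↥(Cfsg.isometryGroup F ⇑Q))
    (hPM : ∀ g ∈ commutator ↥(Cfsg.isometryGroup F ⇑Q),
      (∀ x ∈ Submodule.span F {v},
        ((g : Matrix.GeneralLinearGroup ι F) : Matrix ι ι F) *ᵥ x ∈ Submodule.span F {v}) →
      g ∈ M) :
    (∀ g ∈ M, ∀ x ∈ Submodule.span F {v},
        ((g : Matrix.GeneralLinearGroup ι F) : Matrix ι ι F) *ᵥ x ∈ Submodule.span F {v}) ∨
      commutator ↥(Cfsg.isometryGroup F ⇑Q) ≤ M := by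
  by_cases hall : ∀ g ∈ M,
      ((g : Matrix.GeneralLinearGroup ι F) : Matrix ι ι F) *ᵥ v ∈ Submodule.span F {v}
  · left
    intro g hg x hx
    obtain ⟨c, rfl⟩ := Submodule.mem_span_singleton.mp hx
    rw [Matrix.mulVec_smul]
    exact Submodule.smul_mem _ _ (hall g hg)
  right
  push Not at hall
  obtain ⟨h, hh, hv'⟩ := hall
  obtain ⟨v', hv'def⟩ : ∃ v', v' = ((h : Matrix.GeneralLinearGroup ι F) : Matrix ι ι F) *ᵥ v :=
    ⟨_, rfl⟩
  rw [← hv'def] at hv'
  -- Eichler elements fixing `v`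
  have hi : ∀ u w : ι → F, Q u = 0 → QuadraticMap.polar ⇑Q u w = 0 →
      QuadraticMap.polar ⇑Q u v = 0 → QuadraticMap.polar ⇑Q w v = 0 → EIn Q M u w := by
    intro u w hQu huw huv hwv g hg
    apply hPM g (eich_mem_omega Q hQ (by omega) hQu huw g hg)
    intro x hx
    obtain ⟨c, rfl⟩ := Submodule.mem_span_singleton.mp hx
    rw [Matrix.mulVec_smul, hg, eichMat_mulVec, huv, hwv]
    simp only [zero_smul, add_zero, mul_zero, sub_zero]
    exact Submodule.smul_mem _ _ (Submodule.mem_span_singleton_self v)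
  -- Eichler elements fixing `v'`
  have hii : ∀ u w : ι → F, Q u = 0 → QuadraticMap.polar ⇑Q u w = 0 →
      QuadraticMap.polar ⇑Q u v' = 0 → QuadraticMap.polar ⇑Q w v' = 0 → EIn Q M u w := by
    intro u w hQu huw huv hwv
    have e1 : ∀ a b : ι → F, QuadraticMap.polar ⇑Q
        ((((h⁻¹ : ↥(Cfsg.isometryGroup F ⇑Q)) : Matrix.GeneralLinearGroup ι F) :
          Matrix ι ι F) *ᵥ a) b = QuadraticMap.polar ⇑Q a
        (((h : Matrix.GeneralLinearGroup ι F) : Matrix ι ι F) *ᵥ b) := by
      intro a b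
      have := polar_mulVec Q _ (isom_preserves h)
        ((((h⁻¹ : ↥(Cfsg.isometryGroup F ⇑Q)) : Matrix.GeneralLinearGroup ι F) :
          Matrix ι ι F) *ᵥ a) b
      rw [isom_mulVec_inv] at this
      exact this.symm
    have h1 := hi ((((h⁻¹ : ↥(Cfsg.isometryGroup F ⇑Q)) : Matrix.GeneralLinearGroup ι F) :
        Matrix ι ι F) *ᵥ u) ((((h⁻¹ : ↥(Cfsg.isometryGroup F ⇑Q)) :
        Matrix.GeneralLinearGroup ι F) : Matrix ι ι F) *ᵥ w)
      ((isom_preserves h⁻¹ u).trans hQu)
      (by rw [polar_mulVec Q _ (isom_preserves h⁻¹)]; exact huw)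
      (by rw [e1, ← hv'def]; exact huv) (by rw [e1, ← hv'def]; exact hwv)
    have h2 := EIn_conj Q M h1 h hh
    rw [isom_mulVec_inv, isom_mulVec_inv] at h2
    exact h2
  obtain ⟨W₂, hW₂⟩ : ∃ W₂, W₂ = Submodule.span F {v} ⊔ Submodule.span F {v'} := ⟨_, rfl⟩
  have hvW₂ : v ∈ W₂ := by
    rw [hW₂]; exact Submodule.mem_sup_left (Submodule.mem_span_singleton_self v)
  have hv'W₂ : v' ∈ W₂ := by
    rw [hW₂]; exact Submodule.mem_sup_right (Submodule.mem_span_singleton_self v')
  -- root groups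
  have hroot : ∀ u, Q u = 0 → QuadraticMap.polar ⇑Q u v = 0 → QuadraticMap.polar ⇑Q u v' = 0 →
      u ∉ W₂ → rootIn Q M u := by
    intro u hQu huv huv' huW₂
    obtain ⟨z, huz, hv'z, hvz⟩ : ∃ z, QuadraticMap.polar ⇑Q u z = 0 ∧
        QuadraticMap.polar ⇑Q v' z = 0 ∧ QuadraticMap.polar ⇑Q v z ≠ 0 := by
      by_contra hcon
      push Not at hcon
      have hmem : v ∈ Submodule.span F {u} ⊔ Submodule.span F {v'} := by
        rw [← Cfsg.Agent.Lib.Helper44.orth_orth Q hQ (Submodule.span F {u} ⊔ Submodule.span F {v'}),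
          Cfsg.Agent.Lib.Helper44.mem_orth_iff]
        intro z hz
        rw [Cfsg.Agent.Lib.Helper44.mem_orth_iff] at hz
        rw [QuadraticMap.polar_comm]
        exact hcon z (hz u (Submodule.mem_sup_left (Submodule.mem_span_singleton_self u)))
          (hz v' (Submodule.mem_sup_right (Submodule.mem_span_singleton_self v')))
      obtain ⟨a, ha, b, hb, hab⟩ := Submodule.mem_sup.mp hmem
      obtain ⟨α, rfl⟩ := Submodule.mem_span_singleton.mp ha
      obtain ⟨β, rfl⟩ := Submodule.mem_span_singleton.mp hb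
      by_cases hα : α = 0
      · rw [hα, zero_smul, zero_add] at hab
        by_cases hβ : β = 0
        · rw [hβ, zero_smul] at hab
          apply hv'
          rw [hv'def, ← hab, Matrix.mulVec_zero]
          exact Submodule.zero_mem _
        · apply hv'
          have : v' = β⁻¹ • v := by rw [← hab, smul_smul, inv_mul_cancel₀ hβ, one_smul]
          rw [this]
          exact Submodule.smul_mem _ _ (Submodule.mem_span_singleton_self v)
      · apply huW₂
        have : u = α⁻¹ • (v - β • v') := by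
          rw [← hab, add_sub_cancel_right, smul_smul, inv_mul_cancel₀ hα, one_smul]
        rw [this]
        exact W₂.smul_mem _ (W₂.sub_mem hvW₂ (W₂.smul_mem _ hv'W₂))
    intro w huw
    obtain ⟨c, hc⟩ : ∃ c, c = QuadraticMap.polar ⇑Q v w / QuadraticMap.polar ⇑Q v z := ⟨_, rfl⟩
    have e : w = (w - c • z) + c • z := by abel
    rw [e]
    have h1 : QuadraticMap.polar ⇑Q u (w - c • z) = 0 := by
      rw [QuadraticMap.polar_sub_right, QuadraticMap.polar_smul_right, huw, huz]
      simp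
    have h2 : QuadraticMap.polar ⇑Q u (c • z) = 0 := by
      rw [QuadraticMap.polar_smul_right, huz, smul_zero]
    apply EIn_add Q hQ M hQu h1 h2
    · apply hi u _ hQu h1 huv
      rw [QuadraticMap.polar_comm, QuadraticMap.polar_sub_right, QuadraticMap.polar_smul_right,
        hc, smul_eq_mul, div_mul_cancel₀ _ hvz, sub_self]
    · apply hii u _ hQu h2 huv'
      rw [QuadraticMap.polar_comm, QuadraticMap.polar_smul_right, hv'z, smul_zero]
  -- two opposite singular vectors orthogonal to `v`, `v'`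
  have hfin : Fintype.card ι + 6 ≤ 2 * finrank F ↥(Cfsg.Agent.Lib.Helper44.orth Q W₂) := by
    rw [Cfsg.Agent.Lib.Helper44.finrank_orth Q hQ, Module.finrank_fintype_fun_eq_card]
    have h1 := Submodule.finrank_add_le_finrank_add_finrank (Submodule.span F {v})
      (Submodule.span F {v'})
    have h2 := Cfsg.Agent.Lib.Helper44.finrank_span_singleton_le_one (F := F) v
    have h3 := Cfsg.Agent.Lib.Helper44.finrank_span_singleton_le_one (F := F) v'
    rw [← hW₂] at h1
    omega
  obtain ⟨u₁, hu₁, u₂, hu₂, hQu₁, hQu₂, hu₁u₂⟩ := exists_sing_pair Q hQ _ hfin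
  rw [Cfsg.Agent.Lib.Helper44.mem_orth_iff] at hu₁ hu₂
  have hR₁ : rootIn Q M u₁ := by
    apply hroot u₁ hQu₁ (by rw [QuadraticMap.polar_comm]; exact hu₁ v hvW₂)
      (by rw [QuadraticMap.polar_comm]; exact hu₁ v' hv'W₂)
    intro hmem
    exact hu₁u₂ (hu₂ u₁ hmem)
  have hR₂ : rootIn Q M u₂ := by
    apply hroot u₂ hQu₂ (by rw [QuadraticMap.polar_comm]; exact hu₂ v hvW₂)
      (by rw [QuadraticMap.polar_comm]; exact hu₂ v' hv'W₂)
    intro hmem
    apply hu₁u₂
    rw [QuadraticMap.polar_comm]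
    exact hu₁ u₂ hmem
  apply omega_le_of_rootIn Q hQ (by omega) M
  exact rootIn_all Q hQ M hQu₁ hQu₂ hu₁u₂ hR₁ hR₂

end line

end Cfsg.Agent.Lib.Helper14
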