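import Mathlib
import Cfsg.Agent.Lib.Helper14.NondegB

set_option autoImplicit false

namespace Cfsg.Agent.Lib.Helper14

open Matrix Module

section orthdecomp

open Cfsg.Agent.Lib.Helper99

variable {ι : Type} [Fintype ι] [DecidableEq ι] {F : Type*} [Field F]

/-- An orthogonal decomposition `V = U ⊥ Y`. -/
structure OrthDecomp (Q : QuadraticForm F (ι → F)) (U Y : Submodule F (ι → F)) : Prop where
  perp : ∀ x ∈ U, ∀ y ∈ Y, QuadraticMap.polar ⇑Q x y = 0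
  sup : U ⊔ Y = ⊤

variable {Q : QuadraticForm F (ι → F)} {U Y : Submodule F (ι → F)}

omit [Fintype ι] [DecidableEq ι] in
theorem OrthDecomp.symm (h : OrthDecomp Q U Y) : OrthDecomp Q Y U :=
  ⟨fun x hx y hy => by rw [QuadraticMap.polar_comm]; exact h.perp y hy x hx,
    by rw [sup_comm]; exact h.sup⟩

omit [Fintype ι] [DecidableEq ι] in
theorem OrthDecomp.exists_add (h : OrthDecomp Q U Y) (v : ι → F) :
    ∃ a ∈ U, ∃ b ∈ Y, v = a + b := by
  have hv : v ∈ U ⊔ Y := by rw [h.sup]; exact Submodule.mem_top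
  obtain ⟨a, ha, b, hb, rfl⟩ := Submodule.mem_sup.mp hv
  exact ⟨a, ha, b, hb, rfl⟩

omit [Fintype ι] [DecidableEq ι] in
theorem OrthDecomp.nondegOn (h : OrthDecomp Q U Y)
    (hQ : (QuadraticMap.polarBilin Q).Nondegenerate) : QNondegOn Q U := by
  intro u hu hperp
  apply hQ.1 u
  intro v
  obtain ⟨a, ha, b, hb, rfl⟩ := h.exists_add v
  change QuadraticMap.polar ⇑Q u (a + b) = 0
  rw [QuadraticMap.polar_add_right, hperp a ha, h.perp u hu b hb, add_zero]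

omit [Fintype ι] [DecidableEq ι] in
theorem OrthDecomp.eq_zero_of_mem (h : OrthDecomp Q U Y)
    (hQ : (QuadraticMap.polarBilin Q).Nondegenerate) {x : ι → F} (hxU : x ∈ U) (hxY : x ∈ Y) :
    x = 0 :=
  h.nondegOn hQ x hxU (fun v hv => by rw [QuadraticMap.polar_comm]; exact h.perp v hv x hxY)

omit [DecidableEq ι] in
theorem OrthDecomp.finrank_add (h : OrthDecomp Q U Y)
    (hQ : (QuadraticMap.polarBilin Q).Nondegenerate) :
    finrank F U + finrank F Y = Fintype.card ι := by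
  have h1 := Submodule.finrank_sup_add_finrank_inf_eq U Y
  have h2 : U ⊓ Y = ⊥ := by
    rw [eq_bot_iff]
    intro x hx
    exact (Submodule.mem_bot F).mpr (h.eq_zero_of_mem hQ hx.1 hx.2)
  rw [h.sup, h2, finrank_top, finrank_bot, Module.finrank_fintype_fun_eq_card] at h1
  omega

theorem OrthDecomp.map (h : OrthDecomp Q U Y) (g : ↥(Cfsg.isometryGroup F ⇑Q)) :
    OrthDecomp Q (U.map (Matrix.mulVecLin ((g : Matrix.GeneralLinearGroup ι F) : Matrix ι ι F)))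
      (Y.map (Matrix.mulVecLin ((g : Matrix.GeneralLinearGroup ι F) : Matrix ι ι F))) := by
  constructor
  · rintro _ ⟨x, hx, rfl⟩ _ ⟨y, hy, rfl⟩
    rw [Matrix.mulVecLin_apply, Matrix.mulVecLin_apply, polar_mulVec Q _ (isom_preserves g)]
    exact h.perp x hx y hy
  · rw [← Submodule.map_sup, h.sup, Submodule.map_top, LinearMap.range_eq_top]
    intro v
    exact ⟨_, by rw [Matrix.mulVecLin_apply]; exact isom_mulVec_inv _ g v⟩

theorem mem_map_isom_iff (Q : (ι → F) → F) (g : ↥(Cfsg.isometryGroup F Q))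
    (U : Submodule F (ι → F)) (x : ι → F) :
    x ∈ U.map (Matrix.mulVecLin ((g : Matrix.GeneralLinearGroup ι F) : Matrix ι ι F)) ↔
      (((g⁻¹ : ↥(Cfsg.isometryGroup F Q)) : Matrix.GeneralLinearGroup ι F) : Matrix ι ι F) *ᵥ x
        ∈ U := by
  constructor
  · rintro ⟨y, hy, rfl⟩
    rw [Matrix.mulVecLin_apply, isom_inv_mulVec]
    exact hy
  · intro hx
    exact ⟨_, hx, by rw [Matrix.mulVecLin_apply, isom_mulVec_inv]⟩

theorem finrank_map_isom (Q : (ι → F) → F) (g : ↥(Cfsg.isometryGroup F Q))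
    (U : Submodule F (ι → F)) :
    finrank F ↥(U.map (Matrix.mulVecLin ((g : Matrix.GeneralLinearGroup ι F) : Matrix ι ι F))) =
      finrank F U :=
  (LinearEquiv.finrank_eq (Submodule.equivMapOfInjective _ (isom_mulVecLin_injective g) U)).symm

/-- Standing hypotheses: `M` contains the stabiliser in `Ω` of `U`, where `V = U ⊥ Y`. -/
structure NSetup (Q : QuadraticForm F (ι → F)) (U Y : Submodule F (ι → F))
    (M : Subgroup ↥(Cfsg.isometryGroup F ⇑Q)) [Fintype F] : Prop where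
  hQ : (QuadraticMap.polarBilin Q).Nondegenerate
  hn : 5 ≤ Fintype.card ι
  hD : OrthDecomp Q U Y
  hPM : ∀ g ∈ commutator ↥(Cfsg.isometryGroup F ⇑Q),
    (∀ x ∈ U, ((g : Matrix.GeneralLinearGroup ι F) : Matrix ι ι F) *ᵥ x ∈ U) → g ∈ M

/-- Irreducibility hypothesis on the small side. -/
def IrrHyp (Q : QuadraticForm F (ι → F)) (Y : Submodule F (ι → F)) : Prop :=
  ∀ A : Submodule F (ι → F), A ≤ Y → A ≠ ⊥ →
    (∀ x ∈ Y, ∀ y ∈ Y, Q x = 0 → QuadraticMap.polar ⇑Q x y = 0 →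
      ∀ z ∈ A, eichMat Q x y *ᵥ z ∈ A) →
    (∀ a ∈ Y, Q a ≠ 0 → ∀ z ∈ A, Cfsg.reflectionMatrix ⇑Q a *ᵥ z ∈ A) → A = Y

variable [Fintype F] {M : Subgroup ↥(Cfsg.isometryGroup F ⇑Q)}

theorem NSetup.EIn_left (S : NSetup Q U Y M) {x y : ι → F} (hx : x ∈ U) (hy : y ∈ U)
    (hQx : Q x = 0) (hxy : QuadraticMap.polar ⇑Q x y = 0) : EIn Q M x y := by
  intro g hg
  apply S.hPM g (eich_mem_omega Q S.hQ S.hn hQx hxy g hg)
  intro z hz
  rw [hg, eichMat_mulVec]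
  exact U.sub_mem (U.add_mem hz (U.smul_mem _ hy)) (U.smul_mem _ hx)

theorem NSetup.EIn_right (S : NSetup Q U Y M) {x y : ι → F} (hx : x ∈ Y) (hy : y ∈ Y)
    (hQx : Q x = 0) (hxy : QuadraticMap.polar ⇑Q x y = 0) : EIn Q M x y := by
  intro g hg
  apply S.hPM g (eich_mem_omega Q S.hQ S.hn hQx hxy g hg)
  intro z hz
  rw [hg, eichMat_mulVec, QuadraticMap.polar_comm (⇑Q) x z, S.hD.perp z hz x hx,
    QuadraticMap.polar_comm (⇑Q) y z, S.hD.perp z hz y hy]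
  simp only [zero_smul, add_zero, mul_zero, sub_zero]
  exact hz

theorem NSetup.refl_mul_refl_mem (S : NSetup Q U Y M) {a b : ι → F} (ha : Q a ≠ 0)
    (hb : Q b ≠ 0) (hab : Q a = Q b) (haUY : a ∈ U ∨ a ∈ Y) (hbUY : b ∈ U ∨ b ∈ Y) :
    reflElt Q S.hQ a ha * reflElt Q S.hQ b hb ∈ M := by
  apply S.hPM _ (reflElt_mul_reflElt_mem Q S.hQ (fun _ => Or.inr (by have := S.hn; omega)) ha hb hab)
  have hstab : ∀ c, (c ∈ U ∨ c ∈ Y) → ∀ z ∈ U, Cfsg.reflectionMatrix ⇑Q c *ᵥ z ∈ U := by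
    intro c hcUY z hz
    rw [reflectionMatrix_mulVec]
    rcases hcUY with h | h
    · exact U.sub_mem hz (U.smul_mem _ h)
    · rw [QuadraticMap.polar_comm, S.hD.perp z hz c h, mul_zero, zero_smul, sub_zero]
      exact hz
  intro z hz
  simp only [Subgroup.coe_mul, Units.val_mul]
  rw [← Matrix.mulVec_mulVec]
  exact hstab a haUY _ (hstab b hbUY z hz)

theorem NSetup.EIn_sq_smul (S : NSetup Q U Y M) {u u' : ι → F} (hu : u ∈ U) (hu' : u' ∈ U)
    (hQu : Q u = 0) (hQu' : Q u' = 0) (huu' : QuadraticMap.polar ⇑Q u u' = 1) {w : ι → F}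
    (hw : w ∈ Y) (t : F) (h : EIn Q M u w) : EIn Q M u ((t * t) • w) := by
  by_cases ht : t = 0
  · rw [ht, mul_zero, zero_smul]
    exact EIn_zero Q M u
  have huu : QuadraticMap.polar ⇑Q u u = 0 := by rw [polar_self_eq, hQu, mul_zero]
  have hu'u' : QuadraticMap.polar ⇑Q u' u' = 0 := by rw [polar_self_eq, hQu', mul_zero]
  have hu'u : QuadraticMap.polar ⇑Q u' u = 1 := by rw [QuadraticMap.polar_comm]; exact huu'
  have hQb : Q (u + u') = 1 := by
    rw [QuadraticMap.map_add (⇑Q) u u', hQu, hQu', huu']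
    simp
  have hQb' : Q (t⁻¹ • u + t • u') = 1 := by
    rw [QuadraticMap.map_add (⇑Q) (t⁻¹ • u) (t • u'), QuadraticMap.map_smul,
      QuadraticMap.map_smul, hQu, hQu', QuadraticMap.polar_smul_left,
      QuadraticMap.polar_smul_right, huu']
    simp only [smul_eq_mul, mul_zero, zero_add, mul_one]
    exact inv_mul_cancel₀ ht
  have hb0 : Q (u + u') ≠ 0 := by rw [hQb]; exact one_ne_zero
  have hb'0 : Q (t⁻¹ • u + t • u') ≠ 0 := by rw [hQb']; exact one_ne_zero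
  have hg := S.refl_mul_refl_mem hb0 hb'0 (hQb.trans hQb'.symm)
    (Or.inl (U.add_mem hu hu')) (Or.inl (U.add_mem (U.smul_mem _ hu) (U.smul_mem _ hu')))
  have h1 := EIn_conj Q M h _ hg
  have hwu : QuadraticMap.polar ⇑Q u w = 0 := S.hD.perp u hu w hw
  have hwu' : QuadraticMap.polar ⇑Q u' w = 0 := S.hD.perp u' hu' w hw
  have r1 : Cfsg.reflectionMatrix ⇑Q (t⁻¹ • u + t • u') *ᵥ u = (-(t * t)) • u' := by
    rw [reflectionMatrix_mulVec, hQb', QuadraticMap.polar_add_left,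
      QuadraticMap.polar_smul_left, QuadraticMap.polar_smul_left, huu, hu'u]
    match_scalars <;> field_simp <;> ring
  have r2 : Cfsg.reflectionMatrix ⇑Q (t⁻¹ • u + t • u') *ᵥ w = w := by
    rw [reflectionMatrix_mulVec, QuadraticMap.polar_add_left,
      QuadraticMap.polar_smul_left, QuadraticMap.polar_smul_left, hwu, hwu']
    simp
  have e1 : (((reflElt Q S.hQ (u + u') hb0 * reflElt Q S.hQ (t⁻¹ • u + t • u') hb'0 :
      ↥(Cfsg.isometryGroup F ⇑Q)) : Matrix.GeneralLinearGroup ι F) : Matrix ι ι F) *ᵥ u =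
      (t * t) • u := by
    simp only [Subgroup.coe_mul, Units.val_mul]
    rw [← Matrix.mulVec_mulVec, Cfsg.Agent.Lib.Helper44.reflElt_coe,
      Cfsg.Agent.Lib.Helper44.reflElt_coe, r1, reflectionMatrix_mulVec, hQb,
      QuadraticMap.polar_smul_right, QuadraticMap.polar_add_left, huu', hu'u']
    match_scalars <;> simp
  have e3 : (((reflElt Q S.hQ (u + u') hb0 * reflElt Q S.hQ (t⁻¹ • u + t • u') hb'0 :
      ↥(Cfsg.isometryGroup F ⇑Q)) : Matrix.GeneralLinearGroup ι F) : Matrix ι ι F) *ᵥ w = w := by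
    simp only [Subgroup.coe_mul, Units.val_mul]
    rw [← Matrix.mulVec_mulVec, Cfsg.Agent.Lib.Helper44.reflElt_coe,
      Cfsg.Agent.Lib.Helper44.reflElt_coe, r2, reflectionMatrix_mulVec,
      QuadraticMap.polar_add_left, hwu, hwu']
    simp
  rw [e1, e3] at h1
  exact (EIn_smul_left Q M u w (t * t)).mp h1

theorem NSetup.exists_eichSub (S : NSetup Q U Y M) {u u' : ι → F} (hu : u ∈ U) (hu' : u' ∈ U)
    (hQu : Q u = 0) (hQu' : Q u' = 0) (huu' : QuadraticMap.polar ⇑Q u u' = 1) :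
    ∃ A : Submodule F (ι → F), ∀ w, w ∈ A ↔ (w ∈ Y ∧ EIn Q M u w) := by
  refine ⟨
    { carrier := {w | w ∈ Y ∧ EIn Q M u w}
      add_mem' := ?_
      zero_mem' := ?_
      smul_mem' := ?_ }, fun w => Iff.rfl⟩
  · rintro a b ⟨ha, ha'⟩ ⟨hb, hb'⟩
    exact ⟨Y.add_mem ha hb, EIn_add Q S.hQ M hQu (S.hD.perp u hu a ha) (S.hD.perp u hu b hb)
      ha' hb'⟩
  · exact ⟨Y.zero_mem, EIn_zero Q M u⟩
  · rintro c w ⟨hw, hw'⟩
    refine ⟨Y.smul_mem c hw, ?_⟩
    by_cases h2 : (2 : F) = 0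
    · have : CharP F 2 := CharTwo.of_one_ne_zero_of_two_eq_zero one_ne_zero h2
      obtain ⟨t, ht⟩ := FiniteField.isSquare_of_char_two (ringChar.eq F 2) c
      show EIn Q M u (c • w)
      rw [ht]
      exact S.EIn_sq_smul hu hu' hQu hQu' huu' hw t hw'
    · have e : c • w = (((c + 1) / 2) * ((c + 1) / 2)) • w -
          (((c - 1) / 2) * ((c - 1) / 2)) • w := by
        rw [← sub_smul]
        congr 1
        field_simp
        ring
      show EIn Q M u (c • w)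
      rw [e]
      have hp : ∀ s : F, QuadraticMap.polar ⇑Q u (s • w) = 0 := by
        intro s
        rw [QuadraticMap.polar_smul_right, S.hD.perp u hu w hw, smul_zero]
      exact EIn_sub Q S.hQ M hQu (hp _) (hp _)
        (S.EIn_sq_smul hu hu' hQu hQu' huu' hw _ hw')
        (S.EIn_sq_smul hu hu' hQu hQu' huu' hw _ hw')

theorem NSetup.EIn_eich_right (S : NSetup Q U Y M) {u : ι → F} (hu : u ∈ U) {x y : ι → F}
    (hx : x ∈ Y) (hy : y ∈ Y) (hQx : Q x = 0) (hxy : QuadraticMap.polar ⇑Q x y = 0)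
    {w : ι → F} (h : EIn Q M u w) : EIn Q M u (eichMat Q x y *ᵥ w) := by
  have hg : eichElt Q S.hQ x y hQx hxy ∈ M := S.EIn_right hx hy hQx hxy _ rfl
  have h1 := EIn_conj Q M h _ hg
  rw [eichElt_coe] at h1
  have e : eichMat Q x y *ᵥ u = u := by
    rw [eichMat_mulVec, QuadraticMap.polar_comm (⇑Q) x u, S.hD.perp u hu x hx,
      QuadraticMap.polar_comm (⇑Q) y u, S.hD.perp u hu y hy]
    simp
  rw [e] at h1
  exact h1

theorem NSetup.EIn_refl_right (S : NSetup Q U Y M) {u u' : ι → F} (hu : u ∈ U) (hu' : u' ∈ U)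
    (hQu : Q u = 0) (hQu' : Q u' = 0) (huu' : QuadraticMap.polar ⇑Q u u' = 1)
    (hdimU : 4 ≤ finrank F U) {a : ι → F} (ha : a ∈ Y) (hQa : Q a ≠ 0) {w : ι → F}
    (hw : w ∈ Y) (h : EIn Q M u w) : EIn Q M u (Cfsg.reflectionMatrix ⇑Q a *ᵥ w) := by
  have hU₀ := hyp_nondegOn Q (S.hD.nondegOn S.hQ) hu hu' hQu hQu' huu'
  have hfin := finrank_le_inf_qperp_add_two Q U u u'
  obtain ⟨b, hb, hQb⟩ := exists_repr_of_nondeg Q (U ⊓ qperp Q u u') hU₀ (by omega) (Q a)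
  have hQb' : Q b ≠ 0 := by rw [hQb]; exact hQa
  have hb' := (mem_qperp Q u u' b).mp hb.2
  have hg := S.refl_mul_refl_mem hQa hQb' hQb.symm (Or.inr ha) (Or.inl hb.1)
  have h1 := EIn_conj Q M h _ hg
  have r1 : Cfsg.reflectionMatrix ⇑Q b *ᵥ u = u := by
    rw [reflectionMatrix_mulVec, hb'.1]
    simp
  have r2 : Cfsg.reflectionMatrix ⇑Q b *ᵥ w = w := by
    rw [reflectionMatrix_mulVec, S.hD.perp b hb.1 w hw]
    simp
  have e1 : (((reflElt Q S.hQ a hQa * reflElt Q S.hQ b hQb' :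
      ↥(Cfsg.isometryGroup F ⇑Q)) : Matrix.GeneralLinearGroup ι F) : Matrix ι ι F) *ᵥ u = u := by
    simp only [Subgroup.coe_mul, Units.val_mul]
    rw [← Matrix.mulVec_mulVec, Cfsg.Agent.Lib.Helper44.reflElt_coe,
      Cfsg.Agent.Lib.Helper44.reflElt_coe, r1, reflectionMatrix_mulVec,
      QuadraticMap.polar_comm (⇑Q) a u, S.hD.perp u hu a ha]
    simp
  have e2 : (((reflElt Q S.hQ a hQa * reflElt Q S.hQ b hQb' :
      ↥(Cfsg.isometryGroup F ⇑Q)) : Matrix.GeneralLinearGroup ι F) : Matrix ι ι F) *ᵥ w =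
      Cfsg.reflectionMatrix ⇑Q a *ᵥ w := by
    simp only [Subgroup.coe_mul, Units.val_mul]
    rw [← Matrix.mulVec_mulVec, Cfsg.Agent.Lib.Helper44.reflElt_coe,
      Cfsg.Agent.Lib.Helper44.reflElt_coe, r2]
  rw [e1, e2] at h1
  exact h1

/-- If `Ω ≰ M`, no mixed Eichler element lies in `M`. -/
theorem NSetup.eq_zero_of_EIn (S : NSetup Q U Y M) (hdimU : 4 ≤ finrank F U)
    (hirr : IrrHyp Q Y) (hnot : ¬ commutator ↥(Cfsg.isometryGroup F ⇑Q) ≤ M) {u : ι → F}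
    (hu : u ∈ U) (hu0 : u ≠ 0) (hQu : Q u = 0) {w : ι → F} (hw : w ∈ Y) (h : EIn Q M u w) :
    w = 0 := by
  by_contra hw0
  apply hnot
  have hU := S.hD.nondegOn S.hQ
  obtain ⟨u', hu', hQu', huu'⟩ := exists_hyp_partner Q U hU hu hu0 hQu
  obtain ⟨A, hA⟩ := S.exists_eichSub hu hu' hQu hQu' huu'
  have hAY : A ≤ Y := fun x hx => ((hA x).mp hx).1
  have hA0 : A ≠ ⊥ := by
    intro h0
    have hwA : w ∈ A := (hA w).mpr ⟨hw, h⟩
    rw [h0] at hwA
    exact hw0 ((Submodule.mem_bot F).mp hwA)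
  have hAeq : A = Y := by
    apply hirr A hAY hA0
    · intro x hx y hy hQx hxy z hz
      obtain ⟨hzY, hzE⟩ := (hA z).mp hz
      refine (hA _).mpr ⟨?_, S.EIn_eich_right hu hx hy hQx hxy hzE⟩
      rw [eichMat_mulVec]
      exact Y.sub_mem (Y.add_mem hzY (Y.smul_mem _ hy)) (Y.smul_mem _ hx)
    · intro a ha hQa z hz
      obtain ⟨hzY, hzE⟩ := (hA z).mp hz
      refine (hA _).mpr ⟨?_, S.EIn_refl_right hu hu' hQu hQu' huu' hdimU ha hQa hzY hzE⟩
      rw [reflectionMatrix_mulVec]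
      exact Y.sub_mem hzY (Y.smul_mem _ ha)
  have hroot : rootIn Q M u := by
    intro w' huw'
    obtain ⟨a, ha, b, hb, rfl⟩ := S.hD.exists_add w'
    have hub : QuadraticMap.polar ⇑Q u b = 0 := S.hD.perp u hu b hb
    have hua : QuadraticMap.polar ⇑Q u a = 0 := by
      rw [QuadraticMap.polar_add_right, hub, add_zero] at huw'
      exact huw'
    exact EIn_add Q S.hQ M hQu hua hub (S.EIn_left hu ha hQu hua)
      ((hA b).mp (by rw [hAeq]; exact hb)).2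
  have hU₀ := hyp_nondegOn Q hU hu hu' hQu hQu' huu'
  have hfin := finrank_le_inf_qperp_add_two Q U u u'
  obtain ⟨w₁, hw₁, hQw₁⟩ := exists_repr_of_nondeg Q (U ⊓ qperp Q u u') hU₀ (by omega) 1
  have hw₁' := (mem_qperp Q u u' w₁).mp hw₁.2
  have hu'w₁ : QuadraticMap.polar ⇑Q u' w₁ = 0 := by
    rw [QuadraticMap.polar_comm]; exact hw₁'.2
  have hg : eichElt Q S.hQ u' w₁ hQu' hu'w₁ ∈ M := S.EIn_left hu' hw₁.1 hQu' hu'w₁ _ rfl
  have hroot2 := rootIn_conj Q M hroot _ hg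
  rw [eichElt_coe] at hroot2
  have hQgu : Q (eichMat Q u' w₁ *ᵥ u) = 0 := by
    rw [eichMat_isometry Q hQu' hu'w₁]; exact hQu
  have hopp : QuadraticMap.polar ⇑Q u (eichMat Q u' w₁ *ᵥ u) ≠ 0 := by
    rw [eichMat_mulVec, QuadraticMap.polar_sub_right, QuadraticMap.polar_add_right,
      QuadraticMap.polar_smul_right, QuadraticMap.polar_smul_right, polar_self_eq, hQu,
      QuadraticMap.polar_comm (⇑Q) u' u, huu', QuadraticMap.polar_comm (⇑Q) u w₁, hw₁'.1, hQw₁]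
    simp
  exact omega_le_of_rootIn Q S.hQ S.hn M (rootIn_all Q S.hQ M hQu hQgu hopp hroot hroot2)

theorem NSetup.stab_perp (S : NSetup Q U Y M)
    (hmin : ∀ u ∈ U, u ≠ 0 → Q u = 0 → ∀ w ∈ Y, EIn Q M u w → w = 0)
    {g : ↥(Cfsg.isometryGroup F ⇑Q)} (hg : g ∈ M) {u : ι → F} (hu : u ∈ U) (hu0 : u ≠ 0)
    (hQu : Q u = 0)
    (hgu : ((g : Matrix.GeneralLinearGroup ι F) : Matrix ι ι F) *ᵥ u ∈ U) {w : ι → F}
    (hw : w ∈ U) (huw : QuadraticMap.polar ⇑Q u w = 0) :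
    ((g : Matrix.GeneralLinearGroup ι F) : Matrix ι ι F) *ᵥ w ∈ U := by
  have h1 := EIn_conj Q M (S.EIn_left hu hw hQu huw) g hg
  obtain ⟨a, ha, b, hb, hab⟩ := S.hD.exists_add
    (((g : Matrix.GeneralLinearGroup ι F) : Matrix ι ι F) *ᵥ w)
  have hQgu : Q (((g : Matrix.GeneralLinearGroup ι F) : Matrix ι ι F) *ᵥ u) = 0 :=
    (isom_preserves g u).trans hQu
  have hgu0 := isom_mulVec_ne_zero _ g hu0
  have hguw : QuadraticMap.polar ⇑Q (((g : Matrix.GeneralLinearGroup ι F) : Matrix ι ι F) *ᵥ u)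
      (((g : Matrix.GeneralLinearGroup ι F) : Matrix ι ι F) *ᵥ w) = 0 := by
    rw [polar_mulVec Q _ (isom_preserves g)]; exact huw
  have hgub : QuadraticMap.polar ⇑Q (((g : Matrix.GeneralLinearGroup ι F) : Matrix ι ι F) *ᵥ u)
      b = 0 := S.hD.perp _ hgu b hb
  have hgua : QuadraticMap.polar ⇑Q (((g : Matrix.GeneralLinearGroup ι F) : Matrix ι ι F) *ᵥ u)
      a = 0 := by
    have h2 := hguw
    rw [hab, QuadraticMap.polar_add_right, hgub, add_zero] at h2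
    exact h2
  have h2 : EIn Q M (((g : Matrix.GeneralLinearGroup ι F) : Matrix ι ι F) *ᵥ u) b := by
    have e : b = ((g : Matrix.GeneralLinearGroup ι F) : Matrix ι ι F) *ᵥ w - a := by
      rw [hab]; abel
    rw [e]
    exact EIn_sub Q S.hQ M hQgu hguw hgua h1 (S.EIn_left hgu ha hQgu hgua)
  have hb0 := hmin _ hgu hgu0 hQgu b hb h2
  rw [hab, hb0, add_zero]
  exact ha

theorem NSetup.eich_conj_stab (S : NSetup Q U Y M)
    (hmin : ∀ u ∈ U, u ≠ 0 → Q u = 0 → ∀ w ∈ Y, EIn Q M u w → w = 0)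
    (hdimU : 6 ≤ finrank F U) {h : ↥(Cfsg.isometryGroup F ⇑Q)} (hh : h ∈ M) {x y : ι → F}
    (hx : (((h⁻¹ : ↥(Cfsg.isometryGroup F ⇑Q)) : Matrix.GeneralLinearGroup ι F) :
      Matrix ι ι F) *ᵥ x ∈ U)
    (hy : (((h⁻¹ : ↥(Cfsg.isometryGroup F ⇑Q)) : Matrix.GeneralLinearGroup ι F) :
      Matrix ι ι F) *ᵥ y ∈ U)
    (hQx : Q x = 0) (hxy : QuadraticMap.polar ⇑Q x y = 0) :
    ∀ w ∈ U, eichMat Q x y *ᵥ w ∈ U := by
  have hE : EIn Q M x y := by
    have h1 := S.EIn_left hx hy ((isom_preserves h⁻¹ x).trans hQx)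
      (by rw [polar_mulVec Q _ (isom_preserves h⁻¹)]; exact hxy)
    have h2 := EIn_conj Q M h1 h hh
    rw [isom_mulVec_inv, isom_mulVec_inv] at h2
    exact h2
  have hg : eichElt Q S.hQ x y hQx hxy ∈ M := hE _ rfl
  have hU := S.hD.nondegOn S.hQ
  have h1 := finrank_le_inf_ker_add_one (QuadraticMap.polarBilin Q x) U
  have h2 := finrank_le_inf_ker_add_one (QuadraticMap.polarBilin Q y)
    (U ⊓ LinearMap.ker (QuadraticMap.polarBilin Q x))
  obtain ⟨u₁, hu₁, hu₁0, hQu₁⟩ := exists_isotropic Q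
    (U ⊓ LinearMap.ker (QuadraticMap.polarBilin Q x) ⊓
      LinearMap.ker (QuadraticMap.polarBilin Q y)) (by omega)
  obtain ⟨u₁', hu₁', hQu₁', hu₁u₁'⟩ := exists_hyp_partner Q U hU hu₁.1.1 hu₁0 hQu₁
  have h3 := finrank_le_inf_ker_add_one (QuadraticMap.polarBilin Q u₁')
    (U ⊓ LinearMap.ker (QuadraticMap.polarBilin Q x) ⊓
      LinearMap.ker (QuadraticMap.polarBilin Q y))
  obtain ⟨u₂, hu₂, hu₂0, hQu₂⟩ := exists_isotropic Q
    (U ⊓ LinearMap.ker (QuadraticMap.polarBilin Q x) ⊓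
      LinearMap.ker (QuadraticMap.polarBilin Q y) ⊓
      LinearMap.ker (QuadraticMap.polarBilin Q u₁')) (by omega)
  have hxu₁ : QuadraticMap.polar ⇑Q x u₁ = 0 := LinearMap.mem_ker.mp hu₁.1.2
  have hyu₁ : QuadraticMap.polar ⇑Q y u₁ = 0 := LinearMap.mem_ker.mp hu₁.2
  have hxu₂ : QuadraticMap.polar ⇑Q x u₂ = 0 := LinearMap.mem_ker.mp hu₂.1.1.2
  have hyu₂ : QuadraticMap.polar ⇑Q y u₂ = 0 := LinearMap.mem_ker.mp hu₂.1.2
  have hu₁'u₂ : QuadraticMap.polar ⇑Q u₁' u₂ = 0 := LinearMap.mem_ker.mp hu₂.2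
  have hfix : ∀ u, QuadraticMap.polar ⇑Q x u = 0 → QuadraticMap.polar ⇑Q y u = 0 →
      eichMat Q x y *ᵥ u = u := by
    intro u h1 h2
    rw [eichMat_mulVec, h1, h2]
    simp
  intro w hw
  have e : w = (w - QuadraticMap.polar ⇑Q u₁ w • u₁') + QuadraticMap.polar ⇑Q u₁ w • u₁' := by
    abel
  rw [e, Matrix.mulVec_add, Matrix.mulVec_smul]
  apply U.add_mem
  · have h4 := S.stab_perp hmin hg hu₁.1.1 hu₁0 hQu₁
      (by rw [eichElt_coe, hfix u₁ hxu₁ hyu₁]; exact hu₁.1.1)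
      (U.sub_mem hw (U.smul_mem (QuadraticMap.polar ⇑Q u₁ w) hu₁'))
      (by rw [QuadraticMap.polar_sub_right, QuadraticMap.polar_smul_right, hu₁u₁']; simp)
    exact h4
  · apply U.smul_mem
    have h4 := S.stab_perp hmin hg hu₂.1.1.1 hu₂0 hQu₂
      (by rw [eichElt_coe, hfix u₂ hxu₂ hyu₂]; exact hu₂.1.1.1) hu₁'
      (by rw [QuadraticMap.polar_comm]; exact hu₁'u₂)
    exact h4

/-- If all Eichler transformations of a nondegenerate subspace `U₁` stabilise `U`, then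
`U₁ ≤ U` or `U ⊥ U₁`. -/
theorem le_or_perp_of_eich_stab (Q : QuadraticForm F (ι → F)) {U U₁ : Submodule F (ι → F)}
    (hU₁ : QNondegOn Q U₁) (hdim : 3 ≤ finrank F U₁)
    (hstab : ∀ x ∈ U₁, ∀ y ∈ U₁, Q x = 0 → QuadraticMap.polar ⇑Q x y = 0 →
      ∀ w ∈ U, eichMat Q x y *ᵥ w ∈ U) :
    U₁ ≤ U ∨ (∀ w ∈ U, ∀ x ∈ U₁, QuadraticMap.polar ⇑Q w x = 0) := by
  by_cases hD : U ⊓ U₁ = ⊥
  · right
    have hBinv : ∀ x ∈ U₁, ∀ y ∈ U₁, Q x = 0 → QuadraticMap.polar ⇑Q x y = 0 →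
        ∀ z ∈ U₁ ⊓ Cfsg.Agent.Lib.Helper44.orth Q U,
          eichMat Q x y *ᵥ z ∈ U₁ ⊓ Cfsg.Agent.Lib.Helper44.orth Q U := by
      intro x hx y hy hQx hxy z hz
      refine ⟨?_, (Cfsg.Agent.Lib.Helper44.mem_orth_iff Q U _).mpr ?_⟩
      · rw [eichMat_mulVec]
        exact U₁.sub_mem (U₁.add_mem hz.1 (U₁.smul_mem _ hy)) (U₁.smul_mem _ hx)
      · intro w hw
        have hxy' : QuadraticMap.polar ⇑Q x (-y) = 0 := by
          rw [QuadraticMap.polar_neg_right, hxy, neg_zero]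
        have h1 := polar_mulVec Q _ (eichMat_isometry Q hQx hxy') w (eichMat Q x y *ᵥ z)
        rw [Matrix.mulVec_mulVec, eichMat_mul Q hQx hxy' hxy, neg_add_cancel,
          eichMat_zero_right, Matrix.one_mulVec] at h1
        rw [← h1]
        exact (Cfsg.Agent.Lib.Helper44.mem_orth_iff Q U z).mp hz.2 _
          (hstab x hx (-y) (U₁.neg_mem hy) hQx hxy' w hw)
    have hB0 : U₁ ⊓ Cfsg.Agent.Lib.Helper44.orth Q U ≠ ⊥ := by
      obtain ⟨e, he, he0, hQe⟩ := exists_isotropic Q U₁ hdim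
      obtain ⟨e', he', hQe', hee'⟩ := exists_hyp_partner Q U₁ hU₁ he he0 hQe
      have hU₀ := hyp_nondegOn Q hU₁ he he' hQe hQe' hee'
      have hfin := finrank_le_inf_qperp_add_two Q U₁ e e'
      obtain ⟨c, hc, hc0⟩ := exists_ne_zero_of_finrank_pos (M := U₁ ⊓ qperp Q e e') (by omega)
      obtain ⟨d, hd, hcd⟩ : ∃ d ∈ U₁ ⊓ qperp Q e e', QuadraticMap.polar ⇑Q c d ≠ 0 := by
        by_contra hcon
        push Not at hcon
        exact hc0 (hU₀ c hc hcon)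
      have hc' := (mem_qperp Q e e' c).mp hc.2
      have hd' := (mem_qperp Q e e' d).mp hd.2
      have hec : QuadraticMap.polar ⇑Q e c = 0 := by rw [QuadraticMap.polar_comm]; exact hc'.1
      have hed : QuadraticMap.polar ⇑Q e d = 0 := by rw [QuadraticMap.polar_comm]; exact hd'.1
      have heB : e ∈ U₁ ⊓ Cfsg.Agent.Lib.Helper44.orth Q U := by
        refine ⟨he, (Cfsg.Agent.Lib.Helper44.mem_orth_iff Q U _).mpr ?_⟩
        intro w hw
        have h1 := hstab e he c hc.1 hQe hec w hw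
        have e3 : eichMat Q e c *ᵥ w - w = QuadraticMap.polar ⇑Q e w • c -
            (QuadraticMap.polar ⇑Q c w + Q c * QuadraticMap.polar ⇑Q e w) • e := by
          rw [eichMat_mulVec]; abel
        have h2 : QuadraticMap.polar ⇑Q e w • c -
            (QuadraticMap.polar ⇑Q c w + Q c * QuadraticMap.polar ⇑Q e w) • e ∈ U ⊓ U₁ := by
          refine ⟨?_, U₁.sub_mem (U₁.smul_mem _ hc.1) (U₁.smul_mem _ he)⟩
          rw [← e3]
          exact U.sub_mem h1 hw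
        rw [hD, Submodule.mem_bot] at h2
        have h3 : QuadraticMap.polar ⇑Q (QuadraticMap.polar ⇑Q e w • c -
            (QuadraticMap.polar ⇑Q c w + Q c * QuadraticMap.polar ⇑Q e w) • e) d = 0 := by
          rw [h2, QuadraticMap.polar_zero_left]
        rw [QuadraticMap.polar_sub_left, QuadraticMap.polar_smul_left,
          QuadraticMap.polar_smul_left, hed, smul_zero, sub_zero, smul_eq_mul] at h3
        rcases mul_eq_zero.mp h3 with h4 | h4
        · rw [QuadraticMap.polar_comm]; exact h4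
        · exact absurd h4 hcd
      intro h0
      rw [h0] at heB
      exact he0 ((Submodule.mem_bot F).mp heB)
    have hBeq := eich_irreducible Q hU₁ hdim (U₁ ⊓ Cfsg.Agent.Lib.Helper44.orth Q U)
      inf_le_left hBinv hB0
    intro w hw x hx
    have hxB : x ∈ U₁ ⊓ Cfsg.Agent.Lib.Helper44.orth Q U := by rw [hBeq]; exact hx
    exact (Cfsg.Agent.Lib.Helper44.mem_orth_iff Q U x).mp hxB.2 w hw
  · left
    have hDinv : ∀ x ∈ U₁, ∀ y ∈ U₁, Q x = 0 → QuadraticMap.polar ⇑Q x y = 0 →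
        ∀ z ∈ U ⊓ U₁, eichMat Q x y *ᵥ z ∈ U ⊓ U₁ := by
      intro x hx y hy hQx hxy z hz
      refine ⟨hstab x hx y hy hQx hxy z hz.1, ?_⟩
      rw [eichMat_mulVec]
      exact U₁.sub_mem (U₁.add_mem hz.2 (U₁.smul_mem _ hy)) (U₁.smul_mem _ hx)
    have h1 := eich_irreducible Q hU₁ hdim (U ⊓ U₁) inf_le_right hDinv hD
    rw [← h1]
    exact inf_le_left

/-- Overgroups of the stabiliser of a nondegenerate subspace. -/
theorem nondeg_max (S : NSetup Q U Y M) (hdimU : 6 ≤ finrank F U) (hirr : IrrHyp Q Y) :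
    (∀ g ∈ M, ∀ x ∈ U, ((g : Matrix.GeneralLinearGroup ι F) : Matrix ι ι F) *ᵥ x ∈ U) ∨
      commutator ↥(Cfsg.isometryGroup F ⇑Q) ≤ M ∨
      (∃ h ∈ M, ∀ w ∈ U, ∀ x ∈ U, QuadraticMap.polar ⇑Q w
        (((h : Matrix.GeneralLinearGroup ι F) : Matrix ι ι F) *ᵥ x) = 0) := by
  by_cases hΩ : commutator ↥(Cfsg.isometryGroup F ⇑Q) ≤ M
  · right; left; exact hΩ
  by_cases hsw : ∃ h ∈ M, ∀ w ∈ U, ∀ x ∈ U, QuadraticMap.polar ⇑Q w
      (((h : Matrix.GeneralLinearGroup ι F) : Matrix ι ι F) *ᵥ x) = 0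
  · right; right; exact hsw
  left
  have hmin : ∀ u ∈ U, u ≠ 0 → Q u = 0 → ∀ w ∈ Y, EIn Q M u w → w = 0 :=
    fun u hu hu0 hQu w hw h => S.eq_zero_of_EIn (by omega) hirr hΩ hu hu0 hQu hw h
  intro h hh
  have hD₁ := S.hD.map h
  have hU₁ := hD₁.nondegOn S.hQ
  have hfin := finrank_map_isom (⇑Q) h U
  have hstab : ∀ x ∈ U.map (Matrix.mulVecLin ((h : Matrix.GeneralLinearGroup ι F) :
      Matrix ι ι F)), ∀ y ∈ U.map (Matrix.mulVecLin ((h : Matrix.GeneralLinearGroup ι F) :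
      Matrix ι ι F)), Q x = 0 → QuadraticMap.polar ⇑Q x y = 0 →
      ∀ w ∈ U, eichMat Q x y *ᵥ w ∈ U := by
    intro x hx y hy hQx hxy
    exact S.eich_conj_stab hmin hdimU hh ((mem_map_isom_iff _ h U x).mp hx)
      ((mem_map_isom_iff _ h U y).mp hy) hQx hxy
  rcases le_or_perp_of_eich_stab Q hU₁ (by omega) hstab with h1 | h1
  · intro x hx
    exact h1 ⟨x, hx, rfl⟩
  · exfalso
    apply hsw
    refine ⟨h, hh, ?_⟩
    intro w hw x hx
    exact h1 w hw _ ⟨x, hx, rfl⟩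

theorem nondeg_max_unbalanced (S : NSetup Q U Y M) (hdimU : 6 ≤ finrank F U)
    (hirr : IrrHyp Q Y) (hlt : finrank F Y < finrank F U) :
    (∀ g ∈ M, ∀ x ∈ U, ((g : Matrix.GeneralLinearGroup ι F) : Matrix ι ι F) *ᵥ x ∈ U) ∨
      commutator ↥(Cfsg.isometryGroup F ⇑Q) ≤ M := by
  rcases nondeg_max S hdimU hirr with h | h | ⟨h, hh, hperp⟩
  · left; exact h
  · right; exact h
  · exfalso
    have hU := S.hD.nondegOn S.hQ
    have hinf : U ⊓ U.map (Matrix.mulVecLin ((h : Matrix.GeneralLinearGroup ι F) :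
        Matrix ι ι F)) = ⊥ := by
      rw [eq_bot_iff]
      rintro x ⟨hx, ⟨y, hy, rfl⟩⟩
      rw [Submodule.mem_bot]
      apply hU _ hx
      intro v hv
      rw [QuadraticMap.polar_comm]
      exact hperp v hv y hy
    have h1 := Submodule.finrank_sup_add_finrank_inf_eq U
      (U.map (Matrix.mulVecLin ((h : Matrix.GeneralLinearGroup ι F) : Matrix ι ι F)))
    have h2 := Submodule.finrank_le
      (U ⊔ U.map (Matrix.mulVecLin ((h : Matrix.GeneralLinearGroup ι F) : Matrix ι ι F)))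
    have h3 := finrank_map_isom (⇑Q) h U
    have h4 := S.hD.finrank_add S.hQ
    rw [hinf, finrank_bot, h3] at h1
    rw [Module.finrank_fintype_fun_eq_card] at h2
    omega

end orthdecomp

end Cfsg.Agent.Lib.Helper14
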