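import Mathlib
import Cfsg.Agent.Lib.Helper14.NondegC

set_option autoImplicit false

namespace Cfsg.Agent.Lib.Helper14

open Matrix Module

section irrhyp

open Cfsg.Agent.Lib.Helper99

variable {ι : Type} [Fintype ι] [DecidableEq ι] {F : Type*} [Field F]

/-- A reflection-invariant subspace contains every non-singular vector not orthogonal to it. -/
theorem mem_of_refl_inv (Q : QuadraticForm F (ι → F)) {Y A : Submodule F (ι → F)}
    (hrefl : ∀ a ∈ Y, Q a ≠ 0 → ∀ z ∈ A, Cfsg.reflectionMatrix ⇑Q a *ᵥ z ∈ A) {a : ι → F}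
    (ha : a ∈ Y) (hQa : Q a ≠ 0) {z : ι → F} (hz : z ∈ A)
    (haz : QuadraticMap.polar ⇑Q a z ≠ 0) : a ∈ A := by
  have h1 := hrefl a ha hQa z hz
  rw [reflectionMatrix_mulVec] at h1
  have h2 := A.sub_mem hz h1
  have e : z - (z - ((Q a)⁻¹ * QuadraticMap.polar ⇑Q a z) • a) =
      ((Q a)⁻¹ * QuadraticMap.polar ⇑Q a z) • a := by abel
  rw [e] at h2
  have h3 := A.smul_mem ((Q a)⁻¹ * QuadraticMap.polar ⇑Q a z)⁻¹ h2
  rwa [smul_smul, inv_mul_cancel₀ (mul_ne_zero (inv_ne_zero hQa) haz), one_smul] at h3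

theorem irrHyp_of_three [Fintype F] (Q : QuadraticForm F (ι → F)) {Y : Submodule F (ι → F)}
    (hY : QNondegOn Q Y) (h : 3 ≤ finrank F Y) : IrrHyp Q Y :=
  fun A hAY hA0 hinv _ => eich_irreducible Q hY h A hAY hinv hA0

theorem irrHyp_of_one (Q : QuadraticForm F (ι → F)) {Y : Submodule F (ι → F)}
    (h : finrank F Y = 1) : IrrHyp Q Y := by
  intro A hAY hA0 _ _
  apply Submodule.eq_of_le_of_finrank_le hAY
  by_contra hcon
  apply hA0
  apply Submodule.finrank_eq_zero.mp
  omega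

theorem irrHyp_of_aniso (Q : QuadraticForm F (ι → F)) {Y : Submodule F (ι → F)}
    (hY : QNondegOn Q Y) (haniso : ∀ y ∈ Y, Q y = 0 → y = 0) : IrrHyp Q Y := by
  intro A hAY hA0 _ hrefl
  obtain ⟨z, hzA, hz0⟩ := Submodule.exists_mem_ne_zero_of_ne_bot hA0
  by_contra hne
  have hnle : ¬ Y ≤ A := fun hle => hne (le_antisymm hAY hle)
  obtain ⟨y, hyY, hyA⟩ := SetLike.not_le_iff_exists.mp hnle
  have h1 : ∀ v ∈ Y, v ∉ A → QuadraticMap.polar ⇑Q v z = 0 := by
    intro v hvY hvA
    by_contra hvz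
    have hv0 : v ≠ 0 := by
      rintro rfl
      exact hvA A.zero_mem
    exact hvA (mem_of_refl_inv Q hrefl hvY (fun h => hv0 (haniso v hvY h)) hzA hvz)
  apply hz0
  apply hY z (hAY hzA)
  intro v hvY
  rw [QuadraticMap.polar_comm]
  by_cases hvA : v ∈ A
  · have h2 : v + y ∉ A := by
      intro h
      apply hyA
      have := A.sub_mem h hvA
      rwa [add_sub_cancel_left] at this
    have h3 := h1 (v + y) (Y.add_mem hvY hyY) h2
    rw [QuadraticMap.polar_add_left, h1 y hyY hyA, add_zero] at h3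
    exact h3
  · exact h1 v hvY hvA

theorem finrank_inf_qperp_add_two_le (Q : QuadraticForm F (ι → F)) (M : Submodule F (ι → F))
    {v w : ι → F} (hv : v ∈ M) (hw : w ∈ M) (hQv : Q v = 0)
    (hvw : QuadraticMap.polar ⇑Q v w = 1) [FiniteDimensional F (ι → F)] :
    finrank F ↥(M ⊓ qperp Q v w) + 2 ≤ finrank F M := by
  have hvv : QuadraticMap.polar ⇑Q v v = 0 := by rw [polar_self_eq, hQv, mul_zero]
  have h1 : M ⊓ qperp Q v w < (M ⊓ qperp Q v w) ⊔ Submodule.span F {v} := by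
    apply lt_of_le_of_ne le_sup_left
    intro heq
    have hvm : v ∈ M ⊓ qperp Q v w := by
      rw [heq]
      exact Submodule.mem_sup_right (Submodule.mem_span_singleton_self v)
    have := ((mem_qperp Q v w v).mp hvm.2).2
    rw [hvw] at this
    exact one_ne_zero this
  have h2 : (M ⊓ qperp Q v w) ⊔ Submodule.span F {v} <
      ((M ⊓ qperp Q v w) ⊔ Submodule.span F {v}) ⊔ Submodule.span F {w} := by
    apply lt_of_le_of_ne le_sup_left
    intro heq
    have hwm : w ∈ (M ⊓ qperp Q v w) ⊔ Submodule.span F {v} := by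
      rw [heq]
      exact Submodule.mem_sup_right (Submodule.mem_span_singleton_self w)
    obtain ⟨m, hm, b, hb, hmb⟩ := Submodule.mem_sup.mp hwm
    obtain ⟨c, rfl⟩ := Submodule.mem_span_singleton.mp hb
    have h3 : QuadraticMap.polar ⇑Q (m + c • v) v = 0 := by
      rw [QuadraticMap.polar_add_left, QuadraticMap.polar_smul_left, hvv,
        ((mem_qperp Q v w m).mp hm.2).1]
      simp
    rw [hmb, QuadraticMap.polar_comm, hvw] at h3
    exact one_ne_zero h3
  have h3 : ((M ⊓ qperp Q v w) ⊔ Submodule.span F {v}) ⊔ Submodule.span F {w} ≤ M := by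
    apply sup_le (sup_le inf_le_left _) _
    · rw [Submodule.span_singleton_le_iff_mem]; exact hv
    · rw [Submodule.span_singleton_le_iff_mem]; exact hw
  have h4 := Submodule.finrank_lt_finrank_of_lt h1
  have h5 := Submodule.finrank_lt_finrank_of_lt h2
  have h6 := Submodule.finrank_mono h3
  omega

theorem irrHyp_of_hyp_plane [Fintype F] (Q : QuadraticForm F (ι → F))
    {Y : Submodule F (ι → F)} (hY : QNondegOn Q Y) (hdim : finrank F Y = 2)
    (hq : 4 ≤ Fintype.card F) {e : ι → F} (he : e ∈ Y) (he0 : e ≠ 0) (hQe : Q e = 0) :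
    IrrHyp Q Y := by
  classical
  obtain ⟨e', he', hQe', hee'⟩ := exists_hyp_partner Q Y hY he he0 hQe
  have hfin := finrank_inf_qperp_add_two_le Q Y he he' hQe hee'
  have hY₀ : Y ⊓ qperp Q e e' = ⊥ := Submodule.finrank_eq_zero.mp (by omega)
  have hdec : ∀ v ∈ Y, ∃ α β : F, v = α • e + β • e' := by
    intro v hv
    obtain ⟨m', hm', α, β, rfl⟩ := hyp_decomp Q he he' hQe hQe' hee' hv
    rw [hY₀, Submodule.mem_bot] at hm'
    exact ⟨α, β, by rw [hm', zero_add]⟩
  have hee : QuadraticMap.polar ⇑Q e e = 0 := by rw [polar_self_eq, hQe, mul_zero]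
  have he'e' : QuadraticMap.polar ⇑Q e' e' = 0 := by rw [polar_self_eq, hQe', mul_zero]
  have he'e : QuadraticMap.polar ⇑Q e' e = 1 := by rw [QuadraticMap.polar_comm]; exact hee'
  intro A hAY hA0 _ hrefl
  obtain ⟨z, hzA, hz0⟩ := Submodule.exists_mem_ne_zero_of_ne_bot hA0
  obtain ⟨α, β, hz⟩ := hdec z (hAY hzA)
  -- the bad parameter
  obtain ⟨b, hb⟩ : ∃ b : F, b = if α = 0 then 0 else -β / α := ⟨_, rfl⟩
  have hgood : ∀ t : F, t ≠ 0 → t ≠ b → e + t • e' ∈ A := by
    intro t ht0 htb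
    have hQa : Q (e + t • e') ≠ 0 := by
      rw [QuadraticMap.map_add (⇑Q) e (t • e'), QuadraticMap.map_smul, hQe, hQe',
        QuadraticMap.polar_smul_right, hee']
      simpa using ht0
    apply mem_of_refl_inv Q hrefl (Y.add_mem he (Y.smul_mem _ he')) hQa hzA
    have hp : QuadraticMap.polar ⇑Q (e + t • e') (α • e + β • e') = β + t * α := by
      simp only [QuadraticMap.polar_add_left, QuadraticMap.polar_add_right,
        QuadraticMap.polar_smul_left, QuadraticMap.polar_smul_right, hee, he'e', hee', he'e,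
        smul_eq_mul]
      ring
    rw [hz, hp]
    intro h0
    by_cases hα : α = 0
    · apply hz0
      rw [hα, mul_zero, add_zero] at h0
      rw [hz, hα, h0, zero_smul, zero_smul, add_zero]
    · apply htb
      rw [hb, if_neg hα]
      field_simp
      linear_combination h0
  -- two good parameters
  have hcard : 1 < ((Finset.univ.erase (0 : F)).erase b).card := by
    have h1 := Finset.card_erase_of_mem (Finset.mem_univ (0 : F))
    have h2 := Finset.pred_card_le_card_erase (s := Finset.univ.erase (0 : F)) (a := b)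
    rw [Finset.card_univ] at h1
    omega
  obtain ⟨t₁, ht₁, t₂, ht₂, hne⟩ := Finset.one_lt_card.mp hcard
  rw [Finset.mem_erase, Finset.mem_erase] at ht₁ ht₂
  have h1 := hgood t₁ ht₁.2.1 ht₁.1
  have h2 := hgood t₂ ht₂.2.1 ht₂.1
  have he'A : e' ∈ A := by
    have h3 := A.sub_mem h1 h2
    have e3 : e + t₁ • e' - (e + t₂ • e') = (t₁ - t₂) • e' := by module
    rw [e3] at h3
    have h4 := A.smul_mem (t₁ - t₂)⁻¹ h3
    rwa [smul_smul, inv_mul_cancel₀ (sub_ne_zero.mpr hne), one_smul] at h4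
  have heA : e ∈ A := by
    have h3 := A.sub_mem h1 (A.smul_mem t₁ he'A)
    rwa [add_sub_cancel_right] at h3
  apply le_antisymm hAY
  intro v hv
  obtain ⟨α', β', rfl⟩ := hdec v hv
  exact A.add_mem (A.smul_mem _ heA) (A.smul_mem _ he'A)

/-- The irreducibility hypothesis holds for every nondegenerate non-zero subspace, except
possibly for hyperbolic planes over fields with at most three elements. -/
theorem irrHyp_of_cases [Fintype F] (Q : QuadraticForm F (ι → F)) {Y : Submodule F (ι → F)}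
    (hY : QNondegOn Q Y) (hY0 : Y ≠ ⊥)
    (hplane : finrank F Y = 2 → (∃ e ∈ Y, e ≠ 0 ∧ Q e = 0) → 4 ≤ Fintype.card F) :
    IrrHyp Q Y := by
  have h0 : finrank F Y ≠ 0 := fun h => hY0 (Submodule.finrank_eq_zero.mp h)
  by_cases h1 : finrank F Y = 1
  · exact irrHyp_of_one Q h1
  by_cases h2 : finrank F Y = 2
  · by_cases hs : ∃ e ∈ Y, e ≠ 0 ∧ Q e = 0
    · obtain ⟨e, he, he0, hQe⟩ := hs
      exact irrHyp_of_hyp_plane Q hY h2 (hplane h2 ⟨e, he, he0, hQe⟩) he he0 hQe
    · push Not at hs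
      exact irrHyp_of_aniso Q hY (fun y hy hQy => by_contra fun hy0 => hs y hy hy0 hQy)
  · exact irrHyp_of_three Q hY (by omega)

end irrhyp

section bridge

open Cfsg.Agent.Lib.Helper99

variable {ι : Type} [Fintype ι] [DecidableEq ι] {F : Type*} [Field F]

theorem orthDecomp_of_nondegOn (Q : QuadraticForm F (ι → F))
    (hQ : (QuadraticMap.polarBilin Q).Nondegenerate) (W : Submodule F (ι → F))
    (hW : Cfsg.Geo.IsNondegenerateOn (QuadraticMap.polar ⇑Q) W) :
    OrthDecomp Q W (Cfsg.Agent.Lib.Helper44.orth Q W) := by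
  constructor
  · intro x hx y hy
    exact (Cfsg.Agent.Lib.Helper44.mem_orth_iff Q W y).mp hy x hx
  · have hinf : W ⊓ Cfsg.Agent.Lib.Helper44.orth Q W = ⊥ := by
      rw [eq_bot_iff]
      intro x hx
      rw [Submodule.mem_bot]
      by_contra hx0
      obtain ⟨⟨x', hx', hne⟩, -⟩ := hW x hx.1 hx0
      exact hne ((Cfsg.Agent.Lib.Helper44.mem_orth_iff Q W x).mp hx.2 x' hx')
    apply Submodule.eq_top_of_finrank_eq
    have h1 := Submodule.finrank_sup_add_finrank_inf_eq W (Cfsg.Agent.Lib.Helper44.orth Q W)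
    have h2 := Cfsg.Agent.Lib.Helper44.finrank_orth Q hQ W
    have h3 := Submodule.finrank_le W
    rw [hinf, finrank_bot] at h1
    omega

theorem geo_nondegOn_of (Q : QuadraticForm F (ι → F)) {Y : Submodule F (ι → F)}
    (hY : QNondegOn Q Y) : Cfsg.Geo.IsNondegenerateOn (QuadraticMap.polar ⇑Q) Y := by
  intro w hw hw0
  have h1 : ∃ x ∈ Y, QuadraticMap.polar ⇑Q w x ≠ 0 := by
    by_contra hcon
    push Not at hcon
    exact hw0 (hY w hw hcon)
  obtain ⟨x, hx, hne⟩ := h1
  exact ⟨⟨x, hx, by rw [QuadraticMap.polar_comm]; exact hne⟩, ⟨x, hx, hne⟩⟩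

/-- An isometry stabilising `W` stabilises its orthogonal complement. -/
theorem stab_orth (Q : QuadraticForm F (ι → F)) (g : ↥(Cfsg.isometryGroup F ⇑Q))
    (W : Submodule F (ι → F))
    (h : ∀ x ∈ W, ((g : Matrix.GeneralLinearGroup ι F) : Matrix ι ι F) *ᵥ x ∈ W) :
    ∀ y ∈ Cfsg.Agent.Lib.Helper44.orth Q W,
      ((g : Matrix.GeneralLinearGroup ι F) : Matrix ι ι F) *ᵥ y ∈
        Cfsg.Agent.Lib.Helper44.orth Q W := by
  have hmap := Cfsg.Agent.Lib.Helper44.map_eq_of_forall_mem (⇑Q) g W h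
  intro y hy
  rw [Cfsg.Agent.Lib.Helper44.mem_orth_iff] at hy ⊢
  intro x hx
  have hx' : x ∈ W.map (Matrix.mulVecLin ((g : Matrix.GeneralLinearGroup ι F) : Matrix ι ι F)) := by
    rw [hmap]; exact hx
  obtain ⟨x₀, hx₀, rfl⟩ := hx'
  rw [Matrix.mulVecLin_apply, polar_mulVec Q _ (isom_preserves g)]
  exact hy x₀ hx₀

variable [Fintype F]

/-- Maximality of the stabiliser of a nondegenerate subspace, unbalanced case. -/
theorem nondeg_core (Q : QuadraticForm F (ι → F))
    (hQ : (QuadraticMap.polarBilin Q).Nondegenerate) (hn : 13 ≤ Fintype.card ι)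
    (W : Submodule F (ι → F)) (hW : Cfsg.Geo.IsNondegenerateOn (QuadraticMap.polar ⇑Q) W)
    (hbal : 2 * finrank F W ≠ Fintype.card ι)
    (hirr : IrrHyp Q W) (hirr' : IrrHyp Q (Cfsg.Agent.Lib.Helper44.orth Q W))
    (M : Subgroup ↥(Cfsg.isometryGroup F ⇑Q))
    (hPM : ∀ g ∈ commutator ↥(Cfsg.isometryGroup F ⇑Q),
      (∀ x ∈ W, ((g : Matrix.GeneralLinearGroup ι F) : Matrix ι ι F) *ᵥ x ∈ W) → g ∈ M) :
    (∀ g ∈ M, ∀ x ∈ W, ((g : Matrix.GeneralLinearGroup ι F) : Matrix ι ι F) *ᵥ x ∈ W) ∨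
      commutator ↥(Cfsg.isometryGroup F ⇑Q) ≤ M := by
  have hD := orthDecomp_of_nondegOn Q hQ W hW
  have hsum := hD.finrank_add hQ
  by_cases hlt : finrank F ↥(Cfsg.Agent.Lib.Helper44.orth Q W) < finrank F W
  · have S : NSetup Q W (Cfsg.Agent.Lib.Helper44.orth Q W) M := ⟨hQ, by omega, hD, hPM⟩
    exact nondeg_max_unbalanced S (by omega) hirr' hlt
  · have hPM' : ∀ g ∈ commutator ↥(Cfsg.isometryGroup F ⇑Q),
        (∀ x ∈ Cfsg.Agent.Lib.Helper44.orth Q W,
          ((g : Matrix.GeneralLinearGroup ι F) : Matrix ι ι F) *ᵥ x ∈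
            Cfsg.Agent.Lib.Helper44.orth Q W) → g ∈ M := by
      intro g hgΩ hg
      apply hPM g hgΩ
      have h1 := stab_orth Q g _ hg
      rw [Cfsg.Agent.Lib.Helper44.orth_orth Q hQ W] at h1
      exact h1
    have S : NSetup Q (Cfsg.Agent.Lib.Helper44.orth Q W) W M := ⟨hQ, by omega, hD.symm, hPM'⟩
    rcases nondeg_max_unbalanced S (by omega) hirr (by omega) with h | h
    · left
      intro g hg
      have h1 := stab_orth Q g _ (h g hg)
      rw [Cfsg.Agent.Lib.Helper44.orth_orth Q hQ W] at h1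
      exact h1
    · right
      exact h

end bridge

end Cfsg.Agent.Lib.Helper14
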