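import Mathlib
import Cfsg.Agent.Lib.Helper14.NondegD

set_option autoImplicit false

namespace Cfsg.Agent.Lib.Helper14

open Matrix Module

section final

open Cfsg.Agent.Lib.Helper99

variable {ι : Type} [Fintype ι] [DecidableEq ι] {F : Type*} [Field F]

theorem plusType_of_sing (Q : QuadraticForm F (ι → F)) {Y : Submodule F (ι → F)}
    (h2 : finrank F Y = 2) {e : ι → F} (he : e ∈ Y) (he0 : e ≠ 0) (hQe : Q e = 0) :
    Cfsg.Geo.IsPlusTypeOn ⇑Q Y := by
  refine ⟨Submodule.span F {e}, ?_, ?_, ?_⟩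
  · rw [Submodule.span_singleton_le_iff_mem]; exact he
  · intro w hw
    obtain ⟨c, rfl⟩ := Submodule.mem_span_singleton.mp hw
    rw [QuadraticMap.map_smul, hQe, smul_zero]
  · rw [finrank_span_singleton he0, h2]

theorem orth_ne_bot (Q : QuadraticForm F (ι → F))
    (hQ : (QuadraticMap.polarBilin Q).Nondegenerate) {W : Submodule F (ι → F)} (hW1 : W ≠ ⊤) :
    Cfsg.Agent.Lib.Helper44.orth Q W ≠ ⊥ := by
  intro h
  apply hW1
  apply Submodule.eq_top_of_finrank_eq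
  have h1 := Cfsg.Agent.Lib.Helper44.finrank_orth Q hQ W
  have h2 := Submodule.finrank_le W
  rw [h, finrank_bot] at h1
  omega

variable [Fintype F]

/-- Irreducibility hypotheses for `W` and its orthogonal complement from the exclusion of
small hyperbolic planes. -/
theorem irrHyp_pair (Q : QuadraticForm F (ι → F))
    (hQ : (QuadraticMap.polarBilin Q).Nondegenerate)
    (W : Submodule F (ι → F)) (hW0 : W ≠ ⊥) (hW1 : W ≠ ⊤)
    (hW : Cfsg.Geo.IsNondegenerateOn (QuadraticMap.polar ⇑Q) W)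
    (hex : ∀ Y : Submodule F (ι → F), (Y = W ∨ Y = Cfsg.Agent.Lib.Helper44.orth Q W) →
      finrank F Y = 2 → Cfsg.Geo.IsPlusTypeOn ⇑Q Y → 4 ≤ Fintype.card F) :
    IrrHyp Q W ∧ IrrHyp Q (Cfsg.Agent.Lib.Helper44.orth Q W) := by
  have hD := orthDecomp_of_nondegOn Q hQ W hW
  constructor
  · apply irrHyp_of_cases Q (hD.nondegOn hQ) hW0
    rintro h2 ⟨e, he, he0, hQe⟩
    exact hex W (Or.inl rfl) h2 (plusType_of_sing Q h2 he he0 hQe)
  · apply irrHyp_of_cases Q (hD.symm.nondegOn hQ) (orth_ne_bot Q hQ hW1)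
    rintro h2 ⟨e, he, he0, hQe⟩
    exact hex _ (Or.inr rfl) h2 (plusType_of_sing Q h2 he he0 hQe)

/-- Maximality of the stabiliser of a nondegenerate subspace (unbalanced case), in the form of
the statements. -/
theorem nondeg_isMaximalIn (Q : QuadraticForm F (ι → F))
    (hQ : (QuadraticMap.polarBilin Q).Nondegenerate) (hn : 13 ≤ Fintype.card ι)
    (W : Submodule F (ι → F)) (hW0 : W ≠ ⊥) (hW1 : W ≠ ⊤)
    (hW : Cfsg.Geo.IsNondegenerateOn (QuadraticMap.polar ⇑Q) W)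
    (hbal : 2 * finrank F W ≠ Fintype.card ι)
    (hex : ∀ Y : Submodule F (ι → F), (Y = W ∨ Y = Cfsg.Agent.Lib.Helper44.orth Q W) →
      finrank F Y = 2 → Cfsg.Geo.IsPlusTypeOn ⇑Q Y → 4 ≤ Fintype.card F) :
    Cfsg.Geo.IsMaximalIn (Cfsg.Geo.omegaGL ⇑Q)
      (Cfsg.Geo.subspaceStabilizer W ⊓ Cfsg.Geo.omegaGL ⇑Q) := by
  apply isMaximalIn_stab_of Q hQ (by omega) W hW0 hW1
  intro M hPM
  obtain ⟨h1, h2⟩ := irrHyp_pair Q hQ W hW0 hW1 hW hex
  exact nondeg_core Q hQ hn W hW hbal h1 h2 M hPM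

end final

end Cfsg.Agent.Lib.Helper14
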