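import Mathlib
import Cfsg.Agent.Lib.Helper14.NondegE
import Cfsg.Agent.Lib.Helper99.Quad2

set_option autoImplicit false

namespace Cfsg.Agent.Lib.Helper14

open Matrix Module

section anti

open Cfsg.Agent.Lib.Helper99

variable {F V : Type*} [Field F] [AddCommGroup V] [Module F V]

theorem anti_of_basis {κ : Type*} (Q : QuadraticForm F V) (b : Basis κ F V) (c : κ → V)
    (h1 : ∀ i, Q (c i) = -Q (b i))
    (h2 : ∀ i j, i ≠ j → QuadraticMap.polar ⇑Q (c i) (c j) = -QuadraticMap.polar ⇑Q (b i) (b j)) :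
    ∀ v, Q (b.constr F c v) = -Q v := by
  have h := quad_ext_basis b (Q.comp (b.constr F c)) (-Q) ?_ ?_
  · intro v
    have h3 := DFunLike.congr_fun h v
    rw [QuadraticMap.comp_apply, QuadraticMap.neg_apply] at h3
    exact h3
  · intro i
    rw [QuadraticMap.comp_apply, QuadraticMap.neg_apply, Basis.constr_basis]
    exact h1 i
  · intro i j hij
    have e1 : QuadraticMap.polar ⇑(Q.comp (b.constr F c)) (b i) (b j) =
        QuadraticMap.polar ⇑Q (c i) (c j) := by
      simp only [QuadraticMap.polar, QuadraticMap.comp_apply, map_add, Basis.constr_basis]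
    have e2 : QuadraticMap.polar ⇑(-Q) (b i) (b j) = -QuadraticMap.polar ⇑Q (b i) (b j) := by
      simp only [QuadraticMap.polar, QuadraticMap.neg_apply]
      ring
    rw [e1, e2]
    exact h2 i j hij

theorem quad_lin2 (Q : QuadraticForm F V) (x y : V) (α β : F) :
    Q (α • x + β • y) = α * α * Q x + β * β * Q y + α * β * QuadraticMap.polar ⇑Q x y := by
  rw [QuadraticMap.map_add (⇑Q) (α • x) (β • y), QuadraticMap.map_smul, QuadraticMap.map_smul,
    QuadraticMap.polar_smul_left, QuadraticMap.polar_smul_right]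
  simp only [smul_eq_mul]
  ring

theorem polar_lin2 (Q : QuadraticForm F V) (x y : V) (α β γ δ : F) :
    QuadraticMap.polar ⇑Q (α • x + β • y) (γ • x + δ • y) =
      2 * α * γ * Q x + 2 * β * δ * Q y + (α * δ + β * γ) * QuadraticMap.polar ⇑Q x y := by
  simp only [QuadraticMap.polar_add_left, QuadraticMap.polar_add_right,
    QuadraticMap.polar_smul_left, QuadraticMap.polar_smul_right, smul_eq_mul,
    QuadraticMap.polar_comm (⇑Q) y x]
  rw [polar_self_eq, polar_self_eq]
  ring

/-- A nondegenerate quadratic form of even dimension over a finite field is isometric to its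
negative. -/
theorem exists_anti_isometry [Fintype F] [FiniteDimensional F V] (Q : QuadraticForm F V)
    (hQ : Q.polarBilin.Nondegenerate) (hev : Even (finrank F V)) :
    ∃ ψ : V →ₗ[F] V, ∀ v, Q (ψ v) = -Q v := by
  obtain ⟨k, e, f, hH, h | h | h⟩ := witt Q hQ
  · obtain ⟨b, hbe, hbf⟩ := h
    refine ⟨b.constr F (Sum.elim e (fun i => -f i)), anti_of_basis Q b _ ?_ ?_⟩
    · rintro (i | i)
      · rw [hbe, Sum.elim_inl, (hH.1 i).1, neg_zero]
      · rw [hbf, Sum.elim_inr, QuadraticMap.map_neg, (hH.1 i).2, neg_zero]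
    · rintro (i | i) (j | j) _
      · rw [hbe, hbe, Sum.elim_inl, Sum.elim_inl, (hH.2.2 i j).1, neg_zero]
      · rw [hbe, hbf, Sum.elim_inl, Sum.elim_inr, QuadraticMap.polar_neg_right]
      · rw [hbf, hbe, Sum.elim_inl, Sum.elim_inr, QuadraticMap.polar_neg_left]
      · rw [hbf, hbf, Sum.elim_inr, Sum.elim_inr, QuadraticMap.polar_neg_left,
          QuadraticMap.polar_neg_right, (hH.2.2 i j).2]
        simp
  · exfalso
    obtain ⟨x, b, -⟩ := h
    have h1 := Module.finrank_eq_card_basis b
    simp only [Fintype.card_sum, Fintype.card_fin, Fintype.card_unit] at h1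
    obtain ⟨r, hr⟩ := hev
    omega
  · obtain ⟨x, y, b, hQx, hxy, haniso, hxe, hye, hbe, hbf, hbx, hby⟩ := h
    obtain ⟨s, t, hst⟩ := exists_norm_eq (Q y) (-1) haniso
    obtain ⟨x', hx'⟩ : ∃ x', x' = s • x + t • y := ⟨_, rfl⟩
    obtain ⟨y', hy'⟩ : ∃ y', y' = (-(Q y * t)) • x + (s + t) • y := ⟨_, rfl⟩
    have hQx' : Q x' = -Q x := by
      rw [hx', quad_lin2, hQx, hxy]
      linear_combination hst
    have hQy' : Q y' = -Q y := by
      rw [hy', quad_lin2, hQx, hxy]
      linear_combination Q y * hst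
    have hx'y' : QuadraticMap.polar ⇑Q x' y' = -QuadraticMap.polar ⇑Q x y := by
      rw [hx', hy', polar_lin2, hQx, hxy]
      linear_combination hst
    have hx'e : ∀ i, QuadraticMap.polar ⇑Q x' (e i) = 0 ∧ QuadraticMap.polar ⇑Q x' (f i) = 0 := by
      intro i
      rw [hx']
      simp only [QuadraticMap.polar_add_left, QuadraticMap.polar_smul_left, (hxe i).1,
        (hxe i).2, (hye i).1, (hye i).2, smul_zero, add_zero, and_self]
    have hy'e : ∀ i, QuadraticMap.polar ⇑Q y' (e i) = 0 ∧ QuadraticMap.polar ⇑Q y' (f i) = 0 := by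
      intro i
      rw [hy']
      simp only [QuadraticMap.polar_add_left, QuadraticMap.polar_smul_left, (hxe i).1,
        (hxe i).2, (hye i).1, (hye i).2, smul_zero, add_zero, and_self]
    have key : ∀ j : Fin 2, j = 0 ∨ j = 1 := by
      intro j
      fin_cases j <;> simp
    obtain ⟨c, hc⟩ : ∃ c : (Fin k ⊕ Fin k) ⊕ Fin 2 → V,
        c = Sum.elim (Sum.elim e (fun i => -f i)) (fun j => if j = 0 then x' else y') := ⟨_, rfl⟩
    have hce : ∀ i, c (Sum.inl (Sum.inl i)) = e i := fun i => by rw [hc]; rfl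
    have hcf : ∀ i, c (Sum.inl (Sum.inr i)) = -f i := fun i => by rw [hc]; rfl
    have hcx : c (Sum.inr 0) = x' := by rw [hc]; rfl
    have hcy : c (Sum.inr 1) = y' := by rw [hc]; rfl
    refine ⟨b.constr F c, anti_of_basis Q b c ?_ ?_⟩
    · rintro ((i | i) | j)
      · rw [hbe, hce, (hH.1 i).1, neg_zero]
      · rw [hbf, hcf, QuadraticMap.map_neg, (hH.1 i).2, neg_zero]
      · rcases key j with rfl | rfl
        · rw [hbx, hcx, hQx']
        · rw [hby, hcy, hQy']
    · rintro ((i | i) | j) ((i' | i') | j') hij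
      · rw [hbe, hbe, hce, hce, (hH.2.2 i i').1, neg_zero]
      · rw [hbe, hbf, hce, hcf, QuadraticMap.polar_neg_right]
      · rcases key j' with rfl | rfl
        · rw [hbe, hbx, hce, hcx, QuadraticMap.polar_comm (⇑Q) (e i) x', (hx'e i).1,
            QuadraticMap.polar_comm (⇑Q) (e i) x, (hxe i).1, neg_zero]
        · rw [hbe, hby, hce, hcy, QuadraticMap.polar_comm (⇑Q) (e i) y', (hy'e i).1,
            QuadraticMap.polar_comm (⇑Q) (e i) y, (hye i).1, neg_zero]
      · rw [hbf, hbe, hcf, hce, QuadraticMap.polar_neg_left]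
      · rw [hbf, hbf, hcf, hcf, QuadraticMap.polar_neg_left, QuadraticMap.polar_neg_right,
          (hH.2.2 i i').2]
        simp
      · rcases key j' with rfl | rfl
        · rw [hbf, hbx, hcf, hcx, QuadraticMap.polar_neg_left,
            QuadraticMap.polar_comm (⇑Q) (f i) x', (hx'e i).2,
            QuadraticMap.polar_comm (⇑Q) (f i) x, (hxe i).2]
        · rw [hbf, hby, hcf, hcy, QuadraticMap.polar_neg_left,
            QuadraticMap.polar_comm (⇑Q) (f i) y', (hy'e i).2,
            QuadraticMap.polar_comm (⇑Q) (f i) y, (hye i).2]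
      · rcases key j with rfl | rfl
        · rw [hbe, hbx, hce, hcx, (hx'e i').1, (hxe i').1, neg_zero]
        · rw [hbe, hby, hce, hcy, (hy'e i').1, (hye i').1, neg_zero]
      · rcases key j with rfl | rfl
        · rw [hbf, hbx, hcf, hcx, QuadraticMap.polar_neg_right, (hx'e i').2, (hxe i').2]
        · rw [hbf, hby, hcf, hcy, QuadraticMap.polar_neg_right, (hy'e i').2, (hye i').2]
      · rcases key j with rfl | rfl
        · rcases key j' with rfl | rfl
          · exact absurd rfl hij
          · rw [hbx, hby, hcx, hcy, hx'y']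
        · rcases key j' with rfl | rfl
          · rw [hbx, hby, hcx, hcy, QuadraticMap.polar_comm (⇑Q) y' x', hx'y',
              QuadraticMap.polar_comm (⇑Q) y x]
          · exact absurd rfl hij

end anti

end Cfsg.Agent.Lib.Helper14
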