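import Mathlib
import Cfsg.Agent.Lib.Helper14.NondegF

set_option autoImplicit false

namespace Cfsg.Agent.Lib.Helper14

open Matrix Module

section swap

open Cfsg.Agent.Lib.Helper99

variable {ι : Type} [Fintype ι] [DecidableEq ι] {F : Type*} [Field F] [Fintype F]

/-- If an isometry maps the nondegenerate even-dimensional subspace `U` into its orthogonal
complement, then there is a totally singular subspace of the same dimension as `U`. -/
theorem ts_of_swap (Q : QuadraticForm F (ι → F)) {U : Submodule F (ι → F)}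
    (hU : QNondegOn Q U) (hev : Even (finrank F U)) (h : ↥(Cfsg.isometryGroup F ⇑Q))
    (hperp : ∀ w ∈ U, ∀ x ∈ U, QuadraticMap.polar ⇑Q w
      (((h : Matrix.GeneralLinearGroup ι F) : Matrix ι ι F) *ᵥ x) = 0) :
    ∃ T : Submodule F (ι → F), (∀ x ∈ T, Q x = 0) ∧ finrank F T = finrank F U := by
  obtain ⟨QU, hQU⟩ : ∃ QU : QuadraticForm F ↥U, ∀ a : ↥U, QU a = Q (a : ι → F) :=
    ⟨Q.comp U.subtype, fun a => rfl⟩
  have hpol : ∀ a b : ↥U, QuadraticMap.polar ⇑QU a b =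
      QuadraticMap.polar ⇑Q (a : ι → F) (b : ι → F) := by
    intro a b
    simp only [QuadraticMap.polar, hQU]
    rfl
  have hnd : QU.polarBilin.Nondegenerate := by
    refine ⟨?_, ?_⟩
    · intro a ha
      apply Subtype.ext
      apply hU a a.2
      intro v hv
      have h1 : QuadraticMap.polar ⇑QU a ⟨v, hv⟩ = 0 := ha ⟨v, hv⟩
      rw [hpol] at h1
      exact h1
    · intro b hb
      apply Subtype.ext
      apply hU b b.2
      intro v hv
      have h1 : QuadraticMap.polar ⇑QU ⟨v, hv⟩ b = 0 := hb ⟨v, hv⟩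
      rw [hpol, QuadraticMap.polar_comm] at h1
      exact h1
  obtain ⟨ψ, hψ⟩ := exists_anti_isometry QU hnd hev
  obtain ⟨L, hL⟩ : ∃ L : ↥U →ₗ[F] (ι → F), ∀ a : ↥U, L a = (a : ι → F) +
      ((h : Matrix.GeneralLinearGroup ι F) : Matrix ι ι F) *ᵥ ((ψ a : ↥U) : ι → F) :=
    ⟨U.subtype + (Matrix.mulVecLin ((h : Matrix.GeneralLinearGroup ι F) : Matrix ι ι F)) ∘ₗ
      U.subtype ∘ₗ ψ, fun a => rfl⟩
  refine ⟨LinearMap.range L, ?_, ?_⟩
  · rintro _ ⟨a, rfl⟩
    have h1 : Q ((ψ a : ↥U) : ι → F) = -Q (a : ι → F) := by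
      rw [← hQU, hψ, hQU]
    rw [hL, QuadraticMap.map_add (⇑Q), isom_preserves h, h1, hperp a a.2 _ (ψ a).2]
    ring
  · apply LinearMap.finrank_range_of_inj
    rw [← LinearMap.ker_eq_bot, LinearMap.ker_eq_bot']
    intro a ha
    rw [hL] at ha
    apply Subtype.ext
    apply hU a a.2
    intro v hv
    have h1 : (a : ι → F) =
        -(((h : Matrix.GeneralLinearGroup ι F) : Matrix ι ι F) *ᵥ ((ψ a : ↥U) : ι → F)) :=
      eq_neg_of_add_eq_zero_left ha
    rw [QuadraticMap.polar_comm, h1, QuadraticMap.polar_neg_right, hperp v hv _ (ψ a).2, neg_zero]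

/-- Balanced case for minus-type forms. -/
theorem nondeg_core_bal (Q : QuadraticForm F (ι → F))
    (hQ : (QuadraticMap.polarBilin Q).Nondegenerate) (hn : 13 ≤ Fintype.card ι)
    (W : Submodule F (ι → F)) (hW : Cfsg.Geo.IsNondegenerateOn (QuadraticMap.polar ⇑Q) W)
    (hbal : 2 * finrank F W = Fintype.card ι) (hev : Even (finrank F W))
    (hminus : ¬ Cfsg.Geo.IsPlusTypeOn ⇑Q ⊤)
    (hirr' : IrrHyp Q (Cfsg.Agent.Lib.Helper44.orth Q W))
    (M : Subgroup ↥(Cfsg.isometryGroup F ⇑Q))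
    (hPM : ∀ g ∈ commutator ↥(Cfsg.isometryGroup F ⇑Q),
      (∀ x ∈ W, ((g : Matrix.GeneralLinearGroup ι F) : Matrix ι ι F) *ᵥ x ∈ W) → g ∈ M) :
    (∀ g ∈ M, ∀ x ∈ W, ((g : Matrix.GeneralLinearGroup ι F) : Matrix ι ι F) *ᵥ x ∈ W) ∨
      commutator ↥(Cfsg.isometryGroup F ⇑Q) ≤ M := by
  have hD := orthDecomp_of_nondegOn Q hQ W hW
  have S : NSetup Q W (Cfsg.Agent.Lib.Helper44.orth Q W) M := ⟨hQ, by omega, hD, hPM⟩
  rcases nondeg_max S (by omega) hirr' with h | h | ⟨h, hh, hperp⟩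
  · left; exact h
  · right; exact h
  · exfalso
    apply hminus
    obtain ⟨T, hT, hfin⟩ := ts_of_swap Q (hD.nondegOn hQ) hev h hperp
    refine ⟨T, le_top, hT, ?_⟩
    rw [finrank_top, Module.finrank_fintype_fun_eq_card, hfin]
    exact hbal

end swap

end Cfsg.Agent.Lib.Helper14
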