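import Mathlib
import Cfsg.Agent.Lib.Helper14.NondegG
import Cfsg.Agent.Lib.Helper44.SumForm

/-!
# Pairs of complementary totally singular subspaces

Root-group calculus for overgroups of the stabiliser in `Ω` of a pair `{A, B}` of complementary
totally singular subspaces.
-/

set_option autoImplicit false

namespace Cfsg.Agent.Lib.Helper14

open Matrix Module

section tspair

variable {ι : Type} [Fintype ι] [DecidableEq ι] {F : Type*} [Field F]

theorem eichMat_swap (Q : QuadraticForm F (ι → F)) {u w : ι → F} (hu : Q u = 0) (hw : Q w = 0) :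
    eichMat Q u w = eichMat Q w (-u) := by
  rw [ext_iff_mulVec]
  intro x
  rw [eichMat_mulVec, eichMat_mulVec, QuadraticMap.map_neg, hu, hw, QuadraticMap.polar_neg_left]
  module

theorem EIn_swap (Q : QuadraticForm F (ι → F)) (M : Subgroup ↥(Cfsg.isometryGroup F ⇑Q))
    {u w : ι → F} (hu : Q u = 0) (hw : Q w = 0) (h : EIn Q M u w) : EIn Q M w (-u) := by
  intro g hg
  rw [← eichMat_swap Q hu hw] at hg
  exact h g hg

/-- A pair of complementary totally singular subspaces of dimension `m`. -/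
structure TSPair (Q : QuadraticForm F (ι → F)) (A B : Submodule F (ι → F)) (m : ℕ) : Prop where
  hQ : (QuadraticMap.polarBilin Q).Nondegenerate
  hA : ∀ x ∈ A, Q x = 0
  hB : ∀ x ∈ B, Q x = 0
  hsup : A ⊔ B = ⊤
  hfA : finrank F A = m
  hfB : finrank F B = m

/-- `g` preserves or interchanges `A` and `B`. -/
def StabPair (A B : Submodule F (ι → F)) (g : Matrix ι ι F) : Prop :=
  ((∀ x ∈ A, g *ᵥ x ∈ A) ∧ (∀ y ∈ B, g *ᵥ y ∈ B)) ∨
    ((∀ x ∈ A, g *ᵥ x ∈ B) ∧ (∀ y ∈ B, g *ᵥ y ∈ A))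

theorem StabPair.symm {A B : Submodule F (ι → F)} {g : Matrix ι ι F} (h : StabPair A B g) :
    StabPair B A g := by
  rcases h with ⟨h1, h2⟩ | ⟨h1, h2⟩
  · exact Or.inl ⟨h2, h1⟩
  · exact Or.inr ⟨h2, h1⟩

variable {Q : QuadraticForm F (ι → F)} {A B : Submodule F (ι → F)} {m : ℕ}

theorem TSPair.symm (S : TSPair Q A B m) : TSPair Q B A m :=
  ⟨S.hQ, S.hB, S.hA, by rw [sup_comm]; exact S.hsup, S.hfB, S.hfA⟩

theorem TSPair.polarA (S : TSPair Q A B m) {x y : ι → F} (hx : x ∈ A) (hy : y ∈ A) :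
    QuadraticMap.polar ⇑Q x y = 0 := polar_eq_zero_of_ts S.hA hx hy

theorem TSPair.polarB (S : TSPair Q A B m) {x y : ι → F} (hx : x ∈ B) (hy : y ∈ B) :
    QuadraticMap.polar ⇑Q x y = 0 := polar_eq_zero_of_ts S.hB hx hy

theorem TSPair.exists_add (S : TSPair Q A B m) (v : ι → F) : ∃ a ∈ A, ∃ b ∈ B, v = a + b := by
  have hv : v ∈ A ⊔ B := by rw [S.hsup]; exact Submodule.mem_top
  obtain ⟨a, ha, b, hb, rfl⟩ := Submodule.mem_sup.mp hv
  exact ⟨a, ha, b, hb, rfl⟩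

theorem TSPair.eq_zero_of_perp (S : TSPair Q A B m) {a : ι → F} (ha : a ∈ A)
    (h : ∀ b ∈ B, QuadraticMap.polar ⇑Q a b = 0) : a = 0 := by
  apply S.hQ.1 a
  intro v
  obtain ⟨x, hx, y, hy, rfl⟩ := S.exists_add v
  change QuadraticMap.polar ⇑Q a (x + y) = 0
  rw [QuadraticMap.polar_add_right, S.polarA ha hx, h y hy, add_zero]

theorem TSPair.eq_zero_of_mem (S : TSPair Q A B m) {x : ι → F} (hxA : x ∈ A) (hxB : x ∈ B) :
    x = 0 :=
  S.eq_zero_of_perp hxA (fun _ hb => S.polarB hxB hb)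

/-- The pairing between `A` and `B` is perfect. -/
theorem TSPair.exists_dual (S : TSPair Q A B m) (A' : Submodule F (ι → F)) (hA' : A' ≤ A)
    {v : ι → F} (hvA : v ∈ A) (hv : v ∉ A') :
    ∃ b ∈ B, (∀ s ∈ A', QuadraticMap.polar ⇑Q s b = 0) ∧ QuadraticMap.polar ⇑Q v b = 1 := by
  obtain ⟨f, hfv, hfA'⟩ := Submodule.exists_dual_map_eq_bot_of_notMem hv inferInstance
  obtain ⟨w, hw⟩ : ∃ w : ι → F, ∀ x, QuadraticMap.polar ⇑Q w x = f x :=
    ⟨(LinearMap.BilinForm.toDual (QuadraticMap.polarBilin Q) S.hQ).symm f,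
      fun x => LinearMap.BilinForm.apply_toDual_symm_apply (hB := S.hQ) f x⟩
  obtain ⟨wa, hwa, wb, hwb, rfl⟩ := S.exists_add w
  have key : ∀ x ∈ A, QuadraticMap.polar ⇑Q x wb = f x := by
    intro x hx
    rw [← hw x, QuadraticMap.polar_comm, QuadraticMap.polar_add_left, S.polarA hwa hx, zero_add]
  have hf0 : ∀ s ∈ A', f s = 0 := by
    intro s hs
    have h1 : f s ∈ A'.map f := ⟨s, hs, rfl⟩
    rw [hfA'] at h1
    exact (Submodule.mem_bot F).mp h1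
  refine ⟨(f v)⁻¹ • wb, B.smul_mem _ hwb, ?_, ?_⟩
  · intro s hs
    rw [QuadraticMap.polar_smul_right, key s (hA' hs), hf0 s hs, smul_zero]
  · rw [QuadraticMap.polar_smul_right, key v hvA, smul_eq_mul, inv_mul_cancel₀ hfv]

theorem TSPair.eich_stab (S : TSPair Q A B m) {a b : ι → F} (ha : a ∈ A) (hb : b ∈ B) :
    (∀ x ∈ A, eichMat Q a b *ᵥ x ∈ A) ∧ (∀ y ∈ B, eichMat Q a b *ᵥ y ∈ B) := by
  constructor
  · intro x hx
    rw [eichMat_mulVec, S.polarA ha hx, S.hB b hb, zero_smul, add_zero]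
    exact A.sub_mem hx (A.smul_mem _ ha)
  · intro y hy
    rw [eichMat_mulVec, S.polarB hb hy, S.hB b hb, zero_mul, add_zero, zero_smul, sub_zero]
    exact B.add_mem hy (B.smul_mem _ hb)

variable [Fintype F] {M : Subgroup ↥(Cfsg.isometryGroup F ⇑Q)}

theorem TSPair.EIn_AB (S : TSPair Q A B m) (hn : 5 ≤ Fintype.card ι)
    (hPM : ∀ g ∈ commutator ↥(Cfsg.isometryGroup F ⇑Q),
      StabPair A B ((g : Matrix.GeneralLinearGroup ι F) : Matrix ι ι F) → g ∈ M)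
    {a b : ι → F} (ha : a ∈ A) (hb : b ∈ B) (hab : QuadraticMap.polar ⇑Q a b = 0) :
    EIn Q M a b := by
  intro g hg
  apply hPM g (eich_mem_omega Q S.hQ hn (S.hA a ha) hab g hg)
  left
  rw [hg]
  exact S.eich_stab ha hb

/-- Transfer of root elements along a "transvection" of the Levi factor. -/
theorem TSPair.EIn_hyper (S : TSPair Q A B m) (hn : 5 ≤ Fintype.card ι)
    (hPM : ∀ g ∈ commutator ↥(Cfsg.isometryGroup F ⇑Q),
      StabPair A B ((g : Matrix.GeneralLinearGroup ι F) : Matrix ι ι F) → g ∈ M)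
    {a a' : ι → F} (ha : a ∈ A) (ha' : a' ∈ A) (h : EIn Q M a a')
    {b₁ : ι → F} (hb₁ : b₁ ∈ B) (hab : QuadraticMap.polar ⇑Q a b₁ = 0)
    (ha'b : QuadraticMap.polar ⇑Q a' b₁ ≠ 0)
    {a₁ : ι → F} (ha₁ : a₁ ∈ A) (ha₁b : QuadraticMap.polar ⇑Q a₁ b₁ = 0) : EIn Q M a a₁ := by
  obtain ⟨c, hc⟩ : ∃ c, c = QuadraticMap.polar ⇑Q a' b₁ := ⟨_, rfl⟩
  rw [← hc] at ha'b
  have ha₂ : c⁻¹ • a₁ ∈ A := A.smul_mem _ ha₁
  have ha₂b : QuadraticMap.polar ⇑Q (c⁻¹ • a₁) b₁ = 0 := by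
    rw [QuadraticMap.polar_smul_left, ha₁b, smul_zero]
  have hmem : eichElt Q S.hQ (c⁻¹ • a₁) b₁ (S.hA _ ha₂) ha₂b ∈ M :=
    S.EIn_AB hn hPM ha₂ hb₁ ha₂b _ rfl
  have h1 := EIn_conj Q M h _ hmem
  rw [eichElt_coe] at h1
  have e1 : eichMat Q (c⁻¹ • a₁) b₁ *ᵥ a = a := by
    rw [eichMat_mulVec, S.polarA ha₂ ha, QuadraticMap.polar_comm, hab]
    simp
  have e2 : eichMat Q (c⁻¹ • a₁) b₁ *ᵥ a' = a' - a₁ := by
    rw [eichMat_mulVec, S.polarA ha₂ ha', QuadraticMap.polar_comm (⇑Q) b₁ a', ← hc, S.hB b₁ hb₁]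
    rw [zero_smul, add_zero, zero_mul, add_zero, smul_smul, mul_inv_cancel₀ ha'b, one_smul]
  rw [e1, e2] at h1
  have h2 := EIn_sub Q S.hQ M (S.hA a ha) (S.polarA ha ha')
    (S.polarA ha (A.sub_mem ha' ha₁)) h h1
  rw [sub_sub_cancel] at h2
  exact h2

/-- If `M` contains one root element `ρ_{a,a'}` with `a, a' ∈ A` and `a' ∉ ⟨a⟩`, it contains
`ρ_{a,z}` for all `z ∈ A`. -/
theorem TSPair.EIn_all_right (S : TSPair Q A B m) (hn : 5 ≤ Fintype.card ι) (hm : 3 ≤ m)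
    (hPM : ∀ g ∈ commutator ↥(Cfsg.isometryGroup F ⇑Q),
      StabPair A B ((g : Matrix.GeneralLinearGroup ι F) : Matrix ι ι F) → g ∈ M)
    {a a' : ι → F} (ha : a ∈ A) (ha' : a' ∈ A) (h : EIn Q M a a')
    (hind : a' ∉ Submodule.span F {a}) {z : ι → F} (hz : z ∈ A) : EIn Q M a z := by
  obtain ⟨b₁, hb₁, hb₁a, hb₁a'⟩ := S.exists_dual (Submodule.span F {a})
    ((Submodule.span_singleton_le_iff_mem a A).mpr ha) ha' hind
  have hab₁ : QuadraticMap.polar ⇑Q a b₁ = 0 := hb₁a a (Submodule.mem_span_singleton_self a)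
  have hfin := finrank_le_inf_qperp_add_two Q B a a'
  rw [S.hfB] at hfin
  obtain ⟨b₀, hb₀, hb₀0⟩ := exists_ne_zero_of_finrank_pos
    (M := B ⊓ Cfsg.Agent.Lib.Helper99.qperp Q a a') (by omega)
  obtain ⟨hb₀B, hb₀q⟩ := Submodule.mem_inf.mp hb₀
  rw [Cfsg.Agent.Lib.Helper99.mem_qperp] at hb₀q
  obtain ⟨hb₀a, hb₀a'⟩ := hb₀q
  have hb₀span : b₀ ∉ Submodule.span F {b₁} := by
    intro hmem
    obtain ⟨c, rfl⟩ := Submodule.mem_span_singleton.mp hmem
    rw [QuadraticMap.polar_smul_left, QuadraticMap.polar_comm, hb₁a', smul_eq_mul, mul_one]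
      at hb₀a'
    rw [hb₀a', zero_smul] at hb₀0
    exact hb₀0 rfl
  obtain ⟨d, hd, hdb₁, hdb₀⟩ := S.symm.exists_dual (Submodule.span F {b₁})
    ((Submodule.span_singleton_le_iff_mem b₁ B).mpr hb₁) hb₀B hb₀span
  have hdb₁' : QuadraticMap.polar ⇑Q d b₁ = 0 := by
    rw [QuadraticMap.polar_comm]
    exact hdb₁ b₁ (Submodule.mem_span_singleton_self b₁)
  have hEd : EIn Q M a d :=
    S.EIn_hyper hn hPM ha ha' h hb₁ hab₁ (by rw [hb₁a']; exact one_ne_zero) hd hdb₁'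
  have hab₀ : QuadraticMap.polar ⇑Q a b₀ = 0 := by rw [QuadraticMap.polar_comm]; exact hb₀a
  have hdb₀' : QuadraticMap.polar ⇑Q d b₀ ≠ 0 := by
    rw [QuadraticMap.polar_comm, hdb₀]; exact one_ne_zero
  obtain ⟨c, hc⟩ : ∃ c, c = QuadraticMap.polar ⇑Q z b₁ := ⟨_, rfl⟩
  have hz₂ : c • a' ∈ A := A.smul_mem _ ha'
  have hz₁ : z - c • a' ∈ A := A.sub_mem hz hz₂
  have h2 : EIn Q M a (c • a') := by
    apply S.EIn_hyper hn hPM ha hd hEd hb₀B hab₀ hdb₀' hz₂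
    rw [QuadraticMap.polar_smul_left, QuadraticMap.polar_comm, hb₀a', smul_zero]
  have h1 : EIn Q M a (z - c • a') := by
    apply S.EIn_hyper hn hPM ha ha' h hb₁ hab₁ (by rw [hb₁a']; exact one_ne_zero) hz₁
    rw [QuadraticMap.polar_sub_left, QuadraticMap.polar_smul_left, hb₁a', ← hc, smul_eq_mul,
      mul_one, sub_self]
  have h3 := EIn_add Q S.hQ M (S.hA a ha) (S.polarA ha hz₁) (S.polarA ha hz₂) h1 h2
  rw [sub_add_cancel] at h3
  exact h3

/-- If `M` contains one root element `ρ_{a,a'}` with `a, a' ∈ A` independent, it contains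
`ρ_{x,z}` for all `x, z ∈ A`. -/
theorem TSPair.EIn_all (S : TSPair Q A B m) (hn : 5 ≤ Fintype.card ι) (hm : 3 ≤ m)
    (hPM : ∀ g ∈ commutator ↥(Cfsg.isometryGroup F ⇑Q),
      StabPair A B ((g : Matrix.GeneralLinearGroup ι F) : Matrix ι ι F) → g ∈ M)
    {a a' : ι → F} (ha : a ∈ A) (ha' : a' ∈ A) (h : EIn Q M a a') (ha0 : a ≠ 0)
    (hind : a' ∉ Submodule.span F {a}) {x z : ι → F} (hx : x ∈ A) (hz : z ∈ A) :
    EIn Q M x z := by
  by_cases hxa : x ∈ Submodule.span F {a}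
  · obtain ⟨c, rfl⟩ := Submodule.mem_span_singleton.mp hxa
    rw [EIn_smul_left]
    exact S.EIn_all_right hn hm hPM ha ha' h hind (A.smul_mem _ hz)
  · have h1 : EIn Q M a x := S.EIn_all_right hn hm hPM ha ha' h hind hx
    have h2 : EIn Q M x (-a) := EIn_swap Q M (S.hA a ha) (S.hA x hx) h1
    apply S.EIn_all_right hn hm hPM hx (A.neg_mem ha) h2 _ hz
    intro hmem
    obtain ⟨c, hc⟩ := Submodule.mem_span_singleton.mp hmem
    by_cases hc0 : c = 0
    · rw [hc0, zero_smul] at hc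
      exact ha0 (neg_eq_zero.mp hc.symm)
    · apply hxa
      rw [Submodule.mem_span_singleton]
      refine ⟨-c⁻¹, ?_⟩
      have : a = -(c • x) := by rw [hc, neg_neg]
      rw [this, smul_neg, neg_smul, neg_neg, smul_smul, inv_mul_cancel₀ hc0, one_smul]

/-- The full root group at a point of `A` lies in `M` as soon as all `ρ_{x,z}`, `x, z ∈ A`, do. -/
theorem TSPair.rootIn_of_all (S : TSPair Q A B m) (hn : 5 ≤ Fintype.card ι)
    (hPM : ∀ g ∈ commutator ↥(Cfsg.isometryGroup F ⇑Q),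
      StabPair A B ((g : Matrix.GeneralLinearGroup ι F) : Matrix ι ι F) → g ∈ M)
    (hall : ∀ x ∈ A, ∀ z ∈ A, EIn Q M x z) {a : ι → F} (ha : a ∈ A) : rootIn Q M a := by
  intro w hw
  obtain ⟨wa, hwa, wb, hwb, rfl⟩ := S.exists_add w
  have hawb : QuadraticMap.polar ⇑Q a wb = 0 := by
    rw [QuadraticMap.polar_add_right, S.polarA ha hwa, zero_add] at hw
    exact hw
  exact EIn_add Q S.hQ M (S.hA a ha) (S.polarA ha hwa) hawb (hall a ha wa hwa)
    (S.EIn_AB hn hPM ha hwb hawb)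

/-- An overgroup of the stabiliser of the pair containing a root element `ρ_{a,a'}` with
`a, a' ∈ A` independent contains `Ω`. -/
theorem TSPair.omega_le (S : TSPair Q A B m) (hn : 5 ≤ Fintype.card ι) (hm : 3 ≤ m)
    (hPM : ∀ g ∈ commutator ↥(Cfsg.isometryGroup F ⇑Q),
      StabPair A B ((g : Matrix.GeneralLinearGroup ι F) : Matrix ι ι F) → g ∈ M)
    (hswap : ∃ s ∈ M, (∀ x ∈ A, ((s : Matrix.GeneralLinearGroup ι F) : Matrix ι ι F) *ᵥ x ∈ B) ∧
      (∀ y ∈ B, ((s : Matrix.GeneralLinearGroup ι F) : Matrix ι ι F) *ᵥ y ∈ A))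
    {a a' : ι → F} (ha : a ∈ A) (ha' : a' ∈ A) (h : EIn Q M a a') (ha0 : a ≠ 0)
    (hind : a' ∉ Submodule.span F {a}) : commutator ↥(Cfsg.isometryGroup F ⇑Q) ≤ M := by
  have hallA : ∀ x ∈ A, ∀ z ∈ A, EIn Q M x z :=
    fun x hx z hz => S.EIn_all hn hm hPM ha ha' h ha0 hind hx hz
  obtain ⟨s, hsM, hsA, hsB⟩ := hswap
  have hallB : ∀ x ∈ B, ∀ z ∈ B, EIn Q M x z := by
    intro x hx z hz
    have h1 := EIn_conj Q M (hallA _ (hsB x hx) _ (hsB z hz)) s⁻¹ (M.inv_mem hsM)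
    rw [isom_inv_mulVec, isom_inv_mulVec] at h1
    exact h1
  have hPM' : ∀ g ∈ commutator ↥(Cfsg.isometryGroup F ⇑Q),
      StabPair B A ((g : Matrix.GeneralLinearGroup ι F) : Matrix ι ι F) → g ∈ M :=
    fun g hg hst => hPM g hg hst.symm
  have hRa : rootIn Q M a := S.rootIn_of_all hn hPM hallA ha
  obtain ⟨b, hb, hab⟩ : ∃ b ∈ B, QuadraticMap.polar ⇑Q a b ≠ 0 := by
    by_contra hcon
    push Not at hcon
    exact ha0 (S.eq_zero_of_perp ha hcon)
  have hRb : rootIn Q M b := S.symm.rootIn_of_all hn hPM' hallB hb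
  apply omega_le_of_rootIn Q S.hQ hn
  intro r hr
  exact rootIn_all Q S.hQ M (S.hA a ha) (S.hB b hb) hab hRa hRb r hr

/-- Main step: a root element of `M` on a singular line whose projection to `A` is
two-dimensional forces `Ω ≤ M`. -/
theorem TSPair.omega_le_of_line (S : TSPair Q A B m) (hn : 5 ≤ Fintype.card ι) (hm : 5 ≤ m)
    (hPM : ∀ g ∈ commutator ↥(Cfsg.isometryGroup F ⇑Q),
      StabPair A B ((g : Matrix.GeneralLinearGroup ι F) : Matrix ι ι F) → g ∈ M)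
    (hswap : ∃ s ∈ M, (∀ x ∈ A, ((s : Matrix.GeneralLinearGroup ι F) : Matrix ι ι F) *ᵥ x ∈ B) ∧
      (∀ y ∈ B, ((s : Matrix.GeneralLinearGroup ι F) : Matrix ι ι F) *ᵥ y ∈ A))
    {xA xB yA yB : ι → F} (hxA : xA ∈ A) (hxB : xB ∈ B) (hyA : yA ∈ A) (hyB : yB ∈ B)
    (hQx : Q (xA + xB) = 0)
    (hxy : QuadraticMap.polar ⇑Q (xA + xB) (yA + yB) = 0)
    (h : EIn Q M (xA + xB) (yA + yB)) (hxA0 : xA ≠ 0) (hind : yA ∉ Submodule.span F {xA}) :
    commutator ↥(Cfsg.isometryGroup F ⇑Q) ≤ M := by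
  obtain ⟨b, hb, hbx, hby⟩ := S.exists_dual (Submodule.span F {xA})
    ((Submodule.span_singleton_le_iff_mem xA A).mpr hxA) hyA hind
  have hxAb : QuadraticMap.polar ⇑Q xA b = 0 := hbx xA (Submodule.mem_span_singleton_self xA)
  have hf1 := finrank_le_inf_qperp_add_two Q A xB yB
  have hf2 := finrank_le_inf_ker_add_one (QuadraticMap.polarBilin Q b)
    (A ⊓ Cfsg.Agent.Lib.Helper99.qperp Q xB yB)
  have hf3 := Cfsg.Agent.Lib.Helper44.finrank_span_singleton_le_one (F := F) xA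
  rw [S.hfA] at hf1
  obtain ⟨a, haU, haspan⟩ : ∃ a ∈ A ⊓ Cfsg.Agent.Lib.Helper99.qperp Q xB yB ⊓
      LinearMap.ker (QuadraticMap.polarBilin Q b), a ∉ Submodule.span F {xA} := by
    apply SetLike.not_le_iff_exists.mp
    intro hle
    have := Submodule.finrank_mono hle
    omega
  obtain ⟨haU', hab⟩ := Submodule.mem_inf.mp haU
  obtain ⟨ha, haq⟩ := Submodule.mem_inf.mp haU'
  rw [Cfsg.Agent.Lib.Helper99.mem_qperp] at haq
  obtain ⟨haxB, hayB⟩ := haq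
  have hba : QuadraticMap.polar ⇑Q b a = 0 := LinearMap.mem_ker.mp hab
  have hab' : QuadraticMap.polar ⇑Q a b = 0 := by rw [QuadraticMap.polar_comm]; exact hba
  have ha0 : a ≠ 0 := by
    rintro rfl
    exact haspan (Submodule.zero_mem _)
  have hmem : eichElt Q S.hQ a b (S.hA a ha) hab' ∈ M := S.EIn_AB hn hPM ha hb hab' _ rfl
  have h1 := EIn_conj Q M h _ hmem
  rw [eichElt_coe] at h1
  have hax : QuadraticMap.polar ⇑Q a (xA + xB) = 0 := by
    rw [QuadraticMap.polar_add_right, S.polarA ha hxA, haxB, add_zero]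
  have hay : QuadraticMap.polar ⇑Q a (yA + yB) = 0 := by
    rw [QuadraticMap.polar_add_right, S.polarA ha hyA, hayB, add_zero]
  have hbx' : QuadraticMap.polar ⇑Q b (xA + xB) = 0 := by
    rw [QuadraticMap.polar_add_right, S.polarB hb hxB, QuadraticMap.polar_comm, hxAb, add_zero]
  have hby' : QuadraticMap.polar ⇑Q b (yA + yB) = 1 := by
    rw [QuadraticMap.polar_add_right, S.polarB hb hyB, QuadraticMap.polar_comm, hby, add_zero]
  have e1 : eichMat Q a b *ᵥ (xA + xB) = xA + xB := by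
    rw [eichMat_mulVec, hax, hbx']
    simp
  have e2 : eichMat Q a b *ᵥ (yA + yB) = yA + yB - a := by
    rw [eichMat_mulVec, hay, hby']
    simp
  rw [e1, e2] at h1
  have h2 := EIn_sub Q S.hQ M hQx hxy
    (by rw [QuadraticMap.polar_sub_right, hxy, QuadraticMap.polar_comm, hax, sub_zero]) h h1
  rw [sub_sub_cancel] at h2
  have h3 : EIn Q M a (-(xA + xB)) := EIn_swap Q M hQx (S.hA a ha) h2
  have h4 := EIn_neg Q S.hQ M (S.hA a ha)
    (by rw [QuadraticMap.polar_neg_right, hax, neg_zero]) h3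
  rw [neg_neg] at h4
  have h5 : EIn Q M a xB := S.EIn_AB hn hPM ha hxB haxB
  have h6 := EIn_sub Q S.hQ M (S.hA a ha) hax haxB h4 h5
  rw [add_sub_cancel_right] at h6
  apply S.omega_le hn (by omega) hPM hswap ha hxA h6 ha0
  intro hmem'
  obtain ⟨c, hc⟩ := Submodule.mem_span_singleton.mp hmem'
  apply haspan
  rw [Submodule.mem_span_singleton]
  have hc0 : c ≠ 0 := by
    rintro rfl
    rw [zero_smul] at hc
    exact hxA0 hc.symm
  exact ⟨c⁻¹, by rw [← hc, smul_smul, inv_mul_cancel₀ hc0, one_smul]⟩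

theorem TSPair.proj_mem_span (S : TSPair Q A B m) (hn : 5 ≤ Fintype.card ι) (hm : 5 ≤ m)
    (hPM : ∀ g ∈ commutator ↥(Cfsg.isometryGroup F ⇑Q),
      StabPair A B ((g : Matrix.GeneralLinearGroup ι F) : Matrix ι ι F) → g ∈ M)
    (hswap : ∃ s ∈ M, (∀ x ∈ A, ((s : Matrix.GeneralLinearGroup ι F) : Matrix ι ι F) *ᵥ x ∈ B) ∧
      (∀ y ∈ B, ((s : Matrix.GeneralLinearGroup ι F) : Matrix ι ι F) *ᵥ y ∈ A))
    (hΩ : ¬ commutator ↥(Cfsg.isometryGroup F ⇑Q) ≤ M)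
    {xA xB yA yB : ι → F} (hxA : xA ∈ A) (hxB : xB ∈ B) (hyA : yA ∈ A) (hyB : yB ∈ B)
    (hQx : Q (xA + xB) = 0)
    (hxy : QuadraticMap.polar ⇑Q (xA + xB) (yA + yB) = 0)
    (h : EIn Q M (xA + xB) (yA + yB)) (hxA0 : xA ≠ 0) : yA ∈ Submodule.span F {xA} := by
  by_contra hind
  exact hΩ (S.omega_le_of_line hn hm hPM hswap hxA hxB hyA hyB hQx hxy h hxA0 hind)

/-- If `Ω ≰ M`, every element of `M` maps each vector of `A` into `A` or into `B`. -/
theorem TSPair.map_mem_or (S : TSPair Q A B m) (hn : 5 ≤ Fintype.card ι) (hm : 5 ≤ m)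
    (hPM : ∀ g ∈ commutator ↥(Cfsg.isometryGroup F ⇑Q),
      StabPair A B ((g : Matrix.GeneralLinearGroup ι F) : Matrix ι ι F) → g ∈ M)
    (hswap : ∃ s ∈ M, (∀ x ∈ A, ((s : Matrix.GeneralLinearGroup ι F) : Matrix ι ι F) *ᵥ x ∈ B) ∧
      (∀ y ∈ B, ((s : Matrix.GeneralLinearGroup ι F) : Matrix ι ι F) *ᵥ y ∈ A))
    (hΩ : ¬ commutator ↥(Cfsg.isometryGroup F ⇑Q) ≤ M)
    {g : ↥(Cfsg.isometryGroup F ⇑Q)} (hg : g ∈ M) {a : ι → F} (ha : a ∈ A) :
    ((g : Matrix.GeneralLinearGroup ι F) : Matrix ι ι F) *ᵥ a ∈ A ∨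
      ((g : Matrix.GeneralLinearGroup ι F) : Matrix ι ι F) *ᵥ a ∈ B := by
  have hPM' : ∀ g ∈ commutator ↥(Cfsg.isometryGroup F ⇑Q),
      StabPair B A ((g : Matrix.GeneralLinearGroup ι F) : Matrix ι ι F) → g ∈ M :=
    fun g hg hst => hPM g hg hst.symm
  have hswap' : ∃ s ∈ M,
      (∀ x ∈ B, ((s : Matrix.GeneralLinearGroup ι F) : Matrix ι ι F) *ᵥ x ∈ A) ∧
      (∀ y ∈ A, ((s : Matrix.GeneralLinearGroup ι F) : Matrix ι ι F) *ᵥ y ∈ B) := by
    obtain ⟨s, hs, h1, h2⟩ := hswap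
    exact ⟨s, hs, h2, h1⟩
  obtain ⟨xA, hxA, xB, hxB, hx⟩ := S.exists_add
    (((g : Matrix.GeneralLinearGroup ι F) : Matrix ι ι F) *ᵥ a)
  by_cases hxA0 : xA = 0
  · right
    rw [hx, hxA0, zero_add]
    exact hxB
  by_cases hxB0 : xB = 0
  · left
    rw [hx, hxB0, add_zero]
    exact hxA
  exfalso
  have hQx : Q (xA + xB) = 0 := by
    rw [← hx]
    exact (isom_preserves g a).trans (S.hA a ha)
  have hU : ∀ b ∈ B ⊓ LinearMap.ker (QuadraticMap.polarBilin Q a),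
      ((g : Matrix.GeneralLinearGroup ι F) : Matrix ι ι F) *ᵥ b ∈
        Submodule.span F {xA} ⊔ Submodule.span F {xB} := by
    intro b hb
    obtain ⟨hbB, hbk⟩ := Submodule.mem_inf.mp hb
    have hab : QuadraticMap.polar ⇑Q a b = 0 := LinearMap.mem_ker.mp hbk
    obtain ⟨yA, hyA, yB, hyB, hy⟩ := S.exists_add
      (((g : Matrix.GeneralLinearGroup ι F) : Matrix ι ι F) *ᵥ b)
    have hE : EIn Q M (xA + xB) (yA + yB) := by
      rw [← hx, ← hy]
      exact EIn_conj Q M (S.EIn_AB hn hPM ha hbB hab) g hg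
    have hxy : QuadraticMap.polar ⇑Q (xA + xB) (yA + yB) = 0 := by
      rw [← hx, ← hy, polar_mulVec Q _ (isom_preserves g)]
      exact hab
    have h1 := S.proj_mem_span hn hm hPM hswap hΩ hxA hxB hyA hyB hQx hxy hE hxA0
    have hE' : EIn Q M (xB + xA) (yB + yA) := by
      rw [add_comm xB, add_comm yB]
      exact hE
    have h2 := S.symm.proj_mem_span hn hm hPM' hswap' hΩ hxB hxA hyB hyA
      (by rw [add_comm]; exact hQx) (by rw [add_comm xB, add_comm yB]; exact hxy) hE' hxB0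
    rw [hy]
    exact Submodule.add_mem_sup h1 h2
  have hle : (B ⊓ LinearMap.ker (QuadraticMap.polarBilin Q a)).map
      (Matrix.mulVecLin ((g : Matrix.GeneralLinearGroup ι F) : Matrix ι ι F)) ≤
      Submodule.span F {xA} ⊔ Submodule.span F {xB} := by
    rintro _ ⟨b, hb, rfl⟩
    exact hU b hb
  have h1 := Submodule.finrank_mono hle
  rw [finrank_map_isom (⇑Q) g] at h1
  have h2 := finrank_le_inf_ker_add_one (QuadraticMap.polarBilin Q a) B
  have h3 := Submodule.finrank_add_le_finrank_add_finrank (Submodule.span F {xA})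
    (Submodule.span F {xB})
  have h4 := Cfsg.Agent.Lib.Helper44.finrank_span_singleton_le_one (F := F) xA
  have h5 := Cfsg.Agent.Lib.Helper44.finrank_span_singleton_le_one (F := F) xB
  rw [S.hfB] at h2
  omega

/-- Overgroups in `Ω` of the stabiliser of the pair `{A, B}`: every element of `M` stabilises
the pair, or `Ω ≤ M`. -/
theorem TSPair.stabPair_or (S : TSPair Q A B m) (hn : 5 ≤ Fintype.card ι) (hm : 5 ≤ m)
    (hPM : ∀ g ∈ commutator ↥(Cfsg.isometryGroup F ⇑Q),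
      StabPair A B ((g : Matrix.GeneralLinearGroup ι F) : Matrix ι ι F) → g ∈ M)
    (hswap : ∃ s ∈ M, (∀ x ∈ A, ((s : Matrix.GeneralLinearGroup ι F) : Matrix ι ι F) *ᵥ x ∈ B) ∧
      (∀ y ∈ B, ((s : Matrix.GeneralLinearGroup ι F) : Matrix ι ι F) *ᵥ y ∈ A)) :
    (∀ g ∈ M, StabPair A B ((g : Matrix.GeneralLinearGroup ι F) : Matrix ι ι F)) ∨
      commutator ↥(Cfsg.isometryGroup F ⇑Q) ≤ M := by
  by_cases hΩ : commutator ↥(Cfsg.isometryGroup F ⇑Q) ≤ M
  · right; exact hΩ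
  left
  intro g hg
  have hPM' : ∀ g ∈ commutator ↥(Cfsg.isometryGroup F ⇑Q),
      StabPair B A ((g : Matrix.GeneralLinearGroup ι F) : Matrix ι ι F) → g ∈ M :=
    fun g hg hst => hPM g hg hst.symm
  have hswap' : ∃ s ∈ M,
      (∀ x ∈ B, ((s : Matrix.GeneralLinearGroup ι F) : Matrix ι ι F) *ᵥ x ∈ A) ∧
      (∀ y ∈ A, ((s : Matrix.GeneralLinearGroup ι F) : Matrix ι ι F) *ᵥ y ∈ B) := by
    obtain ⟨s, hs, h1, h2⟩ := hswap
    exact ⟨s, hs, h2, h1⟩
  have hA : ∀ a ∈ A, ((g : Matrix.GeneralLinearGroup ι F) : Matrix ι ι F) *ᵥ a ∈ A ∨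
      ((g : Matrix.GeneralLinearGroup ι F) : Matrix ι ι F) *ᵥ a ∈ B :=
    fun a ha => S.map_mem_or hn hm hPM hswap hΩ hg ha
  have hB : ∀ b ∈ B, ((g : Matrix.GeneralLinearGroup ι F) : Matrix ι ι F) *ᵥ b ∈ B ∨
      ((g : Matrix.GeneralLinearGroup ι F) : Matrix ι ι F) *ᵥ b ∈ A :=
    fun b hb => S.symm.map_mem_or hn hm hPM' hswap' hΩ hg hb
  have hA' : (∀ a ∈ A, ((g : Matrix.GeneralLinearGroup ι F) : Matrix ι ι F) *ᵥ a ∈ A) ∨
      (∀ a ∈ A, ((g : Matrix.GeneralLinearGroup ι F) : Matrix ι ι F) *ᵥ a ∈ B) := by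
    by_contra hcon
    push Not at hcon
    obtain ⟨⟨a₁, ha₁, h1⟩, ⟨a₂, ha₂, h2⟩⟩ := hcon
    have h1' := (hA a₁ ha₁).resolve_left h1
    have h2' := (hA a₂ ha₂).resolve_right h2
    rcases hA (a₁ + a₂) (A.add_mem ha₁ ha₂) with h | h
    · rw [Matrix.mulVec_add] at h
      apply h1
      have := A.sub_mem h h2'
      rwa [add_sub_cancel_right] at this
    · rw [Matrix.mulVec_add] at h
      apply h2
      have := B.sub_mem h h1'
      rwa [add_sub_cancel_left] at this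
  have hB' : (∀ b ∈ B, ((g : Matrix.GeneralLinearGroup ι F) : Matrix ι ι F) *ᵥ b ∈ B) ∨
      (∀ b ∈ B, ((g : Matrix.GeneralLinearGroup ι F) : Matrix ι ι F) *ᵥ b ∈ A) := by
    by_contra hcon
    push Not at hcon
    obtain ⟨⟨b₁, hb₁, h1⟩, ⟨b₂, hb₂, h2⟩⟩ := hcon
    have h1' := (hB b₁ hb₁).resolve_left h1
    have h2' := (hB b₂ hb₂).resolve_right h2
    rcases hB (b₁ + b₂) (B.add_mem hb₁ hb₂) with h | h
    · rw [Matrix.mulVec_add] at h
      apply h1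
      have := B.sub_mem h h2'
      rwa [add_sub_cancel_right] at this
    · rw [Matrix.mulVec_add] at h
      apply h2
      have := A.sub_mem h h1'
      rwa [add_sub_cancel_left] at this
  rcases hA' with hAA | hAB
  · rcases hB' with hBB | hBA
    · exact Or.inl ⟨hAA, hBB⟩
    · exfalso
      obtain ⟨b, hb, hb0⟩ := exists_ne_zero_of_finrank_pos (M := B) (by rw [S.hfB]; omega)
      obtain ⟨x, hx, y, hy, hxy⟩ := S.exists_add
        ((((g⁻¹ : ↥(Cfsg.isometryGroup F ⇑Q)) : Matrix.GeneralLinearGroup ι F) :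
          Matrix ι ι F) *ᵥ b)
      have e : b = ((g : Matrix.GeneralLinearGroup ι F) : Matrix ι ι F) *ᵥ x +
          ((g : Matrix.GeneralLinearGroup ι F) : Matrix ι ι F) *ᵥ y := by
        rw [← Matrix.mulVec_add, ← hxy, isom_mulVec_inv]
      apply hb0
      apply S.eq_zero_of_mem _ hb
      rw [e]
      exact A.add_mem (hAA x hx) (hBA y hy)
  · rcases hB' with hBB | hBA
    · exfalso
      obtain ⟨a, ha, ha0⟩ := exists_ne_zero_of_finrank_pos (M := A) (by rw [S.hfA]; omega)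
      obtain ⟨x, hx, y, hy, hxy⟩ := S.exists_add
        ((((g⁻¹ : ↥(Cfsg.isometryGroup F ⇑Q)) : Matrix.GeneralLinearGroup ι F) :
          Matrix ι ι F) *ᵥ a)
      have e : a = ((g : Matrix.GeneralLinearGroup ι F) : Matrix ι ι F) *ᵥ x +
          ((g : Matrix.GeneralLinearGroup ι F) : Matrix ι ι F) *ᵥ y := by
        rw [← Matrix.mulVec_add, ← hxy, isom_mulVec_inv]
      apply ha0
      apply S.eq_zero_of_mem ha
      rw [e]
      exact B.add_mem (hAB x hx) (hBB y hy)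
    · exact Or.inr ⟨hAB, hBA⟩

end tspair

end Cfsg.Agent.Lib.Helper14
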