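import Mathlib
import Cfsg.Agent.Lib.Helper14.NondegA
import Cfsg.Agent.Lib.Helper14.TSPair
import Cfsg.Agent.Lib.Helper44.Wall
import Cfsg.Agent.Lib.Helper99.Quad

/-!
# Existence lemmas for singular vectors with prescribed polar values
-/

set_option autoImplicit false

namespace Cfsg.Agent.Lib.Helper14

open Matrix Module

section unitA

variable {ι : Type} [Fintype ι] [DecidableEq ι] {F : Type*} [Field F]

/-- A vector pairing non-trivially with `a` but trivially with all of `s` witnesses that `a` is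
not in the span of `s`. -/
theorem notMem_span_of_polar (Q : QuadraticForm F (ι → F)) {a : ι → F} {s : Set (ι → F)}
    (y : ι → F) (hs : ∀ v ∈ s, QuadraticMap.polar ⇑Q y v = 0)
    (ha : QuadraticMap.polar ⇑Q y a ≠ 0) : a ∉ Submodule.span F s := by
  intro h
  have hle : Submodule.span F s ≤ LinearMap.ker (QuadraticMap.polarBilin Q y) := by
    rw [Submodule.span_le]
    intro v hv
    exact LinearMap.mem_ker.mpr (hs v hv)
  exact ha (LinearMap.mem_ker.mp (hle h))

/-- A singular vector of `A` outside `B`, when `A` is at least three dimensions bigger. -/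
theorem exists_sing_notMem [Fintype F] (Q : QuadraticForm F (ι → F))
    (A B : Submodule F (ι → F)) (h : finrank F B + 3 ≤ finrank F A) :
    ∃ y ∈ A, y ∉ B ∧ Q y = 0 := by
  obtain ⟨C, hC⟩ := Submodule.exists_isCompl (A ⊓ B)
  have hA : A = (A ⊓ B) ⊔ (A ⊓ C) := by
    have h1 : ((A ⊓ B) ⊔ C) ⊓ A = (A ⊓ B) ⊔ (C ⊓ A) := sup_inf_assoc_of_le C inf_le_left
    rw [hC.sup_eq_top, top_inf_eq] at h1
    rw [inf_comm A C]
    exact h1
  have h2 : finrank F A ≤ finrank F ↥(A ⊓ B) + finrank F ↥(A ⊓ C) := by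
    conv_lhs => rw [hA]
    exact Submodule.finrank_add_le_finrank_add_finrank _ _
  have h3 : finrank F ↥(A ⊓ B) ≤ finrank F B := Submodule.finrank_mono inf_le_right
  obtain ⟨v, hv, hv0, hQv⟩ := Cfsg.Agent.Lib.Helper99.exists_isotropic Q (A ⊓ C) (by omega)
  refine ⟨v, hv.1, ?_, hQv⟩
  intro hvB
  apply hv0
  have : v ∈ (A ⊓ B) ⊓ C := ⟨⟨hv.1, hvB⟩, hv.2⟩
  rw [hC.inf_eq_bot] at this
  exact (Submodule.mem_bot F).mp this

/-- A hyperbolic pair inside the orthogonal complement of a small subspace. -/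
theorem exists_hyp_in_orth [Fintype F] (Q : QuadraticForm F (ι → F))
    (hQ : (QuadraticMap.polarBilin Q).Nondegenerate) (T : Submodule F (ι → F))
    (h : 2 * finrank F T + 3 ≤ Fintype.card ι) :
    ∃ e f : ι → F, e ∈ Cfsg.Agent.Lib.Helper44.orth Q T ∧ f ∈ Cfsg.Agent.Lib.Helper44.orth Q T ∧
      Q e = 0 ∧ Q f = 0 ∧ QuadraticMap.polar ⇑Q e f = 1 := by
  have hfin := Cfsg.Agent.Lib.Helper44.finrank_orth Q hQ T
  rw [Module.finrank_fintype_fun_eq_card] at hfin
  obtain ⟨e, heT, heT', hQe⟩ := exists_sing_notMem Q (Cfsg.Agent.Lib.Helper44.orth Q T) T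
    (by omega)
  obtain ⟨f', hf', hef'⟩ : ∃ f' ∈ Cfsg.Agent.Lib.Helper44.orth Q T,
      QuadraticMap.polar ⇑Q e f' ≠ 0 := by
    by_contra hcon
    push Not at hcon
    apply heT'
    rw [← Cfsg.Agent.Lib.Helper44.orth_orth Q hQ T, Cfsg.Agent.Lib.Helper44.mem_orth_iff]
    intro y hy
    rw [QuadraticMap.polar_comm]
    exact hcon y hy
  obtain ⟨c, hc⟩ : ∃ c, c = QuadraticMap.polar ⇑Q e f' := ⟨_, rfl⟩
  rw [← hc] at hef'
  have hef1 : QuadraticMap.polar ⇑Q e (c⁻¹ • f') = 1 := by
    rw [QuadraticMap.polar_smul_right, ← hc, smul_eq_mul, inv_mul_cancel₀ hef']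
  have hee : QuadraticMap.polar ⇑Q e e = 0 := by rw [polar_self_eq, hQe, mul_zero]
  refine ⟨e, c⁻¹ • f' - Q (c⁻¹ • f') • e, heT,
    Submodule.sub_mem _ (Submodule.smul_mem _ _ hf') (Submodule.smul_mem _ _ heT), hQe, ?_, ?_⟩
  · rw [quad_sub_smul, hQe, QuadraticMap.polar_comm, hef1]
    ring
  · rw [QuadraticMap.polar_sub_right, hef1, QuadraticMap.polar_smul_right, hee]
    simp

/-- Induction principle: inside a subspace containing a hyperbolic pair, an additive property
holding for singular vectors holds for all vectors. -/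
theorem sing_induction (Q : QuadraticForm F (ι → F)) {e f : ι → F} (he : Q e = 0)
    (hf : Q f = 0) (hef : QuadraticMap.polar ⇑Q e f = 1) (p : (ι → F) → Prop)
    (S : Submodule F (ι → F)) (heS : e ∈ S) (hfS : f ∈ S)
    (hadd : ∀ a b, a ∈ S → b ∈ S → p a → p b → p (a + b))
    (hsing : ∀ s ∈ S, Q s = 0 → p s) : ∀ x ∈ S, p x := by
  intro x hx
  have hfe : QuadraticMap.polar ⇑Q f e = 1 := by rw [QuadraticMap.polar_comm]; exact hef
  have hee : QuadraticMap.polar ⇑Q e e = 0 := by rw [polar_self_eq, he, mul_zero]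
  have hff : QuadraticMap.polar ⇑Q f f = 0 := by rw [polar_self_eq, hf, mul_zero]
  obtain ⟨a, ha⟩ : ∃ a, a = QuadraticMap.polar ⇑Q x f := ⟨_, rfl⟩
  obtain ⟨b, hb⟩ : ∃ b, b = QuadraticMap.polar ⇑Q x e := ⟨_, rfl⟩
  obtain ⟨y, hy⟩ : ∃ y, y = x - a • e - b • f := ⟨_, rfl⟩
  have hyS : y ∈ S := by
    rw [hy]
    exact S.sub_mem (S.sub_mem hx (S.smul_mem _ heS)) (S.smul_mem _ hfS)
  have hye : QuadraticMap.polar ⇑Q y e = 0 := by
    rw [hy, QuadraticMap.polar_sub_left, QuadraticMap.polar_sub_left,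
      QuadraticMap.polar_smul_left, QuadraticMap.polar_smul_left, hee, hfe, ← hb]
    simp
  have hyf : QuadraticMap.polar ⇑Q y f = 0 := by
    rw [hy, QuadraticMap.polar_sub_left, QuadraticMap.polar_sub_left,
      QuadraticMap.polar_smul_left, QuadraticMap.polar_smul_left, hef, hff, ← ha]
    simp
  have hs3 : Q (y + (1 : F) • e - Q y • f) = 0 := by
    rw [quad_add_smul_sub_smul, he, hf, hye, hyf, hef]
    ring
  have hs3S : y + (1 : F) • e - Q y • f ∈ S :=
    S.sub_mem (S.add_mem hyS (S.smul_mem _ heS)) (S.smul_mem _ hfS)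
  have e1 : x = a • e + (b • f + ((y + (1 : F) • e - Q y • f) + ((-1 : F) • e + Q y • f))) := by
    rw [hy]
    module
  rw [e1]
  have p1 : p (a • e) := hsing _ (S.smul_mem _ heS) (by rw [QuadraticMap.map_smul, he, smul_zero])
  have p2 : p (b • f) := hsing _ (S.smul_mem _ hfS) (by rw [QuadraticMap.map_smul, hf, smul_zero])
  have p3 : p (y + (1 : F) • e - Q y • f) := hsing _ hs3S hs3
  have p4 : p ((-1 : F) • e) :=
    hsing _ (S.smul_mem _ heS) (by rw [QuadraticMap.map_smul, he, smul_zero])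
  have p5 : p (Q y • f) := hsing _ (S.smul_mem _ hfS) (by rw [QuadraticMap.map_smul, hf, smul_zero])
  have m45 : (-1 : F) • e + Q y • f ∈ S := S.add_mem (S.smul_mem _ heS) (S.smul_mem _ hfS)
  have m345 := S.add_mem hs3S m45
  have m2345 := S.add_mem (S.smul_mem b hfS) m345
  exact hadd _ _ (S.smul_mem _ heS) m2345 p1
    (hadd _ _ (S.smul_mem _ hfS) m345 p2
      (hadd _ _ hs3S m45 p3 (hadd _ _ (S.smul_mem _ heS) (S.smul_mem _ hfS) p4 p5)))

/-- Prescribed polar values against a linearly independent family. -/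
theorem exists_polar_eq (Q : QuadraticForm F (ι → F))
    (hQ : (QuadraticMap.polarBilin Q).Nondegenerate) {k : ℕ} (x : Fin k → ι → F)
    (hli : LinearIndependent F x) (c : Fin k → F) :
    ∃ y, ∀ i, QuadraticMap.polar ⇑Q (x i) y = c i := by
  obtain ⟨Φ, hΦ⟩ : ∃ Φ : (ι → F) →ₗ[F] (Fin k → F),
      Φ = LinearMap.pi (fun i => QuadraticMap.polarBilin Q (x i)) := ⟨_, rfl⟩
  have hΦa : ∀ y i, Φ y i = QuadraticMap.polar ⇑Q (x i) y := by
    intro y i
    rw [hΦ]
    rfl
  have hker : LinearMap.ker Φ =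
      Cfsg.Agent.Lib.Helper44.orth Q (Submodule.span F (Set.range x)) := by
    ext y
    rw [LinearMap.mem_ker, Cfsg.Agent.Lib.Helper44.mem_orth_iff]
    constructor
    · intro h v hv
      have hle : Submodule.span F (Set.range x) ≤
          LinearMap.ker ((QuadraticMap.polarBilin Q).flip y) := by
        rw [Submodule.span_le]
        rintro _ ⟨i, rfl⟩
        rw [SetLike.mem_coe, LinearMap.mem_ker]
        have := congrFun h i
        rw [hΦa] at this
        exact this
      exact LinearMap.mem_ker.mp (hle hv)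
    · intro h
      funext i
      rw [hΦa]
      exact h (x i) (Submodule.subset_span ⟨i, rfl⟩)
  have h1 := LinearMap.finrank_range_add_finrank_ker Φ
  rw [hker, Cfsg.Agent.Lib.Helper44.finrank_orth Q hQ, finrank_span_eq_card hli,
    Fintype.card_fin] at h1
  have h2 : k ≤ finrank F (ι → F) := by
    have := hli.fintype_card_le_finrank
    rwa [Fintype.card_fin] at this
  have h3 : LinearMap.range Φ = ⊤ := by
    apply Submodule.eq_top_of_finrank_eq
    rw [Module.finrank_fintype_fun_eq_card, Fintype.card_fin]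
    omega
  obtain ⟨y, hy⟩ := LinearMap.range_eq_top.mp h3 c
  refine ⟨y, fun i => ?_⟩
  rw [← hΦa, hy]

/-- A singular vector with prescribed polar values against a small linearly independent
family. -/
theorem exists_sing_polar_eq [Fintype F] (Q : QuadraticForm F (ι → F))
    (hQ : (QuadraticMap.polarBilin Q).Nondegenerate) {k : ℕ} (x : Fin k → ι → F)
    (hli : LinearIndependent F x) (c : Fin k → F) (hk : 2 * k + 3 ≤ Fintype.card ι) :
    ∃ v, Q v = 0 ∧ ∀ i, QuadraticMap.polar ⇑Q (x i) v = c i := by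
  have hfT : finrank F ↥(Submodule.span F (Set.range x)) = k := by
    rw [finrank_span_eq_card hli, Fintype.card_fin]
  have hfin := Cfsg.Agent.Lib.Helper44.finrank_orth Q hQ (Submodule.span F (Set.range x))
  rw [Module.finrank_fintype_fun_eq_card, hfT] at hfin
  obtain ⟨s, hsT, hsT', hQs⟩ := exists_sing_notMem Q
    (Cfsg.Agent.Lib.Helper44.orth Q (Submodule.span F (Set.range x)))
    (Submodule.span F (Set.range x)) (by omega)
  have hli' : LinearIndependent F (Fin.cons s x : Fin (k + 1) → ι → F) :=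
    hli.finCons hsT'
  obtain ⟨y, hy⟩ := exists_polar_eq Q hQ _ hli' (Fin.cons 1 c)
  have hy0 : QuadraticMap.polar ⇑Q s y = 1 := by
    have := hy 0
    rwa [Fin.cons_zero, Fin.cons_zero] at this
  have hyi : ∀ i, QuadraticMap.polar ⇑Q (x i) y = c i := by
    intro i
    have := hy i.succ
    rwa [Fin.cons_succ, Fin.cons_succ] at this
  rw [Cfsg.Agent.Lib.Helper44.mem_orth_iff] at hsT
  refine ⟨y - Q y • s, ?_, fun i => ?_⟩
  · rw [quad_sub_smul, hQs, QuadraticMap.polar_comm, hy0]
    ring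
  · rw [QuadraticMap.polar_sub_right, QuadraticMap.polar_smul_right, hyi,
      hsT (x i) (Submodule.subset_span ⟨i, rfl⟩)]
    simp

end unitA

end Cfsg.Agent.Lib.Helper14
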