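import Mathlib
import Cfsg.Agent.Lib.Helper14.UnitA
import Cfsg.Agent.Lib.Helper14.EichlerGen
import Cfsg.Agent.Lib.Helper14.ParabolicMax

/-!
# Rational structures over a subfield for quadratic forms
-/

set_option autoImplicit false

namespace Cfsg.Agent.Lib.Helper14

open Matrix Module

section subfA

variable {ι : Type} [Fintype ι] [DecidableEq ι] {F : Type*} [Field F]

/-- The embedding of the rational vectors (coordinates in the subfield, basis the columns
of `P`). -/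
noncomputable def ratEmb (F₀ : Subfield F) (P : Matrix.GeneralLinearGroup ι F) :
    (ι → ↥F₀) →ₗ[↥F₀] (ι → F) where
  toFun x := (P : Matrix ι ι F) *ᵥ (fun i => ((x i : ↥F₀) : F))
  map_add' x y := by
    rw [← mulVec_add]
    rfl
  map_smul' c x := by
    simp only [RingHom.id_apply]
    rw [Subfield.smul_def, ← mulVec_smul]
    rfl

theorem ratEmb_apply (F₀ : Subfield F) (P : Matrix.GeneralLinearGroup ι F) (x : ι → ↥F₀) :
    ratEmb F₀ P x = (P : Matrix ι ι F) *ᵥ (fun i => ((x i : ↥F₀) : F)) := rfl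

theorem ratEmb_smul (F₀ : Subfield F) (P : Matrix.GeneralLinearGroup ι F) (c : ↥F₀)
    (x : ι → ↥F₀) : ratEmb F₀ P (c • x) = (c : F) • ratEmb F₀ P x := by
  rw [map_smul, Subfield.smul_def]

theorem ratEmb_injective (F₀ : Subfield F) (P : Matrix.GeneralLinearGroup ι F) :
    Function.Injective (ratEmb F₀ P) := by
  intro x y h
  rw [ratEmb_apply, ratEmb_apply] at h
  have h2 := congrArg (fun t => ((P⁻¹ : Matrix.GeneralLinearGroup ι F) : Matrix ι ι F) *ᵥ t) h
  simp only [mulVec_mulVec, ← Units.val_mul, inv_mul_cancel, Units.val_one, one_mulVec] at h2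
  funext i
  exact Subtype.ext (congrFun h2 i)

theorem ratEmb_eq_zero_iff (F₀ : Subfield F) (P : Matrix.GeneralLinearGroup ι F)
    (x : ι → ↥F₀) : ratEmb F₀ P x = 0 ↔ x = 0 := by
  constructor
  · intro h
    apply ratEmb_injective F₀ P
    rw [h, map_zero]
  · rintro rfl
    exact map_zero _

/-- Every vector is an `F`-combination of rational vectors. -/
theorem exists_rat_combo (F₀ : Subfield F) (P : Matrix.GeneralLinearGroup ι F) (w : ι → F) :
    ∃ c : ι → F, w = ∑ i, c i • ratEmb F₀ P (Pi.single i 1) := by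
  refine ⟨((P⁻¹ : Matrix.GeneralLinearGroup ι F) : Matrix ι ι F) *ᵥ w, ?_⟩
  obtain ⟨c, hc⟩ : ∃ c, c = ((P⁻¹ : Matrix.GeneralLinearGroup ι F) : Matrix ι ι F) *ᵥ w :=
    ⟨_, rfl⟩
  rw [← hc]
  have hw : w = (P : Matrix ι ι F) *ᵥ c := by
    rw [hc, mulVec_mulVec, ← Units.val_mul, mul_inv_cancel, Units.val_one, one_mulVec]
  have hsingle : ∀ i, ratEmb F₀ P (Pi.single i 1) =
      (P : Matrix ι ι F) *ᵥ (fun j => if i = j then (1 : F) else 0) := by
    intro i
    rw [ratEmb_apply]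
    congr 1
    funext j
    by_cases h : i = j
    · subst h
      simp
    · rw [if_neg h, Pi.single_eq_of_ne (Ne.symm h)]
      rfl
  rw [hw]
  conv_lhs => rw [pi_eq_sum_univ c]
  rw [mulVec_sum]
  apply Finset.sum_congr rfl
  intro i _
  rw [mulVec_smul, hsingle]

/-- A vector orthogonal to all rational vectors is orthogonal to everything. -/
theorem polar_eq_zero_of_rat (Q : QuadraticForm F (ι → F)) (F₀ : Subfield F)
    (P : Matrix.GeneralLinearGroup ι F) {v : ι → F}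
    (h : ∀ y, QuadraticMap.polar ⇑Q v (ratEmb F₀ P y) = 0) (w : ι → F) :
    QuadraticMap.polar ⇑Q v w = 0 := by
  obtain ⟨c, rfl⟩ := exists_rat_combo F₀ P w
  have e : QuadraticMap.polar ⇑Q v (∑ i, c i • ratEmb F₀ P (Pi.single i 1)) =
      QuadraticMap.polarBilin Q v (∑ i, c i • ratEmb F₀ P (Pi.single i 1)) := rfl
  rw [e, map_sum]
  apply Finset.sum_eq_zero
  intro i _
  rw [map_smul]
  have e2 : QuadraticMap.polarBilin Q v (ratEmb F₀ P (Pi.single i 1)) =
      QuadraticMap.polar ⇑Q v (ratEmb F₀ P (Pi.single i 1)) := rfl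
  rw [e2, h, smul_zero]

theorem eq_zero_of_polar_rat (Q : QuadraticForm F (ι → F))
    (hQ : (QuadraticMap.polarBilin Q).Nondegenerate) (F₀ : Subfield F)
    (P : Matrix.GeneralLinearGroup ι F) {v : ι → F}
    (h : ∀ y, QuadraticMap.polar ⇑Q v (ratEmb F₀ P y) = 0) : v = 0 :=
  hQ.1 v (fun w => polar_eq_zero_of_rat Q F₀ P h w)

/-- The underlying function of the rational quadratic form. -/
noncomputable def ratFun (Q : QuadraticForm F (ι → F)) (F₀ : Subfield F)
    (P : Matrix.GeneralLinearGroup ι F)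
    (hP : Cfsg.Geo.IsQuadFormRationalStructure (⇑Q) F₀ P) (x : ι → ↥F₀) : ↥F₀ :=
  ⟨Q (ratEmb F₀ P x), hP _ (fun i => (x i).2)⟩

theorem coe_polar_ratFun (Q : QuadraticForm F (ι → F)) (F₀ : Subfield F)
    (P : Matrix.GeneralLinearGroup ι F)
    (hP : Cfsg.Geo.IsQuadFormRationalStructure (⇑Q) F₀ P) (x y : ι → ↥F₀) :
    ((QuadraticMap.polar (ratFun Q F₀ P hP) x y : ↥F₀) : F) =
      QuadraticMap.polar ⇑Q (ratEmb F₀ P x) (ratEmb F₀ P y) := by
  unfold QuadraticMap.polar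
  rw [Subfield.coe_sub, Subfield.coe_sub, ← map_add]
  rfl

/-- The quadratic form on rational vectors. -/
noncomputable def ratForm (Q : QuadraticForm F (ι → F)) (F₀ : Subfield F)
    (P : Matrix.GeneralLinearGroup ι F)
    (hP : Cfsg.Geo.IsQuadFormRationalStructure (⇑Q) F₀ P) : QuadraticForm ↥F₀ (ι → ↥F₀) :=
  QuadraticMap.ofPolar (ratFun Q F₀ P hP)
    (by
      intro a x
      apply Subtype.ext
      rw [smul_eq_mul, Subfield.coe_mul, Subfield.coe_mul]
      show Q (ratEmb F₀ P (a • x)) = (a : F) * (a : F) * Q (ratEmb F₀ P x)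
      rw [ratEmb_smul, QuadraticMap.map_smul, smul_eq_mul])
    (by
      intro x x' y
      apply Subtype.ext
      rw [Subfield.coe_add, coe_polar_ratFun, coe_polar_ratFun, coe_polar_ratFun, map_add,
        QuadraticMap.polar_add_left])
    (by
      intro a x y
      apply Subtype.ext
      rw [smul_eq_mul, Subfield.coe_mul, coe_polar_ratFun, coe_polar_ratFun, ratEmb_smul,
        QuadraticMap.polar_smul_left, smul_eq_mul])

theorem ratForm_coe (Q : QuadraticForm F (ι → F)) (F₀ : Subfield F)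
    (P : Matrix.GeneralLinearGroup ι F)
    (hP : Cfsg.Geo.IsQuadFormRationalStructure (⇑Q) F₀ P) (x : ι → ↥F₀) :
    ((ratForm Q F₀ P hP x : ↥F₀) : F) = Q (ratEmb F₀ P x) := rfl

theorem ratForm_polar_coe (Q : QuadraticForm F (ι → F)) (F₀ : Subfield F)
    (P : Matrix.GeneralLinearGroup ι F)
    (hP : Cfsg.Geo.IsQuadFormRationalStructure (⇑Q) F₀ P) (x y : ι → ↥F₀) :
    ((QuadraticMap.polar ⇑(ratForm Q F₀ P hP) x y : ↥F₀) : F) =
      QuadraticMap.polar ⇑Q (ratEmb F₀ P x) (ratEmb F₀ P y) :=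
  coe_polar_ratFun Q F₀ P hP x y

theorem rat_sing (Q : QuadraticForm F (ι → F)) (F₀ : Subfield F)
    (P : Matrix.GeneralLinearGroup ι F)
    (hP : Cfsg.Geo.IsQuadFormRationalStructure (⇑Q) F₀ P) {x : ι → ↥F₀}
    (hx : ratForm Q F₀ P hP x = 0) : Q (ratEmb F₀ P x) = 0 := by
  rw [← ratForm_coe Q F₀ P hP, hx]
  rfl

theorem rat_polar_zero (Q : QuadraticForm F (ι → F)) (F₀ : Subfield F)
    (P : Matrix.GeneralLinearGroup ι F)
    (hP : Cfsg.Geo.IsQuadFormRationalStructure (⇑Q) F₀ P) {x y : ι → ↥F₀}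
    (hx : QuadraticMap.polar ⇑(ratForm Q F₀ P hP) x y = 0) :
    QuadraticMap.polar ⇑Q (ratEmb F₀ P x) (ratEmb F₀ P y) = 0 := by
  rw [← ratForm_polar_coe Q F₀ P hP, hx]
  rfl

theorem rat_polar_one (Q : QuadraticForm F (ι → F)) (F₀ : Subfield F)
    (P : Matrix.GeneralLinearGroup ι F)
    (hP : Cfsg.Geo.IsQuadFormRationalStructure (⇑Q) F₀ P) {x y : ι → ↥F₀}
    (hx : QuadraticMap.polar ⇑(ratForm Q F₀ P hP) x y = 1) :
    QuadraticMap.polar ⇑Q (ratEmb F₀ P x) (ratEmb F₀ P y) = 1 := by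
  rw [← ratForm_polar_coe Q F₀ P hP, hx]
  rfl

theorem rat_polar_mem (Q : QuadraticForm F (ι → F)) (F₀ : Subfield F)
    (P : Matrix.GeneralLinearGroup ι F)
    (hP : Cfsg.Geo.IsQuadFormRationalStructure (⇑Q) F₀ P) (x y : ι → ↥F₀) :
    QuadraticMap.polar ⇑Q (ratEmb F₀ P x) (ratEmb F₀ P y) ∈ F₀ := by
  rw [← ratForm_polar_coe Q F₀ P hP]
  exact Subtype.property _

theorem ratForm_nondegenerate (Q : QuadraticForm F (ι → F))
    (hQ : (QuadraticMap.polarBilin Q).Nondegenerate) (F₀ : Subfield F)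
    (P : Matrix.GeneralLinearGroup ι F)
    (hP : Cfsg.Geo.IsQuadFormRationalStructure (⇑Q) F₀ P) :
    (QuadraticMap.polarBilin (ratForm Q F₀ P hP)).Nondegenerate := by
  have key : ∀ x : ι → ↥F₀, (∀ y, QuadraticMap.polar ⇑(ratForm Q F₀ P hP) x y = 0) → x = 0 := by
    intro x hx
    rw [← ratEmb_eq_zero_iff F₀ P]
    apply eq_zero_of_polar_rat Q hQ F₀ P
    intro y
    exact rat_polar_zero Q F₀ P hP (hx y)
  constructor
  · intro x hx
    exact key x hx
  · intro y hy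
    apply key y
    intro x
    rw [QuadraticMap.polar_comm]
    exact hy x

/-- Rationality criterion: a vector all of whose products with rational vectors are rational is
rational. -/
theorem mem_range_of_polar_mem (Q : QuadraticForm F (ι → F))
    (hQ : (QuadraticMap.polarBilin Q).Nondegenerate) (F₀ : Subfield F)
    (P : Matrix.GeneralLinearGroup ι F)
    (hP : Cfsg.Geo.IsQuadFormRationalStructure (⇑Q) F₀ P) {v : ι → F}
    (h : ∀ y, QuadraticMap.polar ⇑Q v (ratEmb F₀ P y) ∈ F₀) : ∃ z, ratEmb F₀ P z = v := by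
  obtain ⟨φ, hφ⟩ : ∃ φ : (ι → ↥F₀) →ₗ[↥F₀] ↥F₀,
      ∀ y, ((φ y : ↥F₀) : F) = QuadraticMap.polar ⇑Q v (ratEmb F₀ P y) := by
    refine ⟨{ toFun := fun y => ⟨QuadraticMap.polar ⇑Q v (ratEmb F₀ P y), h y⟩
              map_add' := ?_
              map_smul' := ?_ }, fun y => rfl⟩
    · intro y y'
      apply Subtype.ext
      rw [Subfield.coe_add]
      show QuadraticMap.polar ⇑Q v (ratEmb F₀ P (y + y')) = _
      rw [map_add, QuadraticMap.polar_add_right]
    · intro c y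
      apply Subtype.ext
      simp only [RingHom.id_apply]
      rw [smul_eq_mul, Subfield.coe_mul]
      show QuadraticMap.polar ⇑Q v (ratEmb F₀ P (c • y)) = _
      rw [ratEmb_smul, QuadraticMap.polar_smul_right, smul_eq_mul]
  have hQ₀ := ratForm_nondegenerate Q hQ F₀ P hP
  obtain ⟨z, hz⟩ : ∃ z, z = (LinearMap.BilinForm.toDual (QuadraticMap.polarBilin (ratForm Q F₀ P hP)) hQ₀).symm φ :=
    ⟨_, rfl⟩
  have hz2 : ∀ y, QuadraticMap.polar ⇑(ratForm Q F₀ P hP) z y = φ y := by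
    intro y
    rw [hz]
    exact LinearMap.BilinForm.apply_toDual_symm_apply (hB := hQ₀) φ y
  refine ⟨z, ?_⟩
  have h0 : v - ratEmb F₀ P z = 0 := by
    apply eq_zero_of_polar_rat Q hQ F₀ P
    intro y
    rw [QuadraticMap.polar_sub_left, ← ratForm_polar_coe Q F₀ P hP, hz2, hφ, sub_self]
  exact (sub_eq_zero.mp h0).symm

/-- A scalar multiple of a non-zero rational vector is rational only for rational scalars. -/
theorem coeff_mem_of_smul_rat (Q : QuadraticForm F (ι → F))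
    (hQ : (QuadraticMap.polarBilin Q).Nondegenerate) (F₀ : Subfield F)
    (P : Matrix.GeneralLinearGroup ι F)
    (hP : Cfsg.Geo.IsQuadFormRationalStructure (⇑Q) F₀ P) {b z : ι → ↥F₀} (hb : b ≠ 0) {c : F}
    (h : c • ratEmb F₀ P b = ratEmb F₀ P z) : c ∈ F₀ := by
  have hQ₀ := ratForm_nondegenerate Q hQ F₀ P hP
  obtain ⟨y, hy⟩ : ∃ y, QuadraticMap.polar ⇑(ratForm Q F₀ P hP) b y ≠ 0 := by
    by_contra hno
    push Not at hno
    exact hb (hQ₀.1 b hno)
  have h1 := congrArg (fun t => QuadraticMap.polar ⇑Q t (ratEmb F₀ P y)) h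
  simp only [QuadraticMap.polar_smul_left, smul_eq_mul] at h1
  rw [← ratForm_polar_coe Q F₀ P hP, ← ratForm_polar_coe Q F₀ P hP] at h1
  have hne : ((QuadraticMap.polar ⇑(ratForm Q F₀ P hP) b y : ↥F₀) : F) ≠ 0 := by
    intro h0
    apply hy
    exact Subtype.ext h0
  have e : c = ((QuadraticMap.polar ⇑(ratForm Q F₀ P hP) z y : ↥F₀) : F) *
      ((QuadraticMap.polar ⇑(ratForm Q F₀ P hP) b y : ↥F₀) : F)⁻¹ := by
    rw [← h1, mul_assoc, mul_inv_cancel₀ hne, mul_one]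
  rw [e]
  exact F₀.mul_mem (Subtype.property _) (F₀.inv_mem (Subtype.property _))

theorem ratEmb_single (F₀ : Subfield F) (P : Matrix.GeneralLinearGroup ι F) (i : ι) :
    ratEmb F₀ P (Pi.single i 1) = (P : Matrix ι ι F) *ᵥ Pi.single i 1 := by
  rw [ratEmb_apply]
  congr 1
  funext j
  by_cases h : j = i
  · subst h
    simp
  · rw [Pi.single_eq_of_ne h, Pi.single_eq_of_ne h]
    rfl

/-- An invertible matrix mapping rational vectors to a fixed multiple of rational vectors lies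
in the subfield subgroup. -/
theorem mem_subfieldSubgroup_of_rat (F₀ : Subfield F) (P E : Matrix.GeneralLinearGroup ι F)
    (c : F) (hc : c ≠ 0)
    (h : ∀ x : ι → ↥F₀, ∃ y : ι → ↥F₀,
      (E : Matrix ι ι F) *ᵥ ratEmb F₀ P x = c • ratEmb F₀ P y) :
    E ∈ Cfsg.Geo.subfieldSubgroup F₀ P := by
  classical
  obtain ⟨B, hB⟩ : ∃ B : Matrix ι ι F, B = c⁻¹ •
      (((P⁻¹ : Matrix.GeneralLinearGroup ι F) : Matrix ι ι F) * (E : Matrix ι ι F) *
        (P : Matrix ι ι F)) := ⟨_, rfl⟩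
  have hBmem : ∀ i j, B i j ∈ F₀ := by
    intro i j
    obtain ⟨y, hy⟩ := h (Pi.single j 1)
    have h1 : B *ᵥ Pi.single j 1 = fun k => ((y k : ↥F₀) : F) := by
      rw [hB, Matrix.smul_mulVec, ← Matrix.mulVec_mulVec, ← Matrix.mulVec_mulVec,
        ← ratEmb_single F₀ P, hy, Matrix.mulVec_smul, ratEmb_apply, Matrix.mulVec_mulVec,
        ← Units.val_mul, inv_mul_cancel, Units.val_one, Matrix.one_mulVec, smul_smul,
        inv_mul_cancel₀ hc, one_smul]
    have h2 : B i j = ((y i : ↥F₀) : F) := by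
      rw [← congrFun h1 i, Matrix.mulVec_single_one]
      rfl
    rw [h2]
    exact (y i).2
  obtain ⟨B₀, hB₀⟩ : ∃ B₀ : Matrix ι ι ↥F₀, B₀ = fun i j => ⟨B i j, hBmem i j⟩ :=
    ⟨_, rfl⟩
  have hmap : B₀.map F₀.subtype = B := by
    ext i j
    rw [hB₀]
    rfl
  have hBdet : B.det ≠ 0 := by
    rw [hB, Matrix.det_smul, Matrix.det_mul, Matrix.det_mul]
    refine mul_ne_zero (pow_ne_zero _ (inv_ne_zero hc)) (mul_ne_zero (mul_ne_zero ?_ ?_) ?_)
    · exact ((Matrix.isUnit_iff_isUnit_det _).mp (P⁻¹).isUnit).ne_zero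
    · exact ((Matrix.isUnit_iff_isUnit_det _).mp E.isUnit).ne_zero
    · exact ((Matrix.isUnit_iff_isUnit_det _).mp P.isUnit).ne_zero
  have hB₀det : B₀.det ≠ 0 := by
    intro h0
    apply hBdet
    have := RingHom.map_det F₀.subtype B₀
    rw [h0, map_zero] at this
    rw [← hmap]
    exact this.symm
  obtain ⟨A₀, hA₀⟩ : ∃ A₀ : Matrix.GeneralLinearGroup ι ↥F₀,
      A₀ = Matrix.GeneralLinearGroup.mkOfDetNeZero B₀ hB₀det := ⟨_, rfl⟩
  have hA : ((Matrix.GeneralLinearGroup.map F₀.subtype A₀ : Matrix.GeneralLinearGroup ι F) :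
      Matrix ι ι F) = B := by
    ext i j
    rw [Matrix.GeneralLinearGroup.map_apply, hA₀, ← hmap]
    rfl
  obtain ⟨s, hs⟩ : ∃ s : Matrix.GeneralLinearGroup ι F, s = Units.map
      (Matrix.scalar ι : F →+* Matrix ι ι F).toMonoidHom (Units.mk0 c hc) :=
    ⟨_, rfl⟩
  have hsmem : s ∈ Cfsg.Geo.scalars ι F := by
    rw [hs]
    exact ⟨Units.mk0 c hc, rfl⟩
  have hsval : (s : Matrix ι ι F) = c • (1 : Matrix ι ι F) := by
    rw [hs]
    simp [Matrix.smul_one_eq_diagonal]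
  have hE : E = MulAut.conj P (Matrix.GeneralLinearGroup.map F₀.subtype A₀ * s) := by
    rw [MulAut.conj_apply]
    apply Units.ext
    rw [Units.val_mul, Units.val_mul, Units.val_mul, hA, hsval, hB, Matrix.mul_smul,
      Matrix.smul_mul, smul_smul, mul_inv_cancel₀ hc, one_smul, Matrix.mul_one,
      ← Matrix.mul_assoc, ← Matrix.mul_assoc, ← Units.val_mul, mul_inv_cancel, Units.val_one,
      Matrix.one_mul, Matrix.mul_assoc, ← Units.val_mul, mul_inv_cancel, Units.val_one,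
      Matrix.mul_one]
  unfold Cfsg.Geo.subfieldSubgroup
  rw [hE]
  exact Subgroup.mem_map_of_mem _ (Subgroup.mul_mem_sup ⟨A₀, rfl⟩ hsmem)

/-- Elements of the subfield subgroup map rational vectors to a fixed multiple of rational
vectors. -/
theorem exists_scalar_of_mem_subfield (F₀ : Subfield F) (P E : Matrix.GeneralLinearGroup ι F)
    (hE : E ∈ Cfsg.Geo.subfieldSubgroup F₀ P) :
    ∃ c : F, c ≠ 0 ∧ ∀ x : ι → ↥F₀, ∃ y : ι → ↥F₀,
      (E : Matrix ι ι F) *ᵥ ratEmb F₀ P x = c • ratEmb F₀ P y := by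
  unfold Cfsg.Geo.subfieldSubgroup at hE
  obtain ⟨X, hX, rfl⟩ := Subgroup.mem_map.mp hE
  obtain ⟨Y, ⟨A₀, rfl⟩, S, hS, rfl⟩ := Subgroup.mem_sup_of_normal_right.mp hX
  obtain ⟨c, hc⟩ := (Cfsg.Geo.mem_scalars_iff S).mp hS
  refine ⟨c, c.ne_zero, ?_⟩
  intro x
  have hmem : ∀ i, (((Matrix.GeneralLinearGroup.map F₀.subtype A₀ :
      Matrix.GeneralLinearGroup ι F) : Matrix ι ι F) *ᵥ (fun k => ((x k : ↥F₀) : F))) i ∈ F₀ := by
    intro i
    simp only [Matrix.mulVec, dotProduct]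
    refine F₀.sum_mem fun j _ => F₀.mul_mem ?_ (x j).2
    rw [Matrix.GeneralLinearGroup.map_apply]
    exact (A₀ i j).2
  refine ⟨fun i => ⟨_, hmem i⟩, ?_⟩
  have e : ((MulAut.conj P).toMonoidHom
      (Matrix.GeneralLinearGroup.map F₀.subtype A₀ * S) : Matrix.GeneralLinearGroup ι F) =
      P * (Matrix.GeneralLinearGroup.map F₀.subtype A₀ * S) * P⁻¹ := rfl
  have hPinv : ∀ v : ι → F, ((P⁻¹ : Matrix.GeneralLinearGroup ι F) : Matrix ι ι F) *ᵥ
      ((P : Matrix ι ι F) *ᵥ v) = v := by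
    intro v
    rw [Matrix.mulVec_mulVec, ← Units.val_mul, inv_mul_cancel, Units.val_one, Matrix.one_mulVec]
  rw [e, ratEmb_apply, ratEmb_apply, Units.val_mul, Units.val_mul, Units.val_mul,
    ← Matrix.mulVec_mulVec, hPinv, ← Matrix.mulVec_mulVec, ← Matrix.mulVec_mulVec, hc,
    Matrix.smul_mulVec, Matrix.one_mulVec, Matrix.mulVec_smul, Matrix.mulVec_smul]

/-- Rational Eichler transformations preserve the rational structure. -/
theorem ratEich_mulVec (Q : QuadraticForm F (ι → F)) (F₀ : Subfield F)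
    (P : Matrix.GeneralLinearGroup ι F)
    (hP : Cfsg.Geo.IsQuadFormRationalStructure (⇑Q) F₀ P) (a b x : ι → ↥F₀) :
    eichMat Q (ratEmb F₀ P a) (ratEmb F₀ P b) *ᵥ ratEmb F₀ P x =
      ratEmb F₀ P (eichMat (ratForm Q F₀ P hP) a b *ᵥ x) := by
  rw [eichMat_mulVec, eichMat_mulVec, map_sub, map_add, ratEmb_smul, ratEmb_smul,
    Subfield.coe_add, Subfield.coe_mul, ratForm_polar_coe, ratForm_polar_coe, ratForm_coe]

/-- Rational Eichler transformations lie in every overgroup of the subfield subgroup of `Ω`. -/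
theorem ratE [Fintype F] (Q : QuadraticForm F (ι → F))
    (hQ : (QuadraticMap.polarBilin Q).Nondegenerate) (hn : 5 ≤ Fintype.card ι)
    (F₀ : Subfield F) (P : Matrix.GeneralLinearGroup ι F)
    (hP : Cfsg.Geo.IsQuadFormRationalStructure (⇑Q) F₀ P)
    (M : Subgroup ↥(Cfsg.isometryGroup F ⇑Q))
    (hM : ∀ g ∈ commutator ↥(Cfsg.isometryGroup F ⇑Q),
      (g : Matrix.GeneralLinearGroup ι F) ∈ Cfsg.Geo.subfieldSubgroup F₀ P → g ∈ M)
    {a b : ι → ↥F₀} (ha : ratForm Q F₀ P hP a = 0)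
    (hab : QuadraticMap.polar ⇑(ratForm Q F₀ P hP) a b = 0) :
    EIn Q M (ratEmb F₀ P a) (ratEmb F₀ P b) := by
  intro g hg
  apply hM g (eich_mem_omega Q hQ hn (rat_sing Q F₀ P hP ha) (rat_polar_zero Q F₀ P hP hab) g hg)
  apply mem_subfieldSubgroup_of_rat F₀ P _ 1 one_ne_zero
  intro x
  refine ⟨eichMat (ratForm Q F₀ P hP) a b *ᵥ x, ?_⟩
  rw [hg, ratEich_mulVec Q F₀ P hP, one_smul]

end subfA

end Cfsg.Agent.Lib.Helper14
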