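import Mathlib
import Cfsg.Agent.Lib.Helper14.SubfA

/-!
# Commutator calculus for Eichler transformations and small independent families
-/

set_option autoImplicit false

namespace Cfsg.Agent.Lib.Helper14

open Matrix Module

section subfB

variable {ι : Type} [Fintype ι] [DecidableEq ι] {F : Type*} [Field F]

/-- The Eichler transformation of a totally singular line only depends on the bivector. -/
theorem eichMat_lin_comb (Q : QuadraticForm F (ι → F)) {u w : ι → F} (hu : Q u = 0)
    (hw : Q w = 0) (huw : QuadraticMap.polar ⇑Q u w = 0) (p q r s : F) :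
    eichMat Q (p • u + q • w) (r • u + s • w) = eichMat Q u ((p * s - q * r) • w) := by
  have hQ2 : Q (r • u + s • w) = 0 := by
    rw [QuadraticMap.map_add (⇑Q), QuadraticMap.map_smul, QuadraticMap.map_smul, hu, hw,
      QuadraticMap.polar_smul_left, QuadraticMap.polar_smul_right, huw]
    simp
  have hQ3 : Q ((p * s - q * r) • w) = 0 := by rw [QuadraticMap.map_smul, hw, smul_zero]
  rw [ext_iff_mulVec]
  intro x
  rw [eichMat_mulVec, eichMat_mulVec, hQ2, hQ3]
  simp only [QuadraticMap.polar_add_left, QuadraticMap.polar_smul_left, smul_eq_mul, zero_mul,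
    add_zero]
  module

/-- Commutator of two Eichler transformations in special position. -/
theorem EIn_comm (Q : QuadraticForm F (ι → F))
    (hQ : (QuadraticMap.polarBilin Q).Nondegenerate) (M : Subgroup ↥(Cfsg.isometryGroup F ⇑Q))
    {u' w' u w : ι → F} (hu' : Q u' = 0) (hu'w' : QuadraticMap.polar ⇑Q u' w' = 0)
    (hu : Q u = 0) (huw : QuadraticMap.polar ⇑Q u w = 0)
    (h1 : QuadraticMap.polar ⇑Q u' u = 0) (h2 : QuadraticMap.polar ⇑Q u' w = 0)
    (h3 : QuadraticMap.polar ⇑Q w' u = 0) (hE' : EIn Q M u' w') (hE : EIn Q M u w) :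
    EIn Q M u (QuadraticMap.polar ⇑Q w' w • u') := by
  have hmem : eichElt Q hQ u' w' hu' hu'w' ∈ M := hE' _ rfl
  have hc := EIn_conj Q M hE _ hmem
  rw [eichElt_coe, eichMat_mulVec, eichMat_mulVec, h1, h2, h3] at hc
  simp only [zero_smul, add_zero, mul_zero, sub_zero] at hc
  have huu' : QuadraticMap.polar ⇑Q u u' = 0 := by rw [QuadraticMap.polar_comm]; exact h1
  have h4 : QuadraticMap.polar ⇑Q u (w - QuadraticMap.polar ⇑Q w' w • u') = 0 := by
    rw [QuadraticMap.polar_sub_right, QuadraticMap.polar_smul_right, huw, huu']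
    simp
  have := EIn_sub Q hQ M hu huw h4 hE hc
  rwa [sub_sub_cancel] at this

theorem eichMat_plane (Q : QuadraticForm F (ι → F)) {a u w : ι → F} (ha : Q a = 0)
    (hu : Q u = 0) (hw : Q w = 0) (hau : QuadraticMap.polar ⇑Q a u = 0)
    (haw : QuadraticMap.polar ⇑Q a w = 0) (huw : QuadraticMap.polar ⇑Q u w = 0) (β γ : F) :
    eichMat Q (u - β • a) (w - γ • a) = eichMat Q u w * eichMat Q a (γ • u - β • w) := by
  have hua : QuadraticMap.polar ⇑Q u a = 0 := by rw [QuadraticMap.polar_comm]; exact hau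
  have hwa : QuadraticMap.polar ⇑Q w a = 0 := by rw [QuadraticMap.polar_comm]; exact haw
  have hwu : QuadraticMap.polar ⇑Q w u = 0 := by rw [QuadraticMap.polar_comm]; exact huw
  have haa : QuadraticMap.polar ⇑Q a a = 0 := by rw [polar_self_eq, ha, mul_zero]
  have huu : QuadraticMap.polar ⇑Q u u = 0 := by rw [polar_self_eq, hu, mul_zero]
  have hww : QuadraticMap.polar ⇑Q w w = 0 := by rw [polar_self_eq, hw, mul_zero]
  have hQ1 : Q (w - γ • a) = 0 := by
    rw [quad_sub_smul, hw, ha, hwa]
    ring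
  have hQ2 : Q (γ • u - β • w) = 0 := by
    rw [quad_sub_smul, QuadraticMap.map_smul, hu, hw, QuadraticMap.polar_smul_left, huw]
    simp
  rw [ext_iff_mulVec]
  intro x
  rw [← mulVec_mulVec, eichMat_mulVec, eichMat_mulVec Q a, eichMat_mulVec, hQ1, hQ2, hw]
  simp only [QuadraticMap.polar_add_right, QuadraticMap.polar_sub_right,
    QuadraticMap.polar_smul_right, QuadraticMap.polar_add_left, QuadraticMap.polar_sub_left,
    QuadraticMap.polar_smul_left, smul_eq_mul, hau, haw, huw, hua, hwa, hwu, haa, huu, hww,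
    mul_zero, zero_mul, add_zero, sub_zero]
  module

/-- Commutator of an Eichler transformation centred at `a` with a long root element whose line
is orthogonal to `a`. -/
theorem EIn_plane (Q : QuadraticForm F (ι → F))
    (hQ : (QuadraticMap.polarBilin Q).Nondegenerate) (M : Subgroup ↥(Cfsg.isometryGroup F ⇑Q))
    {a b u w : ι → F} (ha : Q a = 0) (hab : QuadraticMap.polar ⇑Q a b = 0) (hu : Q u = 0)
    (hw : Q w = 0) (hau : QuadraticMap.polar ⇑Q a u = 0) (haw : QuadraticMap.polar ⇑Q a w = 0)
    (huw : QuadraticMap.polar ⇑Q u w = 0) (hEa : EIn Q M a b) (hE : EIn Q M u w) :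
    EIn Q M a (QuadraticMap.polar ⇑Q b w • u - QuadraticMap.polar ⇑Q b u • w) := by
  have hua : QuadraticMap.polar ⇑Q u a = 0 := by rw [QuadraticMap.polar_comm]; exact hau
  have hwa : QuadraticMap.polar ⇑Q w a = 0 := by rw [QuadraticMap.polar_comm]; exact haw
  have haa : QuadraticMap.polar ⇑Q a a = 0 := by rw [polar_self_eq, ha, mul_zero]
  have hmem : eichElt Q hQ a b ha hab ∈ M := hEa _ rfl
  have hc := EIn_conj Q M hE _ hmem
  rw [eichElt_coe, eichMat_mulVec, eichMat_mulVec, hau, haw] at hc
  simp only [zero_smul, add_zero, mul_zero] at hc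
  have hQ1 : Q (u - QuadraticMap.polar ⇑Q b u • a) = 0 := by
    rw [quad_sub_smul, hu, ha, hua]
    ring
  have hP1 : QuadraticMap.polar ⇑Q (u - QuadraticMap.polar ⇑Q b u • a)
      (w - QuadraticMap.polar ⇑Q b w • a) = 0 := by
    simp only [QuadraticMap.polar_sub_right, QuadraticMap.polar_smul_right,
      QuadraticMap.polar_sub_left, QuadraticMap.polar_smul_left, smul_eq_mul, hau, haw, huw, hua,
      hwa, haa, mul_zero, sub_zero]
  intro g hg
  have e : g = (eichElt Q hQ u w hu huw)⁻¹ * eichElt Q hQ (u - QuadraticMap.polar ⇑Q b u • a)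
      (w - QuadraticMap.polar ⇑Q b w • a) hQ1 hP1 := by
    rw [eq_inv_mul_iff_mul_eq]
    apply isom_ext
    simp only [Subgroup.coe_mul, Units.val_mul]
    rw [hg, eichElt_coe, eichElt_coe, eichMat_plane Q ha hu hw hau haw huw]
  rw [e]
  exact M.mul_mem (M.inv_mem (hE _ rfl)) (hc _ rfl)

/-- Extending an independent family by a vector separated from it by a polar witness. -/
theorem li_cons_polar (Q : QuadraticForm F (ι → F)) {k : ℕ} {v : Fin k → ι → F}
    (h : LinearIndependent F v) (x y : ι → F) (hs : ∀ i, QuadraticMap.polar ⇑Q y (v i) = 0)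
    (hx : QuadraticMap.polar ⇑Q y x ≠ 0) : LinearIndependent F (Matrix.vecCons x v) := by
  refine linearIndependent_fin_cons.mpr ⟨h, ?_⟩
  apply notMem_span_of_polar Q y _ hx
  rintro _ ⟨i, rfl⟩
  exact hs i

theorem li_cons {k : ℕ} {v : Fin k → ι → F} (h : LinearIndependent F v) (x : ι → F)
    (hx : x ∉ Submodule.span F (Set.range v)) : LinearIndependent F (Matrix.vecCons x v) :=
  linearIndependent_fin_cons.mpr ⟨h, hx⟩

theorem li_one {x : ι → F} (hx : x ≠ 0) : LinearIndependent F ![x] := by
  refine linearIndependent_fin_cons.mpr ⟨linearIndependent_empty_type, ?_⟩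
  simpa using hx

/-- A singular vector orthogonal to a small family and outside its span. -/
theorem exists_sing_orth_notMem [Fintype F] (Q : QuadraticForm F (ι → F))
    (hQ : (QuadraticMap.polarBilin Q).Nondegenerate) {k : ℕ} (v : Fin k → ι → F)
    (hk : 2 * k + 3 ≤ Fintype.card ι) :
    ∃ d, Q d = 0 ∧ (∀ i, QuadraticMap.polar ⇑Q (v i) d = 0) ∧
      d ∉ Submodule.span F (Set.range v) := by
  have hfT : finrank F ↥(Submodule.span F (Set.range v)) ≤ k := by
    have := finrank_range_le_card (R := F) v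
    rwa [Fintype.card_fin] at this
  have hfin := Cfsg.Agent.Lib.Helper44.finrank_orth Q hQ (Submodule.span F (Set.range v))
  rw [Module.finrank_fintype_fun_eq_card] at hfin
  obtain ⟨d, hdA, hdB, hQd⟩ := exists_sing_notMem Q
    (Cfsg.Agent.Lib.Helper44.orth Q (Submodule.span F (Set.range v)))
    (Submodule.span F (Set.range v)) (by omega)
  refine ⟨d, hQd, ?_, hdB⟩
  intro i
  exact (Cfsg.Agent.Lib.Helper44.mem_orth_iff Q _ d).mp hdA _
    (Submodule.subset_span (Set.mem_range_self i))

end subfB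

end Cfsg.Agent.Lib.Helper14
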