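import Mathlib
import Cfsg.Agent.Lib.Helper14.AutOA
import Cfsg.Agent.Lib.Helper14.EichlerGen
import Cfsg.Agent.Lib.Helper14.UnitA
import Cfsg.Agent.Lib.Helper14.SubfB
import Cfsg.Agent.Lib.Helper14.SingPts
import Cfsg.Agent.Lib.Helper44.SiegelGen

/-!
# Automorphisms of orthogonal groups: Eichler elements of `Ω` and their centralisers
-/

set_option autoImplicit false

namespace Cfsg.Agent.Lib.Helper14

open Matrix Module

section liHelpers

variable {F V : Type*} [Field F] [AddCommGroup V] [Module F V]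

theorem li3_iff {a b c : V} : LinearIndependent F ![a, b, c] ↔
    ∀ s t r : F, s • a + t • b + r • c = 0 → s = 0 ∧ t = 0 ∧ r = 0 := by
  rw [Fintype.linearIndependent_iff]
  constructor
  · intro h s t r h0
    have := h ![s, t, r] (by simpa [Fin.sum_univ_three, add_assoc] using h0)
    exact ⟨this 0, this 1, this 2⟩
  · intro h g hg i
    have := h (g 0) (g 1) (g 2) (by simpa [Fin.sum_univ_three, add_assoc] using hg)
    fin_cases i
    · exact this.1
    · exact this.2.1
    · exact this.2.2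

theorem li4_iff {a b c d : V} : LinearIndependent F ![a, b, c, d] ↔
    ∀ s t r q : F, s • a + t • b + r • c + q • d = 0 → s = 0 ∧ t = 0 ∧ r = 0 ∧ q = 0 := by
  rw [Fintype.linearIndependent_iff]
  constructor
  · intro h s t r q h0
    have := h ![s, t, r, q] (by simpa [Fin.sum_univ_four, add_assoc] using h0)
    exact ⟨this 0, this 1, this 2, this 3⟩
  · intro h g hg i
    have := h (g 0) (g 1) (g 2) (g 3) (by simpa [Fin.sum_univ_four, add_assoc] using hg)
    fin_cases i
    · exact this.1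
    · exact this.2.1
    · exact this.2.2.1
    · exact this.2.2.2

theorem li2_ne_zero_left {a b : V} (h : LinearIndependent F ![a, b]) : a ≠ 0 := by
  rintro rfl
  have := (LinearIndependent.pair_iff.mp h) 1 0 (by simp)
  exact one_ne_zero this.1

theorem li2_ne_zero_right {a b : V} (h : LinearIndependent F ![a, b]) : b ≠ 0 := by
  rintro rfl
  have := (LinearIndependent.pair_iff.mp h) 0 1 (by simp)
  exact one_ne_zero this.2

theorem li2_symm {a b : V} (h : LinearIndependent F ![a, b]) : LinearIndependent F ![b, a] := by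
  rw [LinearIndependent.pair_iff] at h ⊢
  intro s t hst
  have := h t s (by rw [add_comm]; exact hst)
  exact ⟨this.2, this.1⟩

/-- Independence of a non-zero vector and a vector not proportional to it. -/
theorem li2_of_not_smul {a b : V} (ha : a ≠ 0) (hb : ∀ c : F, b ≠ c • a) :
    LinearIndependent F ![a, b] := by
  rw [LinearIndependent.pair_iff]
  intro s t hst
  have ht : t = 0 := by
    by_contra ht
    apply hb (-(t⁻¹ * s))
    have : t • b = -(s • a) := by linear_combination (norm := module) hst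
    calc b = t⁻¹ • (t • b) := by rw [smul_smul, inv_mul_cancel₀ ht, one_smul]
      _ = (-(t⁻¹ * s)) • a := by rw [this]; module
  subst ht
  rw [zero_smul, add_zero] at hst
  exact ⟨(smul_eq_zero.mp hst).resolve_right ha, rfl⟩

theorem not_smul_of_li2 {a b : V} (h : LinearIndependent F ![a, b]) (c : F) : b ≠ c • a := by
  intro hb
  have := (LinearIndependent.pair_iff.mp h) c (-1) (by rw [hb]; module)
  have h1 : (-1 : F) = 0 := this.2
  exact one_ne_zero (neg_eq_zero.mp h1)

theorem mem_span_range_two {a b x : V} :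
    x ∈ Submodule.span F (Set.range ![a, b]) ↔ ∃ s t : F, x = s • a + t • b := by
  rw [Submodule.mem_span_range_iff_exists_fun]
  constructor
  · rintro ⟨c, hc⟩
    exact ⟨c 0, c 1, by rw [← hc, Fin.sum_univ_two]; rfl⟩
  · rintro ⟨s, t, rfl⟩
    exact ⟨![s, t], by rw [Fin.sum_univ_two]; rfl⟩

theorem mem_span_range_one {a x : V} :
    x ∈ Submodule.span F (Set.range ![a]) ↔ ∃ s : F, x = s • a := by
  rw [Submodule.mem_span_range_iff_exists_fun]
  constructor
  · rintro ⟨c, hc⟩
    exact ⟨c 0, by rw [← hc, Fin.sum_univ_one]; rfl⟩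
  · rintro ⟨s, rfl⟩
    exact ⟨![s], by rw [Fin.sum_univ_one]; rfl⟩

/-- A third vector outside the span of an independent pair. -/
theorem li3_of_not_mem {a b c : V} (h : LinearIndependent F ![a, b])
    (hc : ∀ s t : F, c ≠ s • a + t • b) : LinearIndependent F ![a, b, c] := by
  rw [li3_iff]
  intro s t r h0
  have hr : r = 0 := by
    by_contra hr
    apply hc (-(r⁻¹ * s)) (-(r⁻¹ * t))
    have : r • c = -(s • a) - t • b := by linear_combination (norm := module) h0
    calc c = r⁻¹ • (r • c) := by rw [smul_smul, inv_mul_cancel₀ hr, one_smul]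
      _ = (-(r⁻¹ * s)) • a + (-(r⁻¹ * t)) • b := by rw [this]; module
  subst hr
  rw [zero_smul, add_zero] at h0
  have := (LinearIndependent.pair_iff.mp h) s t h0
  exact ⟨this.1, this.2, rfl⟩

end liHelpers

section autoB

variable {ι : Type} [Fintype ι] [DecidableEq ι] {F : Type*} [Field F]
variable (Q : QuadraticForm F (ι → F))

set_option quotPrecheck false in
local notation "φ" => QuadraticMap.polar (⇑Q)

/-- The matrix of an element of `Ω`. -/
def omat (x : ↥(Cfsg.Omega F ⇑Q)) : Matrix ι ι F :=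
  (((x : ↥(Cfsg.isometryGroup F ⇑Q)) : Matrix.GeneralLinearGroup ι F) : Matrix ι ι F)

theorem omat_mul (x y : ↥(Cfsg.Omega F ⇑Q)) : omat Q (x * y) = omat Q x * omat Q y := rfl

theorem omat_one : omat Q 1 = 1 := rfl

theorem omat_injective : Function.Injective (omat Q) := fun _ _ h => Subtype.ext (isom_ext h)

theorem omat_isom (x : ↥(Cfsg.Omega F ⇑Q)) (v : ι → F) : Q (omat Q x *ᵥ v) = Q v :=
  isom_preserves x.1 v

theorem omat_inv_mul (x : ↥(Cfsg.Omega F ⇑Q)) : omat Q x⁻¹ * omat Q x = 1 := by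
  rw [← omat_mul, inv_mul_cancel, omat_one]

theorem omat_mul_inv (x : ↥(Cfsg.Omega F ⇑Q)) : omat Q x * omat Q x⁻¹ = 1 := by
  rw [← omat_mul, mul_inv_cancel, omat_one]

theorem omat_pow (x : ↥(Cfsg.Omega F ⇑Q)) (k : ℕ) : omat Q (x ^ k) = omat Q x ^ k := by
  induction k with
  | zero => rw [pow_zero, pow_zero, omat_one]
  | succ k ih => rw [pow_succ, pow_succ, omat_mul, ih]

theorem omat_isUnit (x : ↥(Cfsg.Omega F ⇑Q)) : IsUnit (omat Q x) :=
  IsUnit.of_mul_eq_one _ (omat_mul_inv Q x)

theorem omat_polar (x : ↥(Cfsg.Omega F ⇑Q)) (v w : ι → F) :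
    φ (omat Q x *ᵥ v) (omat Q x *ᵥ w) = φ v w :=
  polar_mulVec Q _ (omat_isom Q x) v w

/-- An element of `Ω` whose matrix is scalar is central. -/
theorem mem_center_of_omat_smul (z : ↥(Cfsg.Omega F ⇑Q)) (c : F) (hz : omat Q z = c • 1) :
    z ∈ Subgroup.center ↥(Cfsg.Omega F ⇑Q) := by
  rw [Subgroup.mem_center_iff]
  intro g
  apply omat_injective
  rw [omat_mul, omat_mul, hz]
  simp

theorem polar_self_zero {u : ι → F} (hu : Q u = 0) : φ u u = 0 := by
  rw [polar_self_eq, hu, mul_zero]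

theorem eich_apply_self {u w : ι → F} (hu : Q u = 0) (huw : φ u w = 0) :
    eichMat Q u w *ᵥ u = u := by
  rw [eichMat_mulVec, polar_self_zero Q hu, QuadraticMap.polar_comm (⇑Q) w u, huw]
  simp

theorem polar_smul_right_eq (a : F) (x y : ι → F) : φ x (a • y) = a * φ x y := by
  rw [QuadraticMap.polar_smul_right, smul_eq_mul]

theorem polar_smul_left_eq (a : F) (x y : ι → F) : φ (a • x) y = a * φ x y := by
  rw [QuadraticMap.polar_smul_left, smul_eq_mul]

theorem eichMat_pow {u w : ι → F} (hu : Q u = 0) (huw : φ u w = 0) (k : ℕ) :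
    eichMat Q u w ^ k = eichMat Q u ((k : F) • w) := by
  induction k with
  | zero => rw [pow_zero, Nat.cast_zero, zero_smul, eichMat_zero_right]
  | succ k ih =>
    rw [pow_succ, ih, eichMat_mul Q hu (by rw [polar_smul_right_eq, huw, mul_zero]) huw]
    congr 1
    push_cast
    module

/-- Adding a multiple of `u` to the second argument does not change the transformation. -/
theorem eichMat_add_smul {u w : ι → F} (hu : Q u = 0) (huw : φ u w = 0) (c : F) :
    eichMat Q u (w + c • u) = eichMat Q u w := by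
  rw [← eichMat_mul Q hu huw (by rw [polar_smul_right_eq, polar_self_zero Q hu, mul_zero]),
    eichMat_smul_self Q hu, mul_one]

/-- For a singular second argument the transformation is affine in the scalar. -/
theorem eichMat_smul_sing {u v : ι → F} (hv : Q v = 0) (t : F) :
    eichMat Q u (t • v) = 1 + t • (eichMat Q u v - 1) := by
  rw [ext_iff_mulVec]
  intro x
  rw [eichMat_mulVec, add_mulVec, smul_mulVec, sub_mulVec, eichMat_mulVec, one_mulVec,
    QuadraticMap.map_smul, hv, polar_smul_left_eq]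
  simp only [smul_eq_mul, mul_zero, zero_mul, add_zero]
  module

end autoB

section autoB2

variable {ι : Type} [Fintype ι] [DecidableEq ι] {F : Type*} [Field F] [Fintype F]
variable (Q : QuadraticForm F (ι → F)) (hQ : (QuadraticMap.polarBilin Q).Nondegenerate)

set_option quotPrecheck false in
local notation "φ" => QuadraticMap.polar (⇑Q)

/-- The Eichler transformation `E(u, w)` as an element of `Ω` (trivial if `u` is not singular
or `w` is not orthogonal to `u`). -/
noncomputable def eo (hn : 5 ≤ Fintype.card ι) (u w : ι → F) : ↥(Cfsg.Omega F ⇑Q) :=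
  open Classical in
  if h : Q u = 0 ∧ QuadraticMap.polar ⇑Q u w = 0 then
    ⟨eichElt Q hQ u w h.1 h.2, eich_mem_omega Q hQ hn h.1 h.2 _ rfl⟩
  else 1

theorem omat_eo (hn : 5 ≤ Fintype.card ι) {u w : ι → F} (hu : Q u = 0) (huw : φ u w = 0) :
    omat Q (eo Q hQ hn u w) = eichMat Q u w := by
  unfold eo
  rw [dif_pos ⟨hu, huw⟩]
  rfl

theorem eo_isPElt (hn : 5 ≤ Fintype.card ι) (p : ℕ) [CharP F p] (u w : ι → F) :
    IsPElt p (eo Q hQ hn u w) := by
  by_cases h : Q u = 0 ∧ QuadraticMap.polar ⇑Q u w = 0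
  · refine ⟨1, ?_⟩
    apply omat_injective
    rw [omat_pow, omat_eo Q hQ hn h.1 h.2, pow_one, eichMat_pow Q h.1 h.2, CharP.cast_eq_zero,
      zero_smul, eichMat_zero_right, omat_one]
  · unfold eo
    rw [dif_neg h]
    exact IsPElt.one p

theorem eo_mul (hn : 5 ≤ Fintype.card ι) {u w w' : ι → F} (hu : Q u = 0) (huw : φ u w = 0)
    (huw' : φ u w' = 0) :
    eo Q hQ hn u w * eo Q hQ hn u w' = eo Q hQ hn u (w + w') := by
  apply omat_injective
  rw [omat_mul, omat_eo Q hQ hn hu huw, omat_eo Q hQ hn hu huw',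
    omat_eo Q hQ hn hu (by rw [QuadraticMap.polar_add_right, huw, huw', add_zero]),
    eichMat_mul Q hu huw huw']

/-- Conjugating an Eichler element by an element of `Ω`. -/
theorem eo_conj (hn : 5 ≤ Fintype.card ι) (g : ↥(Cfsg.Omega F ⇑Q)) {u w : ι → F} (hu : Q u = 0)
    (huw : φ u w = 0) :
    g * eo Q hQ hn u w * g⁻¹ = eo Q hQ hn (omat Q g *ᵥ u) (omat Q g *ᵥ w) := by
  rw [mul_inv_eq_iff_eq_mul]
  apply omat_injective
  rw [omat_mul, omat_mul, omat_eo Q hQ hn hu huw,
    omat_eo Q hQ hn (by rw [omat_isom]; exact hu) (by rw [omat_polar]; exact huw)]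
  exact eichMat_conj Q _ (omat_isom Q g) u w

include hQ

/-- Prescribing one polar value. -/
theorem exists_polar1 {a : ι → F} (ha : a ≠ 0) (c : F) : ∃ x, φ a x = c := by
  obtain ⟨x, hx⟩ := exists_polar_eq Q hQ ![a] (li_one ha) ![c]
  exact ⟨x, by simpa using hx 0⟩

theorem exists_polar2 {a b : ι → F} (h : LinearIndependent F ![a, b]) (c₁ c₂ : F) :
    ∃ x, φ a x = c₁ ∧ φ b x = c₂ := by
  obtain ⟨x, hx⟩ := exists_polar_eq Q hQ ![a, b] h ![c₁, c₂]
  exact ⟨x, by simpa using hx 0, by simpa using hx 1⟩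

theorem exists_polar3 {a b c : ι → F} (h : LinearIndependent F ![a, b, c]) (c₁ c₂ c₃ : F) :
    ∃ x, φ a x = c₁ ∧ φ b x = c₂ ∧ φ c x = c₃ := by
  obtain ⟨x, hx⟩ := exists_polar_eq Q hQ ![a, b, c] h ![c₁, c₂, c₃]
  exact ⟨x, by simpa using hx 0, by simpa using hx 1, by simpa using hx 2⟩

theorem exists_polar4 {a b c d : ι → F} (h : LinearIndependent F ![a, b, c, d])
    (c₁ c₂ c₃ c₄ : F) : ∃ x, φ a x = c₁ ∧ φ b x = c₂ ∧ φ c x = c₃ ∧ φ d x = c₄ := by
  obtain ⟨x, hx⟩ := exists_polar_eq Q hQ ![a, b, c, d] h ![c₁, c₂, c₃, c₄]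
  exact ⟨x, by simpa using hx 0, by simpa using hx 1, by simpa using hx 2, by simpa using hx 3⟩

/-- A singular vector orthogonal to a family and outside a subspace, by dimension count. -/
theorem exists_sing_orth {k : ℕ} (v : Fin k → ι → F) (B : Submodule F (ι → F))
    (hk : finrank F B + k + 3 ≤ Fintype.card ι) :
    ∃ d, Q d = 0 ∧ (∀ i, φ (v i) d = 0) ∧ d ∉ B := by
  have h1 : finrank F (Submodule.span F (Set.range v)) ≤ k := by
    have := finrank_range_le_card (R := F) v
    rwa [Fintype.card_fin] at this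
  have h2 := Cfsg.Agent.Lib.Helper44.finrank_orth_ge Q hQ (Submodule.span F (Set.range v)) h1
  obtain ⟨d, hd, hdB, hQd⟩ := exists_sing_notMem Q
    (Cfsg.Agent.Lib.Helper44.orth Q (Submodule.span F (Set.range v))) B (by omega)
  refine ⟨d, hQd, fun i => ?_, hdB⟩
  rw [Cfsg.Agent.Lib.Helper44.mem_orth_iff] at hd
  exact hd (v i) (Submodule.subset_span ⟨i, rfl⟩)

/-- A hyperbolic partner of a non-zero singular vector. -/
theorem exists_hyp_partner (hn : 5 ≤ Fintype.card ι) {u : ι → F} (hu0 : u ≠ 0) :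
    ∃ u', Q u' = 0 ∧ φ u u' = 1 := by
  obtain ⟨v', hv', h⟩ := exists_sing_polar_eq Q hQ ![u] (li_one hu0) ![1] (by omega)
  exact ⟨v', hv', by simpa using h 0⟩

/-- The vectors fixed by all `E(u, w)` are the multiples of `u`. -/
theorem fix_eich (hn : 5 ≤ Fintype.card ι) {u : ι → F} (hu0 : u ≠ 0) {x : ι → F}
    (hx : ∀ w, φ u w = 0 → eichMat Q u w *ᵥ x = x) : ∃ c : F, x = c • u := by
  obtain ⟨d, hd, hdu, hdn⟩ := exists_sing_orth Q hQ ![u] (Submodule.span F {u})
    (by
      have := Cfsg.Agent.Lib.Helper44.finrank_span_singleton_le_one (F := F) u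
      omega)
  have hud : φ u d = 0 := by simpa using hdu 0
  have h1 := hx d hud
  rw [eichMat_mulVec, hd, zero_mul, add_zero, add_sub_assoc, add_eq_left, sub_eq_zero] at h1
  have hux : φ u x = 0 := by
    by_contra hne
    apply hdn
    refine Submodule.mem_span_singleton.mpr ⟨(φ u x)⁻¹ * φ d x, ?_⟩
    rw [mul_smul, ← h1, smul_smul, inv_mul_cancel₀ hne, one_smul]
  have hperp : ∀ w, φ u w = 0 → φ w x = 0 := by
    intro w hw
    have h3 := hx w hw
    rw [eichMat_mulVec, hux, zero_smul, add_zero, mul_zero, add_zero, sub_eq_self] at h3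
    exact (smul_eq_zero.mp h3).resolve_right hu0
  by_contra hcon
  push Not at hcon
  have hli : LinearIndependent F ![u, x] := li2_of_not_smul hu0 hcon
  obtain ⟨y, hy1, hy0⟩ := exists_polar2 Q hQ hli 0 1
  have := hperp y hy1
  rw [QuadraticMap.polar_comm] at this
  rw [this] at hy0
  exact zero_ne_one hy0

/-- `E(u, w₁) = E(u, w₂)` forces `w₁ ≡ w₂` modulo `u`. -/
theorem eich_inj {u w₁ w₂ : ι → F} (hu0 : u ≠ 0)
    (h : eichMat Q u w₁ = eichMat Q u w₂) : ∃ b : F, w₁ = w₂ + b • u := by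
  obtain ⟨x, hx⟩ := exists_polar1 Q hQ hu0 1
  have := congrArg (· *ᵥ x) h
  simp only [eichMat_mulVec, hx, one_smul, mul_one] at this
  exact ⟨(φ w₁ x + Q w₁) - (φ w₂ x + Q w₂), by linear_combination (norm := module) this⟩

theorem eich_eq_one {u w : ι → F} (hu0 : u ≠ 0) (h : eichMat Q u w = 1) :
    ∃ b : F, w = b • u := by
  rw [← eichMat_zero_right Q u] at h
  obtain ⟨b, hb⟩ := eich_inj Q hQ hu0 h
  exact ⟨b, by rw [hb, zero_add]⟩

end autoB2

end Cfsg.Agent.Lib.Helper14
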