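import Mathlib
import Cfsg.Agent.Lib.Helper14.AutOB

/-!
# Automorphisms of orthogonal groups: long root elements via Sylow centres
-/

set_option autoImplicit false

namespace Cfsg.Agent.Lib.Helper14

open Matrix Module

section tsp

variable {ι : Type} [Fintype ι] [DecidableEq ι] {F : Type*} [Field F]
variable (Q : QuadraticForm F (ι → F))

set_option quotPrecheck false in
local notation "φ" => QuadraticMap.polar (⇑Q)

/-- A totally singular pair: two independent, mutually orthogonal singular vectors. -/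
def TSP (a b : ι → F) : Prop :=
  Q a = 0 ∧ Q b = 0 ∧ QuadraticMap.polar ⇑Q a b = 0 ∧ LinearIndependent F ![a, b]

variable {Q}

theorem TSP.smul_right {a b : ι → F} (h : TSP Q a b) {t : F} (ht : t ≠ 0) : TSP Q a (t • b) := by
  obtain ⟨ha, hb, hab, hli⟩ := h
  refine ⟨ha, by rw [QuadraticMap.map_smul, hb, smul_zero],
    by rw [polar_smul_right_eq, hab, mul_zero], ?_⟩
  rw [LinearIndependent.pair_iff] at hli ⊢
  intro s r hsr
  have := hli s (r * t) (by rw [← hsr, mul_smul])
  exact ⟨this.1, (mul_eq_zero.mp this.2).resolve_right ht⟩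

theorem TSP.map {a b : ι → F} (h : TSP Q a b) (G : Matrix ι ι F) (hG : ∀ x, Q (G *ᵥ x) = Q x)
    (hU : IsUnit G) : TSP Q (G *ᵥ a) (G *ᵥ b) := by
  obtain ⟨ha, hb, hab, hli⟩ := h
  refine ⟨by rw [hG, ha], by rw [hG, hb], by rw [polar_mulVec Q G hG, hab], ?_⟩
  rw [LinearIndependent.pair_iff] at hli ⊢
  intro s r hsr
  apply hli s r
  apply mulVec_injective_iff_isUnit.mpr hU
  rw [mulVec_add, mulVec_smul, mulVec_smul, hsr, mulVec_zero]

theorem TSP.symm {a b : ι → F} (h : TSP Q a b) : TSP Q b a := by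
  obtain ⟨ha, hb, hab, hli⟩ := h
  exact ⟨hb, ha, by rw [QuadraticMap.polar_comm]; exact hab, li2_symm hli⟩

end tsp

section autoC

variable {ι : Type} [Fintype ι] [DecidableEq ι] {F : Type*} [Field F] [Fintype F]
variable (Q : QuadraticForm F (ι → F)) (hQ : (QuadraticMap.polarBilin Q).Nondegenerate)

set_option quotPrecheck false in
local notation "φ" => QuadraticMap.polar (⇑Q)

include hQ

theorem exists_perp_nonsing (hn : 3 ≤ Fintype.card ι) (u : ι → F) :
    ∃ w, φ u w = 0 ∧ Q w ≠ 0 := by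
  have h1 := finrank_le_ker_add_one (QuadraticMap.polarBilin Q u)
  rw [Module.finrank_fintype_fun_eq_card] at h1
  obtain ⟨z, hz, hQz⟩ := exists_nonsingular_of_finrank hQ
    (X := LinearMap.ker (QuadraticMap.polarBilin Q u))
    (by rw [Module.finrank_fintype_fun_eq_card]; omega)
  exact ⟨z, LinearMap.mem_ker.mp hz, hQz⟩

/-- Every non-zero singular vector lies in a totally singular pair. -/
theorem exists_tsp_of (hn : 5 ≤ Fintype.card ι) {a : ι → F} (ha0 : a ≠ 0) (ha : Q a = 0) :
    ∃ b, TSP Q a b := by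
  obtain ⟨d, hd, hdu, hdn⟩ := exists_sing_orth Q hQ ![a] (Submodule.span F {a})
    (by
      have := Cfsg.Agent.Lib.Helper44.finrank_span_singleton_le_one (F := F) a
      omega)
  refine ⟨d, ha, hd, by simpa using hdu 0, li2_of_not_smul ha0 ?_⟩
  intro c hc
  exact hdn (Submodule.mem_span_singleton.mpr ⟨c, hc.symm⟩)

theorem exists_sing_ne_zero (hn : 3 ≤ Fintype.card ι) : ∃ a : ι → F, a ≠ 0 ∧ Q a = 0 := by
  obtain ⟨d, hd, -, hdn⟩ := exists_sing_orth Q hQ ![] ⊥ (by rw [finrank_bot]; omega)
  exact ⟨d, fun h => hdn (by rw [h]; exact Submodule.zero_mem _), hd⟩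

theorem exists_tsp (hn : 5 ≤ Fintype.card ι) : ∃ a b : ι → F, TSP Q a b := by
  obtain ⟨a, ha0, ha⟩ := exists_sing_ne_zero Q hQ (by omega)
  obtain ⟨b, hb⟩ := exists_tsp_of Q hQ hn ha0 ha
  exact ⟨a, b, hb⟩

/-- A totally singular subspace of dimension three. -/
theorem exists_ts3 (hn : 7 ≤ Fintype.card ι) :
    ∃ E : Submodule F (ι → F), 3 ≤ finrank F E ∧ ∀ x ∈ E, Q x = 0 := by
  obtain ⟨a, b, ha, hb, hab, hli⟩ := exists_tsp Q hQ (by omega)
  obtain ⟨c, hc, hcperp, hcn⟩ := exists_sing_orth Q hQ ![a, b]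
    (Submodule.span F (Set.range ![a, b]))
    (by
      have := finrank_range_le_card (R := F) ![a, b]
      simp only [Fintype.card_fin] at this
      have h' : finrank F (Submodule.span F (Set.range ![a, b])) ≤ 2 := this
      omega)
  have hac : φ a c = 0 := by simpa using hcperp 0
  have hbc : φ b c = 0 := by simpa using hcperp 1
  have hli3 : LinearIndependent F ![a, b, c] := by
    apply li3_of_not_mem hli
    intro s t hst
    exact hcn (mem_span_range_two.mpr ⟨s, t, hst⟩)
  refine ⟨Submodule.span F (Set.range ![a, b, c]), ?_, ?_⟩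
  · rw [finrank_span_eq_card hli3, Fintype.card_fin]
  · intro x hx
    rw [Submodule.mem_span_range_iff_exists_fun] at hx
    obtain ⟨g, rfl⟩ := hx
    rw [Fin.sum_univ_three]
    simp only [Matrix.cons_val_zero, Matrix.cons_val_one, Matrix.cons_val_two, Matrix.head_cons,
      Matrix.tail_cons]
    rw [QuadraticMap.map_add (⇑Q), QuadraticMap.map_add (⇑Q), QuadraticMap.map_smul,
      QuadraticMap.map_smul, QuadraticMap.map_smul, ha, hb, hc, QuadraticMap.polar_add_left,
      polar_smul_left_eq, polar_smul_left_eq, polar_smul_left_eq, polar_smul_right_eq,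
      polar_smul_right_eq, polar_smul_right_eq, hab, hac, hbc]
    simp

/-- The centre of `Ω` contains no non-trivial elements of `p`-power order. -/
theorem omega_center_pElt (hn : 7 ≤ Fintype.card ι) (p : ℕ) [Fact p.Prime] [CharP F p]
    (z : ↥(Cfsg.Omega F ⇑Q)) (hz : z ∈ Subgroup.center ↥(Cfsg.Omega F ⇑Q)) (hp : IsPElt p z) :
    z = 1 := by
  obtain ⟨E, hE, hE0⟩ := exists_ts3 Q hQ hn
  apply omat_injective
  rw [omat_one]
  rcases center_omega_coe Q hQ E hE hE0 z hz with h | h
  · exact h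
  · change omat Q z = -1 at h
    obtain ⟨k, hk⟩ := hp
    have h2 := congrArg (omat Q) hk
    rw [omat_pow, omat_one, h] at h2
    rcases (Fact.out : p.Prime).eq_two_or_odd' with h3 | h3
    · have h4 : (2 : F) = 0 := by
        have := CharP.cast_eq_zero F p
        rw [h3] at this
        exact_mod_cast this
      have h5 : (-1 : F) = 1 := by linear_combination -h4
      rw [h]
      calc (-1 : Matrix ι ι F) = (-1 : F) • (1 : Matrix ι ι F) := by rw [neg_one_smul]
        _ = 1 := by rw [h5, one_smul]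
    · rw [(h3.pow).neg_one_pow] at h2
      rw [h]
      exact h2

/-- The centraliser of `Q_u` and of the `E(v, w)` with `w ⊥ u, v`. -/
theorem centralizer_core (hn : 7 ≤ Fintype.card ι) {u v : ι → F} (huv : TSP Q u v)
    (G : Matrix ι ι F) (hG : ∀ x, Q (G *ᵥ x) = Q x)
    (h1 : ∀ w, φ u w = 0 → G * eichMat Q u w = eichMat Q u w * G)
    (h2 : ∀ w, φ u w = 0 → φ v w = 0 → G * eichMat Q v w = eichMat Q v w * G) :
    ∃ c t : F, c * c = 1 ∧ G = c • eichMat Q u (t • v) := by
  obtain ⟨hu, hv, huv0, hli⟩ := huv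
  have hu0 : u ≠ 0 := li2_ne_zero_left hli
  have hGu : IsUnit G := isUnit_of_isometry Q hQ G hG
  have hGpol : ∀ a b, φ (G *ᵥ a) (G *ᵥ b) = φ a b := polar_mulVec Q G hG
  -- step 1: `G u` is a multiple of `u`
  have hfix : ∀ w, φ u w = 0 → eichMat Q u w *ᵥ (G *ᵥ u) = G *ᵥ u := by
    intro w hw
    rw [mulVec_mulVec, ← h1 w hw, ← mulVec_mulVec, eich_apply_self Q hu hw]
  obtain ⟨c, hc⟩ := fix_eich Q hQ (by omega) hu0 hfix
  have hc0 : c ≠ 0 := by
    rintro rfl
    rw [zero_smul] at hc
    have hinj := mulVec_injective_iff_isUnit.mpr hGu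
    exact hu0 (hinj (by rw [hc, mulVec_zero]))
  -- step 2
  have hstep2 : ∀ w, φ u w = 0 → ∃ b : F, c • (G *ᵥ w) = w + b • u := by
    intro w hw
    have e1 : G * eichMat Q u w = eichMat Q u (c • (G *ᵥ w)) * G := by
      rw [eichMat_conj Q G hG, hc, eichMat_smul_left]
    have e2 : eichMat Q u (c • (G *ᵥ w)) = eichMat Q u w :=
      hGu.mul_left_injective (e1.symm.trans (h1 w hw))
    exact eich_inj Q hQ hu0 e2
  -- step 3
  obtain ⟨w₀, hw₀u, hw₀Q⟩ := exists_perp_nonsing Q hQ (by omega) u
  have hcc : c * c = 1 := by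
    obtain ⟨b, hb⟩ := hstep2 w₀ hw₀u
    have h3 := congrArg Q hb
    rw [QuadraticMap.map_smul, hG, QuadraticMap.map_add (⇑Q) w₀ (b • u), QuadraticMap.map_smul,
      hu, polar_smul_right_eq, QuadraticMap.polar_comm (⇑Q) w₀ u, hw₀u] at h3
    simp only [smul_eq_mul, mul_zero, add_zero] at h3
    have h4 : (c * c - 1) * Q w₀ = 0 := by linear_combination h3
    rcases mul_eq_zero.mp h4 with h | h
    · linear_combination h
    · exact absurd h hw₀Q
  have hcGu : c • (G *ᵥ u) = u := by rw [hc, smul_smul, hcc, one_smul]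
  -- step 4
  obtain ⟨u', hu', huu'⟩ := exists_hyp_partner Q hQ (by omega) hu0
  obtain ⟨y, hy⟩ : ∃ y, c • (G *ᵥ u') = u' + y := ⟨c • (G *ᵥ u') - u', by abel⟩
  have huy : φ u y = 0 := by
    have e : φ u (c • (G *ᵥ u')) = 1 := by
      rw [polar_smul_right_eq, ← polar_smul_left_eq, ← hc, hGpol, huu']
    rw [hy, QuadraticMap.polar_add_right, huu'] at e
    linear_combination e
  have hQy : Q y = - φ u' y := by
    have e := congrArg Q hy
    rw [QuadraticMap.map_smul, hG, hu', QuadraticMap.map_add (⇑Q) u' y, hu'] at e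
    simp only [smul_eq_mul, mul_zero, zero_add] at e
    linear_combination -e
  have key : c • G = eichMat Q u y := by
    rw [ext_iff_mulVec]
    intro x
    obtain ⟨s, hs⟩ : ∃ s, s = φ u' x := ⟨_, rfl⟩
    obtain ⟨t, ht⟩ : ∃ t, t = φ u x := ⟨_, rfl⟩
    obtain ⟨x₀, hx₀⟩ : ∃ x₀, x₀ = x - s • u - t • u' := ⟨_, rfl⟩
    have hx : x = s • u + t • u' + x₀ := by rw [hx₀]; abel
    have hx₀u : φ u x₀ = 0 := by
      rw [hx₀, QuadraticMap.polar_sub_right, QuadraticMap.polar_sub_right, polar_smul_right_eq,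
        polar_smul_right_eq, polar_self_zero Q hu, huu', ← ht]
      ring
    have hx₀u' : φ u' x₀ = 0 := by
      rw [hx₀, QuadraticMap.polar_sub_right, QuadraticMap.polar_sub_right, polar_smul_right_eq,
        polar_smul_right_eq, polar_self_zero Q hu', QuadraticMap.polar_comm (⇑Q) u' u, huu', ← hs]
      ring
    obtain ⟨b, hb⟩ := hstep2 x₀ hx₀u
    have hb' : b = - φ x₀ y := by
      have e1 : φ (c • (G *ᵥ x₀)) (c • (G *ᵥ u')) = 0 := by
        rw [polar_smul_left_eq, polar_smul_right_eq, hGpol, QuadraticMap.polar_comm (⇑Q) x₀ u',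
          hx₀u']
        ring
      rw [hb, hy, QuadraticMap.polar_add_left, QuadraticMap.polar_add_right,
        QuadraticMap.polar_add_right, polar_smul_left_eq, polar_smul_left_eq, huu', huy,
        QuadraticMap.polar_comm (⇑Q) x₀ u', hx₀u'] at e1
      linear_combination e1
    have hyx : φ y x = t * φ u' y + φ x₀ y := by
      conv_lhs => rw [hx]
      rw [QuadraticMap.polar_add_right, QuadraticMap.polar_add_right, polar_smul_right_eq,
        polar_smul_right_eq, QuadraticMap.polar_comm (⇑Q) y u, huy,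
        QuadraticMap.polar_comm (⇑Q) y u', QuadraticMap.polar_comm (⇑Q) y x₀]
      ring
    have hL : (c • G) *ᵥ x = s • u + t • (u' + y) + (x₀ + b • u) := by
      rw [smul_mulVec]
      conv_lhs => rw [hx]
      rw [mulVec_add, mulVec_add, mulVec_smul, mulVec_smul, smul_add, smul_add, smul_comm c s,
        smul_comm c t, hcGu, hy, hb]
    rw [hL, eichMat_mulVec, hyx, ← ht, hQy, hb']
    conv_rhs => rw [hx]
    module
  have hG' : G = c • eichMat Q u y := by rw [← key, smul_smul, hcc, one_smul]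
  -- step 5
  obtain ⟨d, hd, hdperp, hdn⟩ := exists_sing_orth Q hQ ![u, v]
    (Submodule.span F (Set.range ![u, v]))
    (by
      have := finrank_range_le_card (R := F) ![u, v]
      simp only [Fintype.card_fin] at this
      have h' : finrank F (Submodule.span F (Set.range ![u, v])) ≤ 2 := this
      omega)
  have hdu : φ u d = 0 := by simpa using hdperp 0
  have hdv : φ v d = 0 := by simpa using hdperp 1
  have hvu : φ v u = 0 := by rw [QuadraticMap.polar_comm]; exact huv0
  have hcomm : ∀ w, φ u w = 0 → φ v w = 0 →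
      ∃ b : F, φ v y • w - (φ w y + Q w * φ v y) • v = b • u := by
    intro w hwu hwv
    have hiso := eichMat_isometry Q hv hwv
    have e := h2 w hwu hwv
    rw [hG', smul_mul_assoc, mul_smul_comm] at e
    have e' : eichMat Q u y * eichMat Q v w = eichMat Q v w * eichMat Q u y :=
      smul_right_injective _ hc0 e
    have hEu : eichMat Q v w *ᵥ u = u := by
      rw [eichMat_mulVec, hvu, QuadraticMap.polar_comm (⇑Q) w u, hwu]
      simp
    have e2 := eichMat_conj Q (eichMat Q v w) hiso u y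
    rw [hEu] at e2
    have e3 : eichMat Q u y = eichMat Q u (eichMat Q v w *ᵥ y) :=
      (isUnit_of_isometry Q hQ _ hiso).mul_left_injective (e'.trans e2)
    obtain ⟨b, hb⟩ := eich_inj Q hQ hu0 e3.symm
    rw [eichMat_mulVec] at hb
    exact ⟨b, by linear_combination (norm := module) hb⟩
  have hvy : φ v y = 0 := by
    by_contra hne
    obtain ⟨b, hb⟩ := hcomm d hdu hdv
    rw [hd, zero_mul, add_zero] at hb
    apply hdn
    rw [mem_span_range_two]
    refine ⟨(φ v y)⁻¹ * b, (φ v y)⁻¹ * φ d y, ?_⟩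
    have h3 : φ v y • d = b • u + φ d y • v := by linear_combination (norm := module) hb
    calc d = (φ v y)⁻¹ • (φ v y • d) := by rw [smul_smul, inv_mul_cancel₀ hne, one_smul]
      _ = ((φ v y)⁻¹ * b) • u + ((φ v y)⁻¹ * φ d y) • v := by rw [h3]; module
  have hperp : ∀ w, φ u w = 0 → φ v w = 0 → φ w y = 0 := by
    intro w hwu hwv
    obtain ⟨b, hb⟩ := hcomm w hwu hwv
    rw [hvy, zero_smul, mul_zero, add_zero, zero_sub] at hb
    have := (LinearIndependent.pair_iff.mp hli) b (φ w y)
      (by linear_combination (norm := module) (-1 : F) • hb)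
    exact this.2
  have hymem : ∃ s t : F, y = s • u + t • v := by
    by_contra hcon
    push Not at hcon
    have hli3 : LinearIndependent F ![u, v, y] := li3_of_not_mem hli hcon
    obtain ⟨w, hw1, hw2, hw3⟩ := exists_polar3 Q hQ hli3 0 0 1
    have := hperp w hw1 hw2
    rw [QuadraticMap.polar_comm] at this
    rw [this] at hw3
    exact zero_ne_one hw3
  obtain ⟨s, t, hst⟩ := hymem
  refine ⟨c, t, hcc, ?_⟩
  rw [hG', hst, add_comm, eichMat_add_smul Q hu (by rw [polar_smul_right_eq, huv0, mul_zero])]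

end autoC

end Cfsg.Agent.Lib.Helper14
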