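import Mathlib
import Cfsg.Agent.Lib.Helper14.AutOC

/-!
# Automorphisms of orthogonal groups: the long root elements are the non-trivial elements of the
centres of the Sylow `p`-subgroups
-/

set_option autoImplicit false

namespace Cfsg.Agent.Lib.Helper14

open Matrix Module

theorem sylow_mem_smul_iff (G : Type*) [Group G] (p : ℕ) (S : Sylow p G) (g x : G) :
    x ∈ g • S ↔ g⁻¹ * x * g ∈ S := by
  rw [Sylow.smul_def]
  show x ∈ ((MulAut.conj g • S : Sylow p G) : Subgroup G) ↔ _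
  rw [Sylow.pointwise_smul_def, Subgroup.mem_pointwise_smul_iff_inv_smul_mem]
  simp [MulAut.smul_def, mul_assoc]
  rfl

section autoD

variable {ι : Type} [Fintype ι] [DecidableEq ι] {F : Type*} [Field F] [Fintype F]
variable (Q : QuadraticForm F (ι → F)) (hQ : (QuadraticMap.polarBilin Q).Nondegenerate)

set_option quotPrecheck false in
local notation "φ" => QuadraticMap.polar (⇑Q)

/-- The projection `Ω → PΩ`. -/
def pim : ↥(Cfsg.Omega F ⇑Q) →* Cfsg.POmega F ⇑Q := QuotientGroup.mk' _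

theorem pim_apply (x : ↥(Cfsg.Omega F ⇑Q)) :
    pim Q x = (QuotientGroup.mk x : Cfsg.POmega F ⇑Q) := rfl

theorem pim_surjective : Function.Surjective (pim Q) := QuotientGroup.mk_surjective

theorem eo_zero (hn5 : 5 ≤ Fintype.card ι) (a : ι → F) : eo Q hQ hn5 a 0 = 1 := by
  by_cases h : Q a = 0 ∧ QuadraticMap.polar ⇑Q a 0 = 0
  · apply omat_injective
    rw [omat_eo Q hQ hn5 h.1 h.2, eichMat_zero_right, omat_one]
  · unfold eo
    rw [dif_neg h]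

/-- The subgroup `{E(a, w) : w ∈ W}` of `Ω`. -/
noncomputable def radSub (hn5 : 5 ≤ Fintype.card ι) (a : ι → F) (ha : Q a = 0)
    (W : Submodule F (ι → F)) (hW : ∀ w ∈ W, QuadraticMap.polar ⇑Q a w = 0) :
    Subgroup ↥(Cfsg.Omega F ⇑Q) where
  carrier := {x | ∃ w ∈ W, x = eo Q hQ hn5 a w}
  mul_mem' := by
    rintro _ _ ⟨w, hw, rfl⟩ ⟨w', hw', rfl⟩
    exact ⟨w + w', W.add_mem hw hw', eo_mul Q hQ hn5 ha (hW w hw) (hW w' hw')⟩
  one_mem' := ⟨0, W.zero_mem, (eo_zero Q hQ hn5 a).symm⟩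
  inv_mem' := by
    rintro _ ⟨w, hw, rfl⟩
    refine ⟨-w, W.neg_mem hw, ?_⟩
    apply inv_eq_of_mul_eq_one_right
    rw [eo_mul Q hQ hn5 ha (hW w hw) (hW _ (W.neg_mem hw)), add_neg_cancel, eo_zero]

theorem radSub_isPGroup (hn5 : 5 ≤ Fintype.card ι) (p : ℕ) [CharP F p] (a : ι → F) (ha : Q a = 0)
    (W : Submodule F (ι → F)) (hW : ∀ w ∈ W, QuadraticMap.polar ⇑Q a w = 0) :
    IsPGroup p ↥(radSub Q hQ hn5 a ha W hW) := by
  rintro ⟨x, w, hw, rfl⟩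
  obtain ⟨k, hk⟩ := eo_isPElt Q hQ hn5 p a w
  exact ⟨k, Subtype.ext (by simpa using hk)⟩

/-- `Q_u = {E(u, w) : w ⊥ u}`. -/
noncomputable def radU (hn5 : 5 ≤ Fintype.card ι) (u : ι → F) (hu : Q u = 0) :
    Subgroup ↥(Cfsg.Omega F ⇑Q) :=
  radSub Q hQ hn5 u hu (LinearMap.ker (QuadraticMap.polarBilin Q u))
    (fun _ hw => LinearMap.mem_ker.mp hw)

/-- `{E(v, w) : w ⊥ u, v}`. -/
noncomputable def radUV (hn5 : 5 ≤ Fintype.card ι) (u v : ι → F) (hv : Q v = 0) :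
    Subgroup ↥(Cfsg.Omega F ⇑Q) :=
  radSub Q hQ hn5 v hv (LinearMap.ker (QuadraticMap.polarBilin Q u) ⊓
    LinearMap.ker (QuadraticMap.polarBilin Q v)) (fun _ hw => LinearMap.mem_ker.mp hw.2)

theorem mem_radU (hn5 : 5 ≤ Fintype.card ι) (u : ι → F) (hu : Q u = 0)
    (x : ↥(Cfsg.Omega F ⇑Q)) :
    x ∈ radU Q hQ hn5 u hu ↔ ∃ w, φ u w = 0 ∧ x = eo Q hQ hn5 u w := by
  constructor
  · rintro ⟨w, hw, rfl⟩
    exact ⟨w, LinearMap.mem_ker.mp hw, rfl⟩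
  · rintro ⟨w, hw, rfl⟩
    exact ⟨w, LinearMap.mem_ker.mpr hw, rfl⟩

theorem mem_radUV (hn5 : 5 ≤ Fintype.card ι) (u v : ι → F) (hv : Q v = 0)
    (x : ↥(Cfsg.Omega F ⇑Q)) :
    x ∈ radUV Q hQ hn5 u v hv ↔ ∃ w, φ u w = 0 ∧ φ v w = 0 ∧ x = eo Q hQ hn5 v w := by
  constructor
  · rintro ⟨w, hw, rfl⟩
    exact ⟨w, LinearMap.mem_ker.mp hw.1, LinearMap.mem_ker.mp hw.2, rfl⟩
  · rintro ⟨w, hw1, hw2, rfl⟩
    exact ⟨w, ⟨LinearMap.mem_ker.mpr hw1, LinearMap.mem_ker.mpr hw2⟩, rfl⟩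

theorem radUV_le_normalizer (hn5 : 5 ≤ Fintype.card ι) {u v : ι → F} (huv : TSP Q u v) :
    radUV Q hQ hn5 u v huv.2.1 ≤
      Subgroup.normalizer (radU Q hQ hn5 u huv.1 : Set ↥(Cfsg.Omega F ⇑Q)) := by
  have hvu : φ v u = 0 := by rw [QuadraticMap.polar_comm]; exact huv.2.2.1
  have key : ∀ y ∈ radUV Q hQ hn5 u v huv.2.1, ∀ h ∈ radU Q hQ hn5 u huv.1,
      y * h * y⁻¹ ∈ radU Q hQ hn5 u huv.1 := by
    intro y hy h hh
    rw [mem_radUV] at hy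
    rw [mem_radU] at hh ⊢
    obtain ⟨w', hw'u, hw'v, rfl⟩ := hy
    obtain ⟨w, hw, rfl⟩ := hh
    have hYu : omat Q (eo Q hQ hn5 v w') *ᵥ u = u := by
      rw [omat_eo Q hQ hn5 huv.2.1 hw'v, eichMat_mulVec, hvu, QuadraticMap.polar_comm (⇑Q) w' u,
        hw'u]
      simp
    refine ⟨omat Q (eo Q hQ hn5 v w') *ᵥ w, ?_, ?_⟩
    · have := omat_polar Q (eo Q hQ hn5 v w') u w
      rw [hYu] at this
      rw [this]
      exact hw
    · rw [eo_conj Q hQ hn5 _ huv.1 hw, hYu]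
  intro y hy
  rw [Subgroup.mem_normalizer_iff]
  intro h
  constructor
  · exact key y hy h
  · intro hh
    have := key y⁻¹ (Subgroup.inv_mem _ hy) _ hh
    simpa [mul_assoc] using this

theorem radT_isPGroup (hn5 : 5 ≤ Fintype.card ι) (p : ℕ) [CharP F p] {u v : ι → F}
    (huv : TSP Q u v) :
    IsPGroup p ↥(radUV Q hQ hn5 u v huv.2.1 ⊔ radU Q hQ hn5 u huv.1) :=
  IsPGroup.to_sup_of_normal_right' (radSub_isPGroup Q hQ hn5 p _ _ _ _)
    (radSub_isPGroup Q hQ hn5 p _ _ _ _) (radUV_le_normalizer Q hQ hn5 huv)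

theorem five_le {n : ℕ} (hn : 7 ≤ n) : 5 ≤ n := by omega

/-- A Sylow `p`-subgroup whose centre consists of the long root elements of one line. -/
theorem exists_sylow_tsp (hn : 7 ≤ Fintype.card ι) (p : ℕ) [Fact p.Prime] [CharP F p]
    {u v : ι → F} (huv : TSP Q u v) :
    ∃ S : Sylow p (Cfsg.POmega F ⇑Q), pim Q (eo Q hQ (five_le hn) u v) ∈ S ∧
      (∀ Y ∈ S, pim Q (eo Q hQ (five_le hn) u v) * Y = Y * pim Q (eo Q hQ (five_le hn) u v)) ∧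
      ∀ X ∈ S, (∀ Y ∈ S, X * Y = Y * X) →
        ∃ t : F, X = pim Q (eo Q hQ (five_le hn) u (t • v)) := by
  have hn5 := five_le hn
  have ⟨hu, hv, huv0, hli⟩ := huv
  have hT := radT_isPGroup Q hQ hn5 p huv
  obtain ⟨S, hS⟩ := (hT.map (pim Q)).exists_le_sylow
  have hmemT : ∀ t, t ∈ radUV Q hQ hn5 u v huv.2.1 ⊔ radU Q hQ hn5 u huv.1 → pim Q t ∈ S :=
    fun t ht => hS (Subgroup.mem_map_of_mem _ ht)
  have hmem1 : ∀ w, φ u w = 0 → pim Q (eo Q hQ hn5 u w) ∈ S := fun w hw =>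
    hmemT _ (Subgroup.mem_sup_right ((mem_radU Q hQ hn5 u huv.1 _).mpr ⟨w, hw, rfl⟩))
  have hmem2 : ∀ w, φ u w = 0 → φ v w = 0 → pim Q (eo Q hQ hn5 v w) ∈ S := fun w hw hw' =>
    hmemT _ (Subgroup.mem_sup_left ((mem_radUV Q hQ hn5 u v huv.2.1 _).mpr ⟨w, hw, hw', rfl⟩))
  have hZ := omega_center_pElt Q hQ hn p
  have hc : ∀ X ∈ S, (∀ Y ∈ S, X * Y = Y * X) →
      ∃ t : F, X = pim Q (eo Q hQ hn5 u (t • v)) := by
    intro X hX hXc
    obtain ⟨g, rfl⟩ := pim_surjective Q X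
    have h1 : ∀ w, φ u w = 0 → omat Q g * eichMat Q u w = eichMat Q u w * omat Q g := by
      intro w hw
      have hcm : Commute (pim Q g) (pim Q (eo Q hQ hn5 u w)) := hXc _ (hmem1 w hw)
      have h3 := congrArg (omat Q)
        (commute_of_mk_commute hZ (eo_isPElt Q hQ hn5 p u w) hcm).eq
      rwa [omat_mul, omat_mul, omat_eo Q hQ hn5 hu hw] at h3
    have h2 : ∀ w, φ u w = 0 → φ v w = 0 →
        omat Q g * eichMat Q v w = eichMat Q v w * omat Q g := by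
      intro w hw hw'
      have hcm : Commute (pim Q g) (pim Q (eo Q hQ hn5 v w)) := hXc _ (hmem2 w hw hw')
      have h3 := congrArg (omat Q)
        (commute_of_mk_commute hZ (eo_isPElt Q hQ hn5 p v w) hcm).eq
      rwa [omat_mul, omat_mul, omat_eo Q hQ hn5 hv hw'] at h3
    obtain ⟨c, t, hcc, hg⟩ := centralizer_core Q hQ hn huv (omat Q g) (omat_isom Q g) h1 h2
    refine ⟨t, ?_⟩
    have hpol : φ u (t • v) = 0 := by rw [polar_smul_right_eq, huv0, mul_zero]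
    symm
    rw [pim_apply, pim_apply]
    apply QuotientGroup.eq.mpr
    apply mem_center_of_omat_smul Q _ c
    rw [omat_mul, hg, ← omat_eo Q hQ hn5 hu hpol, mul_smul_comm, omat_inv_mul]
  have hne : pim Q (eo Q hQ hn5 u v) ≠ 1 := by
    intro h1
    have h2 : eo Q hQ hn5 u v ∈ Subgroup.center ↥(Cfsg.Omega F ⇑Q) :=
      (QuotientGroup.eq_one_iff _).mp h1
    have h3 := hZ _ h2 (eo_isPElt Q hQ hn5 p u v)
    have h4 := congrArg (omat Q) h3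
    rw [omat_eo Q hQ hn5 hu huv0, omat_one] at h4
    obtain ⟨b, hb⟩ := eich_eq_one Q hQ (li2_ne_zero_left hli) h4
    exact not_smul_of_li2 hli b hb
  have hSnt : Nontrivial ↥(S : Subgroup (Cfsg.POmega F ⇑Q)) :=
    ⟨⟨⟨pim Q (eo Q hQ hn5 u v), hmem1 v huv0⟩, 1, fun h => hne (congrArg Subtype.val h)⟩⟩
  have hcn := IsPGroup.center_nontrivial S.isPGroup'
  obtain ⟨z, hz⟩ := exists_ne (1 : Subgroup.center ↥(S : Subgroup (Cfsg.POmega F ⇑Q)))
  have hzS : ((z : ↥(S : Subgroup (Cfsg.POmega F ⇑Q))) : Cfsg.POmega F ⇑Q) ∈ S :=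
    (z : ↥(S : Subgroup (Cfsg.POmega F ⇑Q))).2
  have hzc : ∀ Y ∈ S, ((z : ↥(S : Subgroup (Cfsg.POmega F ⇑Q))) : Cfsg.POmega F ⇑Q) * Y =
      Y * ((z : ↥(S : Subgroup (Cfsg.POmega F ⇑Q))) : Cfsg.POmega F ⇑Q) := by
    intro Y hY
    have := Subgroup.mem_center_iff.mp z.2 ⟨Y, hY⟩
    exact (congrArg Subtype.val this).symm
  obtain ⟨t₀, ht₀⟩ := hc _ hzS hzc
  have ht₀0 : t₀ ≠ 0 := by
    rintro rfl
    rw [zero_smul, eo_zero, map_one] at ht₀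
    apply hz
    apply Subtype.ext
    apply Subtype.ext
    exact ht₀
  refine ⟨S, hmem1 v huv0, ?_, hc⟩
  intro Y hY
  obtain ⟨s, rfl⟩ := pim_surjective Q Y
  have hcm : Commute (pim Q s) (pim Q (eo Q hQ hn5 u (t₀ • v))) := by
    rw [← ht₀]
    exact (hzc _ hY).symm
  have hpol : φ u (t₀ • v) = 0 := by rw [polar_smul_right_eq, huv0, mul_zero]
  have h3 := congrArg (omat Q)
    (commute_of_mk_commute hZ (eo_isPElt Q hQ hn5 p u (t₀ • v)) hcm).eq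
  rw [omat_mul, omat_mul, omat_eo Q hQ hn5 hu hpol, eichMat_smul_sing Q hv, mul_add, add_mul,
    mul_one, one_mul, mul_smul_comm, smul_mul_assoc] at h3
  have h4 : omat Q s * (eichMat Q u v - 1) = (eichMat Q u v - 1) * omat Q s :=
    smul_right_injective _ ht₀0 (add_left_cancel h3)
  rw [mul_sub, sub_mul, mul_one, one_mul] at h4
  have h5 : omat Q s * eichMat Q u v = eichMat Q u v * omat Q s := sub_left_inj.mp h4
  have h6 : s * eo Q hQ hn5 u v = eo Q hQ hn5 u v * s := by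
    apply omat_injective
    rw [omat_mul, omat_mul, omat_eo Q hQ hn5 hu huv0]
    exact h5
  rw [← map_mul, ← map_mul, h6]

/-- Images of the long root elements in `PΩ`. -/
def Dbar (hn5 : 5 ≤ Fintype.card ι) : Set (Cfsg.POmega F ⇑Q) :=
  {X | ∃ a b, TSP Q a b ∧ X = pim Q (eo Q hQ hn5 a b)}

theorem Dbar_conj (hn5 : 5 ≤ Fintype.card ι) {X : Cfsg.POmega F ⇑Q} (hX : X ∈ Dbar Q hQ hn5)
    (g : Cfsg.POmega F ⇑Q) : g * X * g⁻¹ ∈ Dbar Q hQ hn5 := by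
  obtain ⟨a, b, hab, rfl⟩ := hX
  obtain ⟨h, rfl⟩ := pim_surjective Q g
  refine ⟨omat Q h *ᵥ a, omat Q h *ᵥ b, hab.map _ (omat_isom Q h) (omat_isUnit Q h), ?_⟩
  rw [← eo_conj Q hQ hn5 h hab.1 hab.2.2.1, map_mul, map_mul, map_inv]

theorem Dbar_eq_sylCentre (hn : 7 ≤ Fintype.card ι) (p : ℕ) [Fact p.Prime] [CharP F p] :
    Dbar Q hQ (five_le hn) = sylCentre p (Cfsg.POmega F ⇑Q) := by
  have hn5 := five_le hn
  have hZ := omega_center_pElt Q hQ hn p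
  ext X
  constructor
  · rintro ⟨a, b, hab, rfl⟩
    obtain ⟨S, h1, h2, -⟩ := exists_sylow_tsp Q hQ hn p hab
    refine ⟨?_, S, h1, h2⟩
    intro h1
    have h2 : eo Q hQ hn5 a b ∈ Subgroup.center ↥(Cfsg.Omega F ⇑Q) :=
      (QuotientGroup.eq_one_iff _).mp h1
    have h3 := hZ _ h2 (eo_isPElt Q hQ hn5 p a b)
    have h4 := congrArg (omat Q) h3
    rw [omat_eo Q hQ hn5 hab.1 hab.2.2.1, omat_one] at h4
    obtain ⟨c, hc⟩ := eich_eq_one Q hQ (li2_ne_zero_left hab.2.2.2) h4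
    exact not_smul_of_li2 hab.2.2.2 c hc
  · rintro ⟨hX1, S', hXS', hXc⟩
    obtain ⟨u₀, v₀, huv⟩ := exists_tsp Q hQ hn5
    obtain ⟨S₀, -, -, hS₀⟩ := exists_sylow_tsp Q hQ hn p huv
    obtain ⟨g, hg⟩ := MulAction.exists_smul_eq (Cfsg.POmega F ⇑Q) S₀ S'
    have hmem : ∀ Y, Y ∈ S' ↔ g⁻¹ * Y * g ∈ S₀ := by
      intro Y
      rw [← hg]
      exact sylow_mem_smul_iff _ p S₀ g Y
    have hX0 : g⁻¹ * X * g ∈ S₀ := (hmem X).mp hXS'
    have hXc0 : ∀ Y ∈ S₀, g⁻¹ * X * g * Y = Y * (g⁻¹ * X * g) := by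
      intro Y hY
      have hY' : g * Y * g⁻¹ ∈ S' := by
        rw [hmem]
        simpa [mul_assoc] using hY
      have := hXc _ hY'
      calc g⁻¹ * X * g * Y = g⁻¹ * (X * (g * Y * g⁻¹)) * g := by group
        _ = g⁻¹ * ((g * Y * g⁻¹) * X) * g := by rw [this]
        _ = Y * (g⁻¹ * X * g) := by group
    obtain ⟨t, ht⟩ := hS₀ _ hX0 hXc0
    have ht0 : t ≠ 0 := by
      rintro rfl
      rw [zero_smul, eo_zero, map_one] at ht
      apply hX1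
      have : X = g * (g⁻¹ * X * g) * g⁻¹ := by group
      rw [this, ht]
      group
    have hX : X = g * pim Q (eo Q hQ hn5 u₀ (t • v₀)) * g⁻¹ := by
      rw [← ht]
      group
    rw [hX]
    exact Dbar_conj Q hQ hn5 ⟨u₀, t • v₀, huv.smul_right ht0, rfl⟩ g

/-- Automorphisms of `PΩ` permute the long root elements. -/
theorem Dbar_aut (hn : 7 ≤ Fintype.card ι) (p : ℕ) [Fact p.Prime] [CharP F p]
    (α : Cfsg.POmega F ⇑Q ≃* Cfsg.POmega F ⇑Q) (X : Cfsg.POmega F ⇑Q) :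
    α X ∈ Dbar Q hQ (five_le hn) ↔ X ∈ Dbar Q hQ (five_le hn) := by
  rw [Dbar_eq_sylCentre Q hQ hn p]
  exact sylCentre_iff α X

end autoD

end Cfsg.Agent.Lib.Helper14
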