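import Mathlib
import Cfsg.Agent.Lib.Helper14.AutOD

/-!
# Automorphisms of orthogonal groups: lines of long root elements and their relations
-/

set_option autoImplicit false

namespace Cfsg.Agent.Lib.Helper14

open Matrix Module

section exchange

variable {F V : Type*} [Field F] [AddCommGroup V] [Module F V]

/-- Two independent vectors of a plane span it. -/
theorem span2_exchange {e w a b : V} (hli : LinearIndependent F ![a, b])
    (ha : ∃ s t : F, a = s • e + t • w) (hb : ∃ s t : F, b = s • e + t • w) (d : V)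
    (hd : ∃ s t : F, d = s • e + t • w) : ∃ x y : F, d = x • a + y • b := by
  obtain ⟨s₁, t₁, ha⟩ := ha
  obtain ⟨s₂, t₂, hb⟩ := hb
  obtain ⟨s₃, t₃, hd⟩ := hd
  have he : (s₁ * t₂ - s₂ * t₁) • e = t₂ • a - t₁ • b := by rw [ha, hb]; module
  have hw : (s₁ * t₂ - s₂ * t₁) • w = s₁ • b - s₂ • a := by rw [ha, hb]; module
  have hΔ : s₁ * t₂ - s₂ * t₁ ≠ 0 := by
    intro h0
    rw [h0, zero_smul] at he hw
    have h1 := (LinearIndependent.pair_iff.mp hli) t₂ (-t₁) (by rw [he]; module)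
    have h2 := (LinearIndependent.pair_iff.mp hli) (-s₂) s₁ (by rw [hw]; module)
    apply li2_ne_zero_left hli
    rw [ha, h2.2, neg_eq_zero.mp h1.2, zero_smul, zero_smul, add_zero]
  refine ⟨(s₁ * t₂ - s₂ * t₁)⁻¹ * (s₃ * t₂ - t₃ * s₂),
    (s₁ * t₂ - s₂ * t₁)⁻¹ * (t₃ * s₁ - s₃ * t₁), ?_⟩
  have h3 : (s₁ * t₂ - s₂ * t₁) • d = (s₃ * t₂ - t₃ * s₂) • a + (t₃ * s₁ - s₃ * t₁) • b := by
    rw [hd, smul_add, smul_comm _ s₃, smul_comm _ t₃, he, hw]
    module
  calc d = (s₁ * t₂ - s₂ * t₁)⁻¹ • ((s₁ * t₂ - s₂ * t₁) • d) := by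
        rw [smul_smul, inv_mul_cancel₀ hΔ, one_smul]
    _ = _ := by rw [h3]; module

end exchange

section autoE

variable {ι : Type} [Fintype ι] [DecidableEq ι] {F : Type*} [Field F]
variable (Q : QuadraticForm F (ι → F))

set_option quotPrecheck false in
local notation "φ" => QuadraticMap.polar (⇑Q)

/-- Root matrices: the long root elements. -/
def IsRootMat (A : Matrix ι ι F) : Prop := ∃ a b, TSP Q a b ∧ A = eichMat Q a b

/-- The line of a matrix: the image of `A - 1`. -/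
def lin (A : Matrix ι ι F) : Submodule F (ι → F) := LinearMap.range (Matrix.mulVecLin (A - 1))

/-- The lines meet. -/
def MeetL (X Y : Matrix ι ι F) : Prop := ∃ e, e ≠ 0 ∧ e ∈ lin X ∧ e ∈ lin Y

/-- The lines are perpendicular. -/
def PerpL (X Y : Matrix ι ι F) : Prop :=
  ∀ x ∈ lin X, ∀ y ∈ lin Y, QuadraticMap.polar ⇑Q x y = 0

/-- A root matrix or the identity. -/
def RootOrOne (A : Matrix ι ι F) : Prop := IsRootMat Q A ∨ A = 1

/-- Strong commutation of matrices. -/
def SM (X Y : Matrix ι ι F) : Prop := X * Y = Y * X ∧ RootOrOne Q (X * Y)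

/-- Weak commutation of matrices. -/
def TM (X Y : Matrix ι ι F) : Prop := X * Y = Y * X ∧ ¬ RootOrOne Q (X * Y)

variable {Q}

theorem root_mulVec {a b : ι → F} (h : TSP Q a b) (x : ι → F) :
    eichMat Q a b *ᵥ x = x + φ a x • b - φ b x • a := by
  rw [eichMat_mulVec, h.2.1, zero_mul, add_zero]

theorem tsp_quad {a b : ι → F} (h : TSP Q a b) (s t : F) : Q (s • a + t • b) = 0 := by
  rw [QuadraticMap.map_add (⇑Q), QuadraticMap.map_smul, QuadraticMap.map_smul, h.1, h.2.1,
    polar_smul_left_eq, polar_smul_right_eq, h.2.2.1]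
  simp

theorem tsp_polar {a b : ι → F} (h : TSP Q a b) (s t s' t' : F) :
    φ (s • a + t • b) (s' • a + t' • b) = 0 := by
  have hba : φ b a = 0 := by rw [QuadraticMap.polar_comm]; exact h.2.2.1
  rw [QuadraticMap.polar_add_left, QuadraticMap.polar_add_right, QuadraticMap.polar_add_right,
    polar_smul_left_eq, polar_smul_left_eq, polar_smul_left_eq, polar_smul_left_eq,
    polar_smul_right_eq, polar_smul_right_eq, polar_smul_right_eq, polar_smul_right_eq,
    polar_self_zero Q h.1, polar_self_zero Q h.2.1, h.2.2.1, hba]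
  ring

theorem MeetL.symm {X Y : Matrix ι ι F} (h : MeetL X Y) : MeetL Y X := by
  obtain ⟨e, he, h1, h2⟩ := h
  exact ⟨e, he, h2, h1⟩

theorem PerpL.symm {X Y : Matrix ι ι F} (h : PerpL Q X Y) : PerpL Q Y X := by
  intro x hx y hy
  rw [QuadraticMap.polar_comm]
  exact h y hy x hx

end autoE

section autoE2

variable {ι : Type} [Fintype ι] [DecidableEq ι] {F : Type*} [Field F] [Fintype F]
variable (Q : QuadraticForm F (ι → F)) (hQ : (QuadraticMap.polarBilin Q).Nondegenerate)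

set_option quotPrecheck false in
local notation "φ" => QuadraticMap.polar (⇑Q)

include hQ

theorem mem_lin_root {a b : ι → F} (h : TSP Q a b) (x : ι → F) :
    x ∈ lin (eichMat Q a b) ↔ ∃ s t : F, x = s • a + t • b := by
  unfold lin
  rw [LinearMap.mem_range]
  constructor
  · rintro ⟨y, rfl⟩
    refine ⟨-φ b y, φ a y, ?_⟩
    rw [Matrix.mulVecLin_apply, sub_mulVec, one_mulVec, root_mulVec h]
    module
  · rintro ⟨s, t, rfl⟩
    obtain ⟨y, hy1, hy2⟩ := exists_polar2 Q hQ h.2.2.2 t (-s)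
    refine ⟨y, ?_⟩
    rw [Matrix.mulVecLin_apply, sub_mulVec, one_mulVec, root_mulVec h, hy1, hy2]
    module

theorem left_mem_lin {a b : ι → F} (h : TSP Q a b) : a ∈ lin (eichMat Q a b) :=
  (mem_lin_root Q hQ h a).mpr ⟨1, 0, by module⟩

theorem right_mem_lin {a b : ι → F} (h : TSP Q a b) : b ∈ lin (eichMat Q a b) :=
  (mem_lin_root Q hQ h b).mpr ⟨0, 1, by module⟩

theorem lin_sing {X : Matrix ι ι F} (hX : IsRootMat Q X) {x : ι → F} (hx : x ∈ lin X) :
    Q x = 0 := by
  obtain ⟨a, b, hab, rfl⟩ := hX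
  obtain ⟨s, t, rfl⟩ := (mem_lin_root Q hQ hab x).mp hx
  exact tsp_quad hab s t

theorem lin_perp {X : Matrix ι ι F} (hX : IsRootMat Q X) {x y : ι → F} (hx : x ∈ lin X)
    (hy : y ∈ lin X) : φ x y = 0 := by
  obtain ⟨a, b, hab, rfl⟩ := hX
  obtain ⟨s, t, rfl⟩ := (mem_lin_root Q hQ hab x).mp hx
  obtain ⟨s', t', rfl⟩ := (mem_lin_root Q hQ hab y).mp hy
  exact tsp_polar hab s t s' t'

/-- A root matrix can be written with any prescribed point of its line as first vector. -/
theorem root_at {X : Matrix ι ι F} (hX : IsRootMat Q X) {e : ι → F} (he : e ∈ lin X)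
    (he0 : e ≠ 0) : ∃ b, TSP Q e b ∧ X = eichMat Q e b := by
  obtain ⟨a, b', hab, rfl⟩ := hX
  obtain ⟨s, t, rfl⟩ := (mem_lin_root Q hQ hab e).mp he
  have hQe := tsp_quad hab s t
  by_cases hs : s = 0
  · subst hs
    have ht : t ≠ 0 := by
      rintro rfl
      apply he0
      simp
    refine ⟨(-t⁻¹) • a, ⟨hQe, by rw [QuadraticMap.map_smul, hab.1, smul_zero], ?_, ?_⟩, ?_⟩
    · have := tsp_polar hab 0 t (-t⁻¹) 0
      simpa using this
    · rw [LinearIndependent.pair_iff]
      intro x y hxy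
      have := (LinearIndependent.pair_iff.mp hab.2.2.2) (y * (-t⁻¹)) (x * t)
        (by rw [← hxy]; module)
      refine ⟨(mul_eq_zero.mp this.2).resolve_right ht, (mul_eq_zero.mp this.1).resolve_right ?_⟩
      exact neg_ne_zero.mpr (inv_ne_zero ht)
    · have := eichMat_lin_comb Q hab.1 hab.2.1 hab.2.2.1 0 t (-t⁻¹) 0
      have e1 : (0 * 0 - t * -t⁻¹ : F) = 1 := by field_simp; ring
      rw [e1, one_smul] at this
      rw [← this]
      congr 1
      module
  · refine ⟨s⁻¹ • b', ⟨hQe, by rw [QuadraticMap.map_smul, hab.2.1, smul_zero], ?_, ?_⟩, ?_⟩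
    · have := tsp_polar hab s t 0 s⁻¹
      simpa using this
    · rw [LinearIndependent.pair_iff]
      intro x y hxy
      have := (LinearIndependent.pair_iff.mp hab.2.2.2) (x * s) (x * t + y * s⁻¹)
        (by rw [← hxy]; module)
      have hx : x = 0 := (mul_eq_zero.mp this.1).resolve_right hs
      refine ⟨hx, ?_⟩
      have h2 := this.2
      rw [hx, zero_mul, zero_add] at h2
      exact (mul_eq_zero.mp h2).resolve_right (inv_ne_zero hs)
    · have := eichMat_lin_comb Q hab.1 hab.2.1 hab.2.2.1 s t 0 s⁻¹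
      have e1 : (s * s⁻¹ - t * 0 : F) = 1 := by field_simp; ring
      rw [e1, one_smul] at this
      rw [← this]
      congr 1
      module

/-- `E(e, w)` is a root matrix or trivial exactly when `w` is singular. -/
theorem rootOrOne_eich {e w : ι → F} (he0 : e ≠ 0) (he : Q e = 0) (hew : φ e w = 0) :
    RootOrOne Q (eichMat Q e w) ↔ Q w = 0 := by
  constructor
  · rintro (⟨c, d, hcd, h⟩ | h)
    · by_cases hw : ∃ b : F, w = b • e
      · obtain ⟨b, rfl⟩ := hw
        rw [QuadraticMap.map_smul, he, smul_zero]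
      · push Not at hw
        have hli : LinearIndependent F ![e, w] := li2_of_not_smul he0 hw
        have h1 : ∀ x, φ e x • w - (φ w x + Q w * φ e x) • e = φ c x • d - φ d x • c := by
          intro x
          have := congrArg (· *ᵥ x) h
          simp only [eichMat_mulVec, root_mulVec hcd] at this
          linear_combination (norm := module) this
        obtain ⟨x₁, hx₁, hx₁'⟩ := exists_polar2 Q hQ hli 1 0
        obtain ⟨x₂, hx₂, hx₂'⟩ := exists_polar2 Q hQ hli 0 1
        have e1 := h1 x₁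
        rw [hx₁, hx₁', one_smul, zero_add, mul_one] at e1
        have e2 := h1 x₂
        rw [hx₂, hx₂', zero_smul, mul_zero, add_zero, one_smul, zero_sub] at e2
        obtain ⟨qw, hqw⟩ : ∃ qw, qw = Q w := ⟨_, rfl⟩
        rw [← hqw] at e1
        have e3 : e = φ d x₂ • c - φ c x₂ • d := by
          linear_combination (norm := module) (-1 : F) • e2
        have e4 : w = φ c x₁ • d - φ d x₁ • c + qw • e := by
          linear_combination (norm := module) e1
        have hw' : w = (qw * φ d x₂ - φ d x₁) • c + (φ c x₁ - qw * φ c x₂) • d := by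
          rw [e4, e3]
          module
        rw [hw']
        exact tsp_quad hcd _ _
    · obtain ⟨b, rfl⟩ := eich_eq_one Q hQ he0 h
      rw [QuadraticMap.map_smul, he, smul_zero]
  · intro hw
    by_cases hw' : ∃ b : F, w = b • e
    · obtain ⟨b, rfl⟩ := hw'
      right
      exact eichMat_smul_self Q he b
    · push Not at hw'
      left
      exact ⟨e, w, ⟨he, hw, hew, li2_of_not_smul he0 hw'⟩, rfl⟩

/-- Root matrices whose lines meet, written with a common first vector. -/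
theorem meet_form {X Y : Matrix ι ι F} (hX : IsRootMat Q X) (hY : IsRootMat Q Y)
    (h : MeetL X Y) :
    ∃ e b d, TSP Q e b ∧ TSP Q e d ∧ X = eichMat Q e b ∧ Y = eichMat Q e d := by
  obtain ⟨e, he0, heX, heY⟩ := h
  obtain ⟨b, hb, rfl⟩ := root_at Q hQ hX heX he0
  obtain ⟨d, hd, rfl⟩ := root_at Q hQ hY heY he0
  exact ⟨e, b, d, hb, hd, rfl, rfl⟩

theorem perpL_of_four {a b c d : ι → F} (hab : TSP Q a b) (hcd : TSP Q c d) (h1 : φ a c = 0)
    (h2 : φ a d = 0) (h3 : φ b c = 0) (h4 : φ b d = 0) :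
    PerpL Q (eichMat Q a b) (eichMat Q c d) := by
  intro x hx y hy
  obtain ⟨s, t, rfl⟩ := (mem_lin_root Q hQ hab x).mp hx
  obtain ⟨s', t', rfl⟩ := (mem_lin_root Q hQ hcd y).mp hy
  rw [QuadraticMap.polar_add_left, QuadraticMap.polar_add_right, QuadraticMap.polar_add_right,
    polar_smul_left_eq, polar_smul_left_eq, polar_smul_left_eq, polar_smul_left_eq,
    polar_smul_right_eq, polar_smul_right_eq, polar_smul_right_eq, polar_smul_right_eq,
    h1, h2, h3, h4]
  ring

theorem four_of_perpL {a b c d : ι → F} (hab : TSP Q a b) (hcd : TSP Q c d)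
    (h : PerpL Q (eichMat Q a b) (eichMat Q c d)) :
    φ a c = 0 ∧ φ a d = 0 ∧ φ b c = 0 ∧ φ b d = 0 :=
  ⟨h a (left_mem_lin Q hQ hab) c (left_mem_lin Q hQ hcd),
    h a (left_mem_lin Q hQ hab) d (right_mem_lin Q hQ hcd),
    h b (right_mem_lin Q hQ hab) c (left_mem_lin Q hQ hcd),
    h b (right_mem_lin Q hQ hab) d (right_mem_lin Q hQ hcd)⟩

theorem commute_of_meet {X Y : Matrix ι ι F} (hX : IsRootMat Q X) (hY : IsRootMat Q Y)
    (h : MeetL X Y) : X * Y = Y * X := by
  obtain ⟨e, b, d, hb, hd, rfl, rfl⟩ := meet_form Q hQ hX hY h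
  rw [eichMat_mul Q hb.1 hb.2.2.1 hd.2.2.1, eichMat_mul Q hb.1 hd.2.2.1 hb.2.2.1, add_comm]

theorem commute_of_perp {X Y : Matrix ι ι F} (hX : IsRootMat Q X) (hY : IsRootMat Q Y)
    (h : PerpL Q X Y) : X * Y = Y * X := by
  obtain ⟨a, b, hab, rfl⟩ := hX
  obtain ⟨c, d, hcd, rfl⟩ := hY
  obtain ⟨h1, h2, h3, h4⟩ := four_of_perpL Q hQ hab hcd h
  have hiso := eichMat_isometry Q hcd.1 hcd.2.2.1
  have e := eichMat_conj Q (eichMat Q c d) hiso a b
  have ha : eichMat Q c d *ᵥ a = a := by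
    rw [root_mulVec hcd, QuadraticMap.polar_comm (⇑Q) c a, h1, QuadraticMap.polar_comm (⇑Q) d a,
      h2]
    simp
  have hb : eichMat Q c d *ᵥ b = b := by
    rw [root_mulVec hcd, QuadraticMap.polar_comm (⇑Q) c b, h3, QuadraticMap.polar_comm (⇑Q) d b,
      h4]
    simp
  rw [ha, hb] at e
  exact e.symm

/-- Either the lines meet or the four vectors are independent. -/
theorem meet_or_li4 {a b c d : ι → F} (hab : TSP Q a b) (hcd : TSP Q c d) :
    MeetL (eichMat Q a b) (eichMat Q c d) ∨ LinearIndependent F ![a, b, c, d] := by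
  by_cases hli : LinearIndependent F ![a, b, c, d]
  · exact Or.inr hli
  · left
    rw [li4_iff] at hli
    push Not at hli
    obtain ⟨s, t, r, q, h0, hne⟩ := hli
    refine ⟨s • a + t • b, ?_, (mem_lin_root Q hQ hab _).mpr ⟨s, t, rfl⟩,
      (mem_lin_root Q hQ hcd _).mpr ⟨-r, -q, by linear_combination (norm := module) h0⟩⟩
    intro he
    have h1 := (LinearIndependent.pair_iff.mp hab.2.2.2) s t he
    have h2 := (LinearIndependent.pair_iff.mp hcd.2.2.2) r q
      (by rw [add_assoc, he, zero_add] at h0; exact h0)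
    exact hne h1.1 h1.2 h2.1 h2.2

theorem perp_of_commute {a b c d : ι → F} (hab : TSP Q a b) (hcd : TSP Q c d)
    (hli : LinearIndependent F ![a, b, c, d])
    (h : eichMat Q a b * eichMat Q c d = eichMat Q c d * eichMat Q a b) :
    PerpL Q (eichMat Q a b) (eichMat Q c d) := by
  have key : ∀ x, (-(φ c x * φ b d - φ d x * φ b c)) • a + (φ c x * φ a d - φ d x * φ a c) • b
      + (φ a x * φ d b - φ b x * φ d a) • c + (-(φ a x * φ c b - φ b x * φ c a)) • d = 0 := by
    intro x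
    have h1 := congrArg (· *ᵥ x) h
    simp only [← mulVec_mulVec, root_mulVec hab, root_mulVec hcd, QuadraticMap.polar_add_right,
      QuadraticMap.polar_sub_right, polar_smul_right_eq] at h1
    linear_combination (norm := module) h1
  obtain ⟨x₁, -, -, hx₁c, hx₁d⟩ := exists_polar4 Q hQ hli 0 0 1 0
  obtain ⟨x₂, -, -, hx₂c, hx₂d⟩ := exists_polar4 Q hQ hli 0 0 0 1
  have k1 := (li4_iff.mp hli) _ _ _ _ (key x₁)
  have k2 := (li4_iff.mp hli) _ _ _ _ (key x₂)
  rw [hx₁c, hx₁d] at k1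
  rw [hx₂c, hx₂d] at k2
  have hbd : φ b d = 0 := by
    have := k1.1
    simpa using this
  have had : φ a d = 0 := by
    have := k1.2.1
    simpa using this
  have hbc : φ b c = 0 := by
    have := k2.1
    simpa using this
  have hac : φ a c = 0 := by
    have := k2.2.1
    simpa using this
  exact perpL_of_four Q hQ hab hcd hac had hbc hbd

theorem not_rootOrOne_of_li4 {a b c d : ι → F} (hab : TSP Q a b) (hcd : TSP Q c d)
    (hli : LinearIndependent F ![a, b, c, d]) (h1 : φ a c = 0) (h2 : φ a d = 0) (h3 : φ b c = 0)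
    (h4 : φ b d = 0) : ¬ RootOrOne Q (eichMat Q a b * eichMat Q c d) := by
  have key : ∀ x, (eichMat Q a b * eichMat Q c d) *ᵥ x =
      x + φ c x • d - φ d x • c + φ a x • b - φ b x • a := by
    intro x
    simp only [← mulVec_mulVec, root_mulVec hab, root_mulVec hcd, QuadraticMap.polar_add_right,
      QuadraticMap.polar_sub_right, polar_smul_right_eq, h1, h2, h3, h4]
    module
  rintro (⟨e, w, hew, h⟩ | h)
  · have hlin : ∀ x, ∃ s t : F, φ c x • d - φ d x • c + φ a x • b - φ b x • a = s • e + t • w := by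
      intro x
      have := key x
      rw [h, root_mulVec hew] at this
      exact ⟨-φ w x, φ e x, by linear_combination (norm := module) (-1 : F) • this⟩
    obtain ⟨x₁, ha₁, hb₁, hc₁, hd₁⟩ := exists_polar4 Q hQ hli 1 0 0 0
    obtain ⟨x₂, ha₂, hb₂, hc₂, hd₂⟩ := exists_polar4 Q hQ hli 0 (-1) 0 0
    obtain ⟨x₃, ha₃, hb₃, hc₃, hd₃⟩ := exists_polar4 Q hQ hli 0 0 1 0
    have hb := hlin x₁
    rw [ha₁, hb₁, hc₁, hd₁] at hb
    have ha := hlin x₂
    rw [ha₂, hb₂, hc₂, hd₂] at ha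
    have hd := hlin x₃
    rw [ha₃, hb₃, hc₃, hd₃] at hd
    have hb' : ∃ s t : F, b = s • e + t • w := by
      obtain ⟨s, t, hst⟩ := hb
      exact ⟨s, t, by rw [← hst]; module⟩
    have ha' : ∃ s t : F, a = s • e + t • w := by
      obtain ⟨s, t, hst⟩ := ha
      exact ⟨s, t, by rw [← hst]; module⟩
    have hd' : ∃ s t : F, d = s • e + t • w := by
      obtain ⟨s, t, hst⟩ := hd
      exact ⟨s, t, by rw [← hst]; module⟩
    obtain ⟨x, y, hxy⟩ := span2_exchange hab.2.2.2 ha' hb' d hd'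
    have := (li4_iff.mp hli) x y 0 (-1) (by rw [hxy]; module)
    have h5 : (-1 : F) = 0 := this.2.2.2
    exact one_ne_zero (neg_eq_zero.mp h5)
  · obtain ⟨x₁, ha₁, hb₁, hc₁, hd₁⟩ := exists_polar4 Q hQ hli 1 0 0 0
    have := key x₁
    rw [h, one_mulVec, ha₁, hb₁, hc₁, hd₁] at this
    apply li2_ne_zero_right hab.2.2.2
    linear_combination (norm := module) (-1 : F) • this

theorem commute_iff {X Y : Matrix ι ι F} (hX : IsRootMat Q X) (hY : IsRootMat Q Y) :
    X * Y = Y * X ↔ MeetL X Y ∨ PerpL Q X Y := by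
  constructor
  · intro h
    obtain ⟨a, b, hab, rfl⟩ := hX
    obtain ⟨c, d, hcd, rfl⟩ := hY
    rcases meet_or_li4 Q hQ hab hcd with h1 | h1
    · exact Or.inl h1
    · exact Or.inr (perp_of_commute Q hQ hab hcd h1 h)
  · rintro (h | h)
    · exact commute_of_meet Q hQ hX hY h
    · exact commute_of_perp Q hQ hX hY h

theorem rootOrOne_iff_of_meet {X Y : Matrix ι ι F} (hX : IsRootMat Q X) (hY : IsRootMat Q Y)
    (h : MeetL X Y) : RootOrOne Q (X * Y) ↔ PerpL Q X Y := by
  obtain ⟨e, b, d, hb, hd, rfl, rfl⟩ := meet_form Q hQ hX hY h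
  have he0 : e ≠ 0 := li2_ne_zero_left hb.2.2.2
  rw [eichMat_mul Q hb.1 hb.2.2.1 hd.2.2.1, rootOrOne_eich Q hQ he0 hb.1
    (by rw [QuadraticMap.polar_add_right, hb.2.2.1, hd.2.2.1, add_zero]),
    QuadraticMap.map_add (⇑Q) b d, hb.2.1, hd.2.1, zero_add, zero_add]
  constructor
  · intro hbd
    exact perpL_of_four Q hQ hb hd (polar_self_zero Q hb.1) hd.2.2.1
      (by rw [QuadraticMap.polar_comm]; exact hb.2.2.1) hbd
  · intro hp
    exact (four_of_perpL Q hQ hb hd hp).2.2.2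

theorem not_rootOrOne_of_perp {X Y : Matrix ι ι F} (hX : IsRootMat Q X) (hY : IsRootMat Q Y)
    (hm : ¬ MeetL X Y) (hp : PerpL Q X Y) : ¬ RootOrOne Q (X * Y) := by
  obtain ⟨a, b, hab, rfl⟩ := hX
  obtain ⟨c, d, hcd, rfl⟩ := hY
  rcases meet_or_li4 Q hQ hab hcd with h1 | h1
  · exact absurd h1 hm
  · obtain ⟨k1, k2, k3, k4⟩ := four_of_perpL Q hQ hab hcd hp
    exact not_rootOrOne_of_li4 Q hQ hab hcd h1 k1 k2 k3 k4

theorem sm_iff {X Y : Matrix ι ι F} (hX : IsRootMat Q X) (hY : IsRootMat Q Y) :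
    SM Q X Y ↔ MeetL X Y ∧ PerpL Q X Y := by
  unfold SM
  rw [commute_iff Q hQ hX hY]
  constructor
  · rintro ⟨h1, h2⟩
    by_cases hm : MeetL X Y
    · exact ⟨hm, (rootOrOne_iff_of_meet Q hQ hX hY hm).mp h2⟩
    · exact absurd h2 (not_rootOrOne_of_perp Q hQ hX hY hm (h1.resolve_left hm))
  · rintro ⟨h1, h2⟩
    exact ⟨Or.inl h1, (rootOrOne_iff_of_meet Q hQ hX hY h1).mpr h2⟩

theorem tm_iff {X Y : Matrix ι ι F} (hX : IsRootMat Q X) (hY : IsRootMat Q Y) :
    TM Q X Y ↔ (MeetL X Y ∨ PerpL Q X Y) ∧ ¬ (MeetL X Y ∧ PerpL Q X Y) := by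
  unfold TM
  rw [commute_iff Q hQ hX hY]
  constructor
  · rintro ⟨h1, h2⟩
    refine ⟨h1, ?_⟩
    rintro ⟨h3, h4⟩
    exact h2 ((rootOrOne_iff_of_meet Q hQ hX hY h3).mpr h4)
  · rintro ⟨h1, h2⟩
    refine ⟨h1, ?_⟩
    intro h3
    by_cases hm : MeetL X Y
    · exact h2 ⟨hm, (rootOrOne_iff_of_meet Q hQ hX hY hm).mp h3⟩
    · exact not_rootOrOne_of_perp Q hQ hX hY hm (h1.resolve_left hm) h3

end autoE2

end Cfsg.Agent.Lib.Helper14
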