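import Mathlib
import Cfsg.Agent.Lib.Helper14.AutOE

/-!
# Automorphisms of orthogonal groups: configurations of lines
-/

set_option autoImplicit false

namespace Cfsg.Agent.Lib.Helper14

open Matrix Module

section autoF0

variable {ι : Type} [Fintype ι] [DecidableEq ι] {F : Type*} [Field F]
variable (Q : QuadraticForm F (ι → F))

set_option quotPrecheck false in
local notation "φ" => QuadraticMap.polar (⇑Q)

/-- Projection away from a hyperbolic pair `(b, d)`. -/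
noncomputable def hproj (b d t : ι → F) : ι → F :=
  t - (QuadraticMap.polar ⇑Q d t / QuadraticMap.polar ⇑Q b d) • b
    - (QuadraticMap.polar ⇑Q b t / QuadraticMap.polar ⇑Q b d) • d

theorem hproj_left {b d : ι → F} (hb : Q b = 0) (hbd : φ b d ≠ 0) (t : ι → F) :
    φ b (hproj Q b d t) = 0 := by
  unfold hproj
  rw [QuadraticMap.polar_sub_right, QuadraticMap.polar_sub_right, polar_smul_right_eq,
    polar_smul_right_eq, polar_self_zero Q hb, mul_zero, sub_zero, div_mul_cancel₀ _ hbd,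
    sub_self]

theorem hproj_right {b d : ι → F} (hd : Q d = 0) (hbd : φ b d ≠ 0) (t : ι → F) :
    φ d (hproj Q b d t) = 0 := by
  unfold hproj
  rw [QuadraticMap.polar_sub_right, QuadraticMap.polar_sub_right, polar_smul_right_eq,
    polar_smul_right_eq, polar_self_zero Q hd, QuadraticMap.polar_comm (⇑Q) d b, mul_zero,
    sub_zero, div_mul_cancel₀ _ hbd, sub_self]

theorem hproj_of_perp {b d u : ι → F} (hub : φ u b = 0) (hud : φ u d = 0) (t : ι → F) :
    φ u (hproj Q b d t) = φ u t := by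
  unfold hproj
  rw [QuadraticMap.polar_sub_right, QuadraticMap.polar_sub_right, polar_smul_right_eq,
    polar_smul_right_eq, hub, hud, mul_zero, mul_zero, sub_zero, sub_zero]

end autoF0

section autoF

variable {ι : Type} [Fintype ι] [DecidableEq ι] {F : Type*} [Field F] [Fintype F]
variable (Q : QuadraticForm F (ι → F)) (hQ : (QuadraticMap.polarBilin Q).Nondegenerate)

set_option quotPrecheck false in
local notation "φ" => QuadraticMap.polar (⇑Q)

include hQ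

/-- A root matrix meeting all four sides of a totally singular quadrangle contains one of its
two diagonals. -/
theorem grid_cases {a b c d : ι → F} (hli : LinearIndependent F ![a, b, c, d])
    (hab : TSP Q a b) (hcd : TSP Q c d) (hac : TSP Q a c) (hbd : TSP Q b d)
    {M : Matrix ι ι F} (hM : IsRootMat Q M)
    (h1 : MeetL M (eichMat Q a b)) (h2 : MeetL M (eichMat Q c d))
    (h3 : MeetL M (eichMat Q a c)) (h4 : MeetL M (eichMat Q b d)) :
    (a ∈ lin M ∧ d ∈ lin M) ∨ (b ∈ lin M ∧ c ∈ lin M) := by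
  obtain ⟨e₁, he₁, he₁M, he₁'⟩ := h1
  obtain ⟨e₂, he₂, he₂M, he₂'⟩ := h2
  obtain ⟨e₃, he₃, he₃M, he₃'⟩ := h3
  obtain ⟨e₄, he₄, he₄M, he₄'⟩ := h4
  obtain ⟨α, β, h_e1⟩ := (mem_lin_root Q hQ hab e₁).mp he₁'
  obtain ⟨γ, δ, h_e2⟩ := (mem_lin_root Q hQ hcd e₂).mp he₂'
  obtain ⟨ε, ζ, h_e3⟩ := (mem_lin_root Q hQ hac e₃).mp he₃'
  obtain ⟨η, θ, h_e4⟩ := (mem_lin_root Q hQ hbd e₄).mp he₄'
  have hl4 := li4_iff.mp hli
  have hli12 : LinearIndependent F ![e₁, e₂] := by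
    rw [LinearIndependent.pair_iff]
    intro s t hst
    have := hl4 (s * α) (s * β) (t * γ) (t * δ) (by rw [← hst, h_e1, h_e2]; module)
    constructor
    · by_contra hs
      apply he₁
      rw [h_e1, (mul_eq_zero.mp this.1).resolve_left hs,
        (mul_eq_zero.mp this.2.1).resolve_left hs]
      simp
    · by_contra ht
      apply he₂
      rw [h_e2, (mul_eq_zero.mp this.2.2.1).resolve_left ht,
        (mul_eq_zero.mp this.2.2.2).resolve_left ht]
      simp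
  obtain ⟨p, q, hpq, rfl⟩ := hM
  have m1 := (mem_lin_root Q hQ hpq e₁).mp he₁M
  have m2 := (mem_lin_root Q hQ hpq e₂).mp he₂M
  have m3 := (mem_lin_root Q hQ hpq e₃).mp he₃M
  have m4 := (mem_lin_root Q hQ hpq e₄).mp he₄M
  obtain ⟨x, y, hxy⟩ := span2_exchange hli12 m1 m2 e₃ m3
  obtain ⟨x', y', hxy'⟩ := span2_exchange hli12 m1 m2 e₄ m4
  have k3 := hl4 (x * α - ε) (x * β) (y * γ - ζ) (y * δ) (by
    have : x • e₁ + y • e₂ - e₃ = 0 := by rw [hxy]; abel
    rw [← this, h_e1, h_e2, h_e3]; module)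
  have k4 := hl4 (x' * α) (x' * β - η) (y' * γ) (y' * δ - θ) (by
    have : x' • e₁ + y' • e₂ - e₄ = 0 := by rw [hxy']; abel
    rw [← this, h_e1, h_e2, h_e4]; module)
  have hmemM : ∀ (c₀ : F) (v e' : ι → F), c₀ ≠ 0 → e' = c₀ • v → e' ∈ lin (eichMat Q p q) →
      v ∈ lin (eichMat Q p q) := by
    intro c₀ v e' hc₀ hev he'
    have : v = c₀⁻¹ • e' := by rw [hev, smul_smul, inv_mul_cancel₀ hc₀, one_smul]
    rw [this]
    exact Submodule.smul_mem _ _ he'
  by_cases hx : x = 0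
  · have hy : y ≠ 0 := by
      rintro rfl
      apply he₃
      rw [hxy, hx]
      simp
    have hδ : δ = 0 := (mul_eq_zero.mp k3.2.2.2).resolve_left hy
    have hγ : γ ≠ 0 := by
      rintro rfl
      apply he₂
      rw [h_e2, hδ]
      simp
    have hy' : y' = 0 := (mul_eq_zero.mp k4.2.2.1).resolve_right hγ
    have hx' : x' ≠ 0 := by
      rintro rfl
      apply he₄
      rw [hxy', hy']
      simp
    have hα : α = 0 := (mul_eq_zero.mp k4.1).resolve_left hx'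
    have hβ : β ≠ 0 := by
      rintro rfl
      apply he₁
      rw [h_e1, hα]
      simp
    right
    exact ⟨hmemM β b e₁ hβ (by rw [h_e1, hα]; simp) he₁M,
      hmemM γ c e₂ hγ (by rw [h_e2, hδ]; simp) he₂M⟩
  · have hβ : β = 0 := (mul_eq_zero.mp k3.2.1).resolve_left hx
    have hα : α ≠ 0 := by
      rintro rfl
      apply he₁
      rw [h_e1, hβ]
      simp
    have hx' : x' = 0 := (mul_eq_zero.mp k4.1).resolve_right hα
    have hy' : y' ≠ 0 := by
      rintro rfl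
      apply he₄
      rw [hxy', hx']
      simp
    have hγ : γ = 0 := (mul_eq_zero.mp k4.2.2.1).resolve_left hy'
    have hδ : δ ≠ 0 := by
      rintro rfl
      apply he₂
      rw [h_e2, hγ]
      simp
    left
    exact ⟨hmemM α a e₁ hα (by rw [h_e1, hβ]; simp) he₁M,
      hmemM δ d e₂ hδ (by rw [h_e2, hγ]; simp) he₂M⟩

/-- Two root matrices whose lines contain a common independent pair strongly commute. -/
theorem sm_of_common_pair {M M' : Matrix ι ι F} (hM : IsRootMat Q M) (hM' : IsRootMat Q M')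
    {a d : ι → F} (hli : LinearIndependent F ![a, d]) (ha : a ∈ lin M) (hd : d ∈ lin M)
    (ha' : a ∈ lin M') (hd' : d ∈ lin M') : MeetL M M' ∧ PerpL Q M M' := by
  refine ⟨⟨a, li2_ne_zero_left hli, ha, ha'⟩, ?_⟩
  intro x hx y hy
  obtain ⟨p, q, hpq, rfl⟩ := hM'
  obtain ⟨y₁, y₂, rfl⟩ := span2_exchange hli ((mem_lin_root Q hQ hpq a).mp ha')
    ((mem_lin_root Q hQ hpq d).mp hd') y ((mem_lin_root Q hQ hpq y).mp hy)
  exact lin_perp Q hQ hM hx
    (Submodule.add_mem _ (Submodule.smul_mem _ _ ha) (Submodule.smul_mem _ _ hd))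

/-- A line meeting one side of a hyperbolic pair of lines through `e` and perpendicular to the
other passes through `e`. -/
theorem star_of_meet_perp {e b d : ι → F} (hb : TSP Q e b) (hd : TSP Q e d) (hbd : φ b d ≠ 0)
    {N : Matrix ι ι F} (h1 : MeetL N (eichMat Q e b))
    (h2 : PerpL Q N (eichMat Q e d)) : e ∈ lin N := by
  obtain ⟨e₁, he₁, he₁N, he₁'⟩ := h1
  obtain ⟨s, t, hst⟩ := (mem_lin_root Q hQ hb e₁).mp he₁'
  have h3 := h2 e₁ he₁N d (right_mem_lin Q hQ hd)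
  rw [hst, QuadraticMap.polar_add_left, polar_smul_left_eq, polar_smul_left_eq, hd.2.2.1,
    mul_zero, zero_add] at h3
  have ht : t = 0 := (mul_eq_zero.mp h3).resolve_right hbd
  rw [ht, zero_smul, add_zero] at hst
  have hs : s ≠ 0 := by
    rintro rfl
    apply he₁
    rw [hst, zero_smul]
  have : e = s⁻¹ • e₁ := by rw [hst, smul_smul, inv_mul_cancel₀ hs, one_smul]
  rw [this]
  exact Submodule.smul_mem _ _ he₁N

/-- A line meeting both lines of a hyperbolic pair through `e` passes through `e`. -/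
theorem star_of_meet_meet {e b d : ι → F} (hb : TSP Q e b) (hd : TSP Q e d) (hbd : φ b d ≠ 0)
    {N : Matrix ι ι F} (hN : IsRootMat Q N) (h1 : MeetL N (eichMat Q e b))
    (h2 : MeetL N (eichMat Q e d)) : e ∈ lin N := by
  obtain ⟨e₁, he₁, he₁N, he₁'⟩ := h1
  obtain ⟨e₂, he₂, he₂N, he₂'⟩ := h2
  obtain ⟨s₁, t₁, h_e1⟩ := (mem_lin_root Q hQ hb e₁).mp he₁'
  obtain ⟨s₂, t₂, h_e2⟩ := (mem_lin_root Q hQ hd e₂).mp he₂'
  have h3 := lin_perp Q hQ hN he₁N he₂N
  have hbe : φ b e = 0 := by rw [QuadraticMap.polar_comm]; exact hb.2.2.1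
  rw [h_e1, h_e2, QuadraticMap.polar_add_left, QuadraticMap.polar_add_right,
    QuadraticMap.polar_add_right, polar_smul_left_eq, polar_smul_left_eq, polar_smul_left_eq,
    polar_smul_left_eq, polar_smul_right_eq, polar_smul_right_eq, polar_smul_right_eq,
    polar_smul_right_eq, polar_self_zero Q hb.1, hd.2.2.1, hbe] at h3
  have h4 : t₁ * t₂ * φ b d = 0 := by linear_combination h3
  have hmem : ∀ (s : F) (e' : ι → F), e' ≠ 0 → e' = s • e → e' ∈ lin N → e ∈ lin N := by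
    intro s e' he' hse he'N
    have hs : s ≠ 0 := by
      rintro rfl
      apply he'
      rw [hse, zero_smul]
    have : e = s⁻¹ • e' := by rw [hse, smul_smul, inv_mul_cancel₀ hs, one_smul]
    rw [this]
    exact Submodule.smul_mem _ _ he'N
  rcases mul_eq_zero.mp ((mul_eq_zero.mp h4).resolve_right hbd) with ht | ht
  · exact hmem s₁ e₁ he₁ (by rw [h_e1, ht]; simp) he₁N
  · exact hmem s₂ e₂ he₂ (by rw [h_e2, ht]; simp) he₂N

/-- Three pairwise non-orthogonal singular vectors orthogonal to `e` and to two orthogonal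
hyperbolic pairs in `e^⊥` (dimension at least nine). -/
theorem exists_triple (hn : 9 ≤ Fintype.card ι) {e b d w₁ w₂ : ι → F} (he0 : e ≠ 0)
    (hb : Q b = 0) (hd : Q d = 0) (hw₁ : Q w₁ = 0) (hw₂ : Q w₂ = 0)
    (heb : φ e b = 0) (hed : φ e d = 0) (hew₁ : φ e w₁ = 0) (hew₂ : φ e w₂ = 0)
    (hbd : φ b d ≠ 0) (hw₁b : φ w₁ b = 0) (hw₁d : φ w₁ d = 0) (hw₂b : φ w₂ b = 0)
    (hw₂d : φ w₂ d = 0) (hw : φ w₁ w₂ ≠ 0) :
    ∃ v₁ v₂ v₃ : ι → F,
      (Q v₁ = 0 ∧ φ e v₁ = 0 ∧ φ b v₁ = 0 ∧ φ d v₁ = 0 ∧ φ w₁ v₁ = 0 ∧ φ w₂ v₁ = 0) ∧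
      (Q v₂ = 0 ∧ φ e v₂ = 0 ∧ φ b v₂ = 0 ∧ φ d v₂ = 0 ∧ φ w₁ v₂ = 0 ∧ φ w₂ v₂ = 0) ∧
      (Q v₃ = 0 ∧ φ e v₃ = 0 ∧ φ b v₃ = 0 ∧ φ d v₃ = 0 ∧ φ w₁ v₃ = 0 ∧ φ w₂ v₃ = 0) ∧
      φ v₁ v₂ ≠ 0 ∧ φ v₁ v₃ ≠ 0 ∧ φ v₂ v₃ ≠ 0 := by
  have hc := fun (x y : ι → F) => QuadraticMap.polar_comm (⇑Q) x y
  have hspan1 := Cfsg.Agent.Lib.Helper44.finrank_span_singleton_le_one (F := F) e
  -- step 1
  obtain ⟨v₁, hv₁, hv₁p, hv₁n⟩ := exists_sing_orth Q hQ ![e, b, d, w₁, w₂]
    (Submodule.span F {e}) (by omega)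
  have h1e : φ e v₁ = 0 := by simpa using hv₁p 0
  have h1b : φ b v₁ = 0 := by simpa using hv₁p 1
  have h1d : φ d v₁ = 0 := by simpa using hv₁p 2
  have h1w₁ : φ w₁ v₁ = 0 := by simpa using hv₁p 3
  have h1w₂ : φ w₂ v₁ = 0 := by simpa using hv₁p 4
  have hli1 : LinearIndependent F ![e, v₁] := li2_of_not_smul he0
    (fun c hc' => hv₁n (Submodule.mem_span_singleton.mpr ⟨c, hc'.symm⟩))
  -- step 2
  obtain ⟨t₀, ht₀e, ht₀v⟩ := exists_polar2 Q hQ hli1 0 1
  obtain ⟨t, ht⟩ : ∃ t, t = hproj Q w₁ w₂ (hproj Q b d t₀) := ⟨_, rfl⟩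
  have hte : φ e t = 0 := by
    rw [ht, hproj_of_perp Q hew₁ hew₂, hproj_of_perp Q heb hed, ht₀e]
  have htb : φ b t = 0 := by
    rw [ht, hproj_of_perp Q (by rw [hc]; exact hw₁b) (by rw [hc]; exact hw₂b),
      hproj_left Q hb hbd]
  have htd : φ d t = 0 := by
    rw [ht, hproj_of_perp Q (by rw [hc]; exact hw₁d) (by rw [hc]; exact hw₂d),
      hproj_right Q hd hbd]
  have htw₁ : φ w₁ t = 0 := by rw [ht, hproj_left Q hw₁ hw]
  have htw₂ : φ w₂ t = 0 := by rw [ht, hproj_right Q hw₂ hw]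
  have htv : φ v₁ t = 1 := by
    rw [ht, hproj_of_perp Q (by rw [hc]; exact h1w₁) (by rw [hc]; exact h1w₂),
      hproj_of_perp Q (by rw [hc]; exact h1b) (by rw [hc]; exact h1d), ht₀v]
  obtain ⟨v₂, hv₂def⟩ : ∃ v₂, v₂ = t - Q t • v₁ := ⟨_, rfl⟩
  have hv₂ : Q v₂ = 0 := by
    rw [hv₂def, quad_sub_smul, hv₁, hc t v₁, htv]
    ring
  have h2e : φ e v₂ = 0 := by
    rw [hv₂def, QuadraticMap.polar_sub_right, polar_smul_right_eq, hte, h1e]; ring
  have h2b : φ b v₂ = 0 := by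
    rw [hv₂def, QuadraticMap.polar_sub_right, polar_smul_right_eq, htb, h1b]; ring
  have h2d : φ d v₂ = 0 := by
    rw [hv₂def, QuadraticMap.polar_sub_right, polar_smul_right_eq, htd, h1d]; ring
  have h2w₁ : φ w₁ v₂ = 0 := by
    rw [hv₂def, QuadraticMap.polar_sub_right, polar_smul_right_eq, htw₁, h1w₁]; ring
  have h2w₂ : φ w₂ v₂ = 0 := by
    rw [hv₂def, QuadraticMap.polar_sub_right, polar_smul_right_eq, htw₂, h1w₂]; ring
  have h12 : φ v₁ v₂ = 1 := by
    rw [hv₂def, QuadraticMap.polar_sub_right, polar_smul_right_eq, htv, polar_self_zero Q hv₁]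
    ring
  have h12' : φ v₁ v₂ ≠ 0 := by rw [h12]; exact one_ne_zero
  -- step 3
  have hX : ∃ t', Q t' ≠ 0 ∧ φ e t' = 0 ∧ φ b t' = 0 ∧ φ d t' = 0 ∧ φ w₁ t' = 0 ∧ φ w₂ t' = 0 ∧
      φ v₁ t' = 0 ∧ φ v₂ t' = 0 := by
    have hfr : 2 ≤ finrank F (Cfsg.Agent.Lib.Helper44.orth Q
        (Submodule.span F (Set.range ![e, b, d, w₁, w₂, v₁, v₂]))) := by
      have h1 : finrank F (Submodule.span F (Set.range ![e, b, d, w₁, w₂, v₁, v₂])) ≤ 7 := by
        have := finrank_range_le_card (R := F) ![e, b, d, w₁, w₂, v₁, v₂]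
        rwa [Fintype.card_fin] at this
      have h2 := Cfsg.Agent.Lib.Helper44.finrank_orth_ge Q hQ _ h1
      omega
    obtain ⟨z, hz, hzn⟩ : ∃ z ∈ Cfsg.Agent.Lib.Helper44.orth Q
        (Submodule.span F (Set.range ![e, b, d, w₁, w₂, v₁, v₂])), z ∉ Submodule.span F {e} := by
      by_contra hcon
      push Not at hcon
      have hle : Cfsg.Agent.Lib.Helper44.orth Q
          (Submodule.span F (Set.range ![e, b, d, w₁, w₂, v₁, v₂])) ≤ Submodule.span F {e} :=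
        hcon
      have := Submodule.finrank_mono hle
      omega
    rw [Cfsg.Agent.Lib.Helper44.mem_orth_iff] at hz
    have hzi : ∀ i, φ (![e, b, d, w₁, w₂, v₁, v₂] i) z = 0 :=
      fun i => hz _ (Submodule.subset_span ⟨i, rfl⟩)
    have ze : φ e z = 0 := by simpa using hzi 0
    have zb : φ b z = 0 := by simpa using hzi 1
    have zd : φ d z = 0 := by simpa using hzi 2
    have zw₁ : φ w₁ z = 0 := by simpa using hzi 3
    have zw₂ : φ w₂ z = 0 := by simpa using hzi 4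
    have zv₁ : φ v₁ z = 0 := by simpa using hzi 5
    have zv₂ : φ v₂ z = 0 := by simpa using hzi 6
    by_cases hQz : Q z = 0
    swap
    · exact ⟨z, hQz, ze, zb, zd, zw₁, zw₂, zv₁, zv₂⟩
    have hli2 : LinearIndependent F ![e, z] := li2_of_not_smul he0
      (fun c hc' => hzn (Submodule.mem_span_singleton.mpr ⟨c, hc'.symm⟩))
    obtain ⟨y₀, hy₀e, hy₀z⟩ := exists_polar2 Q hQ hli2 0 1
    obtain ⟨y, hy⟩ : ∃ y, y = hproj Q v₁ v₂ (hproj Q w₁ w₂ (hproj Q b d y₀)) := ⟨_, rfl⟩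
    have ye : φ e y = 0 := by
      rw [hy, hproj_of_perp Q h1e h2e, hproj_of_perp Q hew₁ hew₂, hproj_of_perp Q heb hed, hy₀e]
    have yb : φ b y = 0 := by
      rw [hy, hproj_of_perp Q h1b h2b,
        hproj_of_perp Q (by rw [hc]; exact hw₁b) (by rw [hc]; exact hw₂b), hproj_left Q hb hbd]
    have yd : φ d y = 0 := by
      rw [hy, hproj_of_perp Q h1d h2d,
        hproj_of_perp Q (by rw [hc]; exact hw₁d) (by rw [hc]; exact hw₂d), hproj_right Q hd hbd]
    have yw₁ : φ w₁ y = 0 := by rw [hy, hproj_of_perp Q h1w₁ h2w₁, hproj_left Q hw₁ hw]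
    have yw₂ : φ w₂ y = 0 := by rw [hy, hproj_of_perp Q h1w₂ h2w₂, hproj_right Q hw₂ hw]
    have yv₁ : φ v₁ y = 0 := by rw [hy, hproj_left Q hv₁ h12']
    have yv₂ : φ v₂ y = 0 := by rw [hy, hproj_right Q hv₂ h12']
    have yz : φ z y = 1 := by
      rw [hy, hproj_of_perp Q (by rw [hc]; exact zv₁) (by rw [hc]; exact zv₂),
        hproj_of_perp Q (by rw [hc]; exact zw₁) (by rw [hc]; exact zw₂),
        hproj_of_perp Q (by rw [hc]; exact zb) (by rw [hc]; exact zd), hy₀z]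
    by_cases hQy : Q y = 0
    swap
    · exact ⟨y, hQy, ye, yb, yd, yw₁, yw₂, yv₁, yv₂⟩
    refine ⟨z + y, ?_, ?_, ?_, ?_, ?_, ?_, ?_, ?_⟩
    · rw [QuadraticMap.map_add (⇑Q), hQz, hQy, yz]
      simp
    · rw [QuadraticMap.polar_add_right, ze, ye, add_zero]
    · rw [QuadraticMap.polar_add_right, zb, yb, add_zero]
    · rw [QuadraticMap.polar_add_right, zd, yd, add_zero]
    · rw [QuadraticMap.polar_add_right, zw₁, yw₁, add_zero]
    · rw [QuadraticMap.polar_add_right, zw₂, yw₂, add_zero]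
    · rw [QuadraticMap.polar_add_right, zv₁, yv₁, add_zero]
    · rw [QuadraticMap.polar_add_right, zv₂, yv₂, add_zero]
  obtain ⟨t', ht'Q, t'e, t'b, t'd, t'w₁, t'w₂, t'v₁, t'v₂⟩ := hX
  obtain ⟨v₃, hv₃def⟩ : ∃ v₃, v₃ = v₁ - Q t' • v₂ + t' := ⟨_, rfl⟩
  have hv₃ : Q v₃ = 0 := by
    rw [hv₃def, QuadraticMap.map_add (⇑Q), quad_sub_smul, hv₁, hv₂, h12,
      QuadraticMap.polar_sub_left, polar_smul_left_eq, t'v₁, t'v₂]
    ring
  have h3e : φ e v₃ = 0 := by
    rw [hv₃def, QuadraticMap.polar_add_right, QuadraticMap.polar_sub_right, polar_smul_right_eq,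
      h1e, h2e, t'e]; ring
  have h3b : φ b v₃ = 0 := by
    rw [hv₃def, QuadraticMap.polar_add_right, QuadraticMap.polar_sub_right, polar_smul_right_eq,
      h1b, h2b, t'b]; ring
  have h3d : φ d v₃ = 0 := by
    rw [hv₃def, QuadraticMap.polar_add_right, QuadraticMap.polar_sub_right, polar_smul_right_eq,
      h1d, h2d, t'd]; ring
  have h3w₁ : φ w₁ v₃ = 0 := by
    rw [hv₃def, QuadraticMap.polar_add_right, QuadraticMap.polar_sub_right, polar_smul_right_eq,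
      h1w₁, h2w₁, t'w₁]; ring
  have h3w₂ : φ w₂ v₃ = 0 := by
    rw [hv₃def, QuadraticMap.polar_add_right, QuadraticMap.polar_sub_right, polar_smul_right_eq,
      h1w₂, h2w₂, t'w₂]; ring
  have h13 : φ v₁ v₃ = - Q t' := by
    rw [hv₃def, QuadraticMap.polar_add_right, QuadraticMap.polar_sub_right, polar_smul_right_eq,
      polar_self_zero Q hv₁, h12, t'v₁]; ring
  have h23 : φ v₂ v₃ = 1 := by
    rw [hv₃def, QuadraticMap.polar_add_right, QuadraticMap.polar_sub_right, polar_smul_right_eq,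
      polar_self_zero Q hv₂, hc v₂ v₁, h12, t'v₂]; ring
  refine ⟨v₁, v₂, v₃, ⟨hv₁, h1e, h1b, h1d, h1w₁, h1w₂⟩, ⟨hv₂, h2e, h2b, h2d, h2w₁, h2w₂⟩,
    ⟨hv₃, h3e, h3b, h3d, h3w₁, h3w₂⟩, h12', ?_, ?_⟩
  · rw [h13]
    exact neg_ne_zero.mpr ht'Q
  · rw [h23]
    exact one_ne_zero

end autoF

end Cfsg.Agent.Lib.Helper14
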