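import Mathlib
import Cfsg.Agent.Lib.Helper14.AutOF

/-!
# Automorphisms of orthogonal groups: from lines to points

The relation "the lines of two long root elements meet" is definable from the group structure
of `PΩ`, so an automorphism maps the unipotent radical `Q_a` of a singular point into that of
another singular point.
-/

set_option autoImplicit false

namespace Cfsg.Agent.Lib.Helper14

open Matrix Module

section rel2

variable {H : Type*} [Group H]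

/-- The intrinsic description of "the lines meet in a point and are not perpendicular". -/
def P3 (𝒟 : Set H) (big : Prop) (X Y : H) : Prop := (big ∧ G3 𝒟 X Y) ∨ (¬ big ∧ TRel 𝒟 X Y)

/-- The intrinsic description of "the lines meet". -/
def MeetRel (𝒟 : Set H) (big : Prop) (X Y : H) : Prop := SRel 𝒟 X Y ∨ P3 𝒟 big X Y

theorem p3_map {𝒟 : Set H} (f : H ≃* H) (h𝒟 : ∀ X, f X ∈ 𝒟 ↔ X ∈ 𝒟) (big : Prop) (X Y : H) :
    P3 𝒟 big (f X) (f Y) ↔ P3 𝒟 big X Y := by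
  unfold P3
  rw [g3_map f h𝒟, trel_map f h𝒟]

theorem meetRel_map {𝒟 : Set H} (f : H ≃* H) (h𝒟 : ∀ X, f X ∈ 𝒟 ↔ X ∈ 𝒟) (big : Prop)
    (X Y : H) : MeetRel 𝒟 big (f X) (f Y) ↔ MeetRel 𝒟 big X Y := by
  unfold MeetRel
  rw [srel_map f h𝒟, p3_map f h𝒟]

end rel2

section autoG

variable {ι : Type} [Fintype ι] [DecidableEq ι] {F : Type*} [Field F] [Fintype F]
variable (Q : QuadraticForm F (ι → F))

/-- There is no totally singular subspace of dimension four. -/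
def NoTS4 : Prop := ∀ a b c d : ι → F, TSP Q a b → TSP Q c d →
  QuadraticMap.polar ⇑Q a c = 0 → QuadraticMap.polar ⇑Q a d = 0 →
  QuadraticMap.polar ⇑Q b c = 0 → QuadraticMap.polar ⇑Q b d = 0 →
  ¬ LinearIndependent F ![a, b, c, d]

variable (hQ : (QuadraticMap.polarBilin Q).Nondegenerate)
variable (hn : 7 ≤ Fintype.card ι) (p : ℕ) [Fact p.Prime] [CharP F p]

set_option quotPrecheck false in
local notation "φ" => QuadraticMap.polar (⇑Q)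
set_option quotPrecheck false in
local notation "𝐄" => eo Q hQ (five_le hn)
set_option quotPrecheck false in
local notation "pr" => pim Q
set_option quotPrecheck false in
local notation "𝒟" => Dbar Q hQ (five_le hn)

include hQ hn

theorem omat_eo_root {a b : ι → F} (h : TSP Q a b) : IsRootMat Q (omat Q (𝐄 a b)) :=
  ⟨a, b, h, omat_eo Q hQ _ h.1 h.2.2.1⟩

theorem rootElt_eq {x : ↥(Cfsg.Omega F ⇑Q)} (hx : IsRootMat Q (omat Q x)) :
    ∃ a b, TSP Q a b ∧ x = 𝐄 a b := by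
  obtain ⟨a, b, hab, h⟩ := hx
  exact ⟨a, b, hab, omat_injective Q (by rw [h, omat_eo Q hQ _ hab.1 hab.2.2.1])⟩

theorem exists_root_of_mem_Dbar {X : Cfsg.POmega F ⇑Q} (hX : X ∈ 𝒟) :
    ∃ x, IsRootMat Q (omat Q x) ∧ pr x = X := by
  obtain ⟨a, b, hab, rfl⟩ := hX
  exact ⟨_, omat_eo_root Q hQ hn hab, rfl⟩

include p

theorem rootElt_isPElt {x : ↥(Cfsg.Omega F ⇑Q)} (hx : IsRootMat Q (omat Q x)) : IsPElt p x := by
  obtain ⟨a, b, -, rfl⟩ := rootElt_eq Q hQ hn hx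
  exact eo_isPElt Q hQ _ p a b

theorem pim_inj_pElt {x y : ↥(Cfsg.Omega F ⇑Q)} (hx : IsPElt p x) (hy : IsPElt p y)
    (h : pr x = pr y) : x = y :=
  eq_of_mk_eq_of_isPElt (omega_center_pElt Q hQ hn p) hx hy h

theorem mem_Dbar_iff {x : ↥(Cfsg.Omega F ⇑Q)} (hx : IsPElt p x) :
    pr x ∈ 𝒟 ↔ IsRootMat Q (omat Q x) := by
  constructor
  · rintro ⟨a, b, hab, h⟩
    have := pim_inj_pElt Q hQ hn p hx (eo_isPElt Q hQ _ p a b) h
    rw [this]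
    exact omat_eo_root Q hQ hn hab
  · intro h
    obtain ⟨a, b, hab, rfl⟩ := rootElt_eq Q hQ hn h
    exact ⟨a, b, hab, rfl⟩

theorem pim_eq_one_iff {x : ↥(Cfsg.Omega F ⇑Q)} (hx : IsPElt p x) : pr x = 1 ↔ x = 1 := by
  constructor
  · intro h
    exact pim_inj_pElt Q hQ hn p hx (IsPElt.one p) (by rw [h, map_one])
  · rintro rfl
    exact map_one _

theorem commute_pim_iff {x y : ↥(Cfsg.Omega F ⇑Q)} (hy : IsPElt p y) :
    Commute (pr x) (pr y) ↔ omat Q x * omat Q y = omat Q y * omat Q x := by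
  constructor
  · intro h
    have := commute_of_mk_commute (omega_center_pElt Q hQ hn p) hy h
    have h2 := congrArg (omat Q) this.eq
    rwa [omat_mul, omat_mul] at h2
  · intro h
    have h2 : x * y = y * x := omat_injective Q (by rw [omat_mul, omat_mul, h])
    show pr x * pr y = pr y * pr x
    rw [← map_mul, ← map_mul, h2]

theorem rootOrOne_pim_iff {x y : ↥(Cfsg.Omega F ⇑Q)} (hx : IsPElt p x) (hy : IsPElt p y)
    (hc : omat Q x * omat Q y = omat Q y * omat Q x) :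
    (pr x * pr y ∈ 𝒟 ∨ pr x * pr y = 1) ↔ RootOrOne Q (omat Q x * omat Q y) := by
  have h2 : x * y = y * x := omat_injective Q (by rw [omat_mul, omat_mul, hc])
  have hxy : IsPElt p (x * y) := IsPElt.mul hx hy h2
  rw [← map_mul, mem_Dbar_iff Q hQ hn p hxy, pim_eq_one_iff Q hQ hn p hxy, omat_mul]
  unfold RootOrOne
  constructor
  · rintro (h | h)
    · exact Or.inl h
    · right
      rw [← omat_mul, h, omat_one]
  · rintro (h | h)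
    · exact Or.inl h
    · right
      apply omat_injective Q
      rw [omat_mul, h, omat_one]

theorem srel_pim_iff {x y : ↥(Cfsg.Omega F ⇑Q)} (hx : IsRootMat Q (omat Q x))
    (hy : IsRootMat Q (omat Q y)) :
    SRel 𝒟 (pr x) (pr y) ↔ MeetL (omat Q x) (omat Q y) ∧ PerpL Q (omat Q x) (omat Q y) := by
  rw [← sm_iff Q hQ hx hy]
  unfold SRel SM
  have hpx := rootElt_isPElt Q hQ hn p hx
  have hpy := rootElt_isPElt Q hQ hn p hy
  rw [commute_pim_iff Q hQ hn p hpy]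
  constructor
  · rintro ⟨h1, h2⟩
    exact ⟨h1, (rootOrOne_pim_iff Q hQ hn p hpx hpy h1).mp h2⟩
  · rintro ⟨h1, h2⟩
    exact ⟨h1, (rootOrOne_pim_iff Q hQ hn p hpx hpy h1).mpr h2⟩

theorem trel_pim_iff {x y : ↥(Cfsg.Omega F ⇑Q)} (hx : IsRootMat Q (omat Q x))
    (hy : IsRootMat Q (omat Q y)) :
    TRel 𝒟 (pr x) (pr y) ↔ (MeetL (omat Q x) (omat Q y) ∨ PerpL Q (omat Q x) (omat Q y)) ∧
      ¬ (MeetL (omat Q x) (omat Q y) ∧ PerpL Q (omat Q x) (omat Q y)) := by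
  rw [← tm_iff Q hQ hx hy]
  unfold TRel TM
  have hpx := rootElt_isPElt Q hQ hn p hx
  have hpy := rootElt_isPElt Q hQ hn p hy
  rw [commute_pim_iff Q hQ hn p hpy]
  constructor
  · rintro ⟨h1, h2⟩
    exact ⟨h1, fun h3 => h2 ((rootOrOne_pim_iff Q hQ hn p hpx hpy h1).mpr h3)⟩
  · rintro ⟨h1, h2⟩
    exact ⟨h1, fun h3 => h2 ((rootOrOne_pim_iff Q hQ hn p hpx hpy h1).mp h3)⟩

/-- Disjoint perpendicular lines fail the large-perp criterion. -/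
theorem not_g3_of_perp {x y : ↥(Cfsg.Omega F ⇑Q)} (hx : IsRootMat Q (omat Q x))
    (hy : IsRootMat Q (omat Q y)) (hm : ¬ MeetL (omat Q x) (omat Q y))
    (hp : PerpL Q (omat Q x) (omat Q y)) : ¬ G3 𝒟 (pr x) (pr y) := by
  intro hG
  obtain ⟨a, b, hab, rfl⟩ := rootElt_eq Q hQ hn hx
  obtain ⟨c, d, hcd, rfl⟩ := rootElt_eq Q hQ hn hy
  have eab := omat_eo Q hQ (five_le hn) hab.1 hab.2.2.1
  have ecd := omat_eo Q hQ (five_le hn) hcd.1 hcd.2.2.1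
  rw [eab, ecd] at hm hp
  have hli : LinearIndependent F ![a, b, c, d] := (meet_or_li4 Q hQ hab hcd).resolve_left hm
  obtain ⟨k1, k2, k3, k4⟩ := four_of_perpL Q hQ hab hcd hp
  have hl4 := li4_iff.mp hli
  have hc := fun (x y : ι → F) => QuadraticMap.polar_comm (⇑Q) x y
  have hac : TSP Q a c := ⟨hab.1, hcd.1, k1, by
    rw [LinearIndependent.pair_iff]
    intro s t hst
    have := hl4 s 0 t 0 (by rw [← hst]; module)
    exact ⟨this.1, this.2.2.1⟩⟩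
  have hbd : TSP Q b d := ⟨hab.2.1, hcd.2.1, k4, by
    rw [LinearIndependent.pair_iff]
    intro s t hst
    have := hl4 0 s 0 t (by rw [← hst]; module)
    exact ⟨this.2.1, this.2.2.2⟩⟩
  have hliad : LinearIndependent F ![a, d] := by
    rw [LinearIndependent.pair_iff]
    intro s t hst
    have := hl4 s 0 0 t (by rw [← hst]; module)
    exact ⟨this.1, this.2.2.2⟩
  have hlibc : LinearIndependent F ![b, c] := by
    rw [LinearIndependent.pair_iff]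
    intro s t hst
    have := hl4 0 s t 0 (by rw [← hst]; module)
    exact ⟨this.2.1, this.2.2.1⟩
  have rab := omat_eo_root Q hQ hn hab
  have rcd := omat_eo_root Q hQ hn hcd
  have rac := omat_eo_root Q hQ hn hac
  have rbd := omat_eo_root Q hQ hn hbd
  have eac := omat_eo Q hQ (five_le hn) hac.1 hac.2.2.1
  have ebd := omat_eo Q hQ (five_le hn) hbd.1 hbd.2.2.1
  have ha0 := li2_ne_zero_left hab.2.2.2
  have hb0 := li2_ne_zero_right hab.2.2.2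
  have hc0 := li2_ne_zero_left hcd.2.2.2
  have hd0 := li2_ne_zero_right hcd.2.2.2
  have hZ1x : SRel 𝒟 (pr (𝐄 a c)) (pr (𝐄 a b)) := by
    rw [srel_pim_iff Q hQ hn p rac rab, eac, eab]
    exact ⟨⟨a, ha0, left_mem_lin Q hQ hac, left_mem_lin Q hQ hab⟩,
      perpL_of_four Q hQ hac hab (polar_self_zero Q hab.1) hab.2.2.1 (by rw [hc]; exact k1)
        (by rw [hc]; exact k3)⟩
  have hZ1y : SRel 𝒟 (pr (𝐄 a c)) (pr (𝐄 c d)) := by
    rw [srel_pim_iff Q hQ hn p rac rcd, eac, ecd]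
    exact ⟨⟨c, hc0, right_mem_lin Q hQ hac, left_mem_lin Q hQ hcd⟩,
      perpL_of_four Q hQ hac hcd k1 k2 (polar_self_zero Q hcd.1) hcd.2.2.1⟩
  have hZ2x : SRel 𝒟 (pr (𝐄 b d)) (pr (𝐄 a b)) := by
    rw [srel_pim_iff Q hQ hn p rbd rab, ebd, eab]
    exact ⟨⟨b, hb0, left_mem_lin Q hQ hbd, right_mem_lin Q hQ hab⟩,
      perpL_of_four Q hQ hbd hab (by rw [hc]; exact hab.2.2.1) (polar_self_zero Q hab.2.1)
        (by rw [hc]; exact k2) (by rw [hc]; exact k4)⟩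
  have hZ2y : SRel 𝒟 (pr (𝐄 b d)) (pr (𝐄 c d)) := by
    rw [srel_pim_iff Q hQ hn p rbd rcd, ebd, ecd]
    exact ⟨⟨d, hd0, right_mem_lin Q hQ hbd, right_mem_lin Q hQ hcd⟩,
      perpL_of_four Q hQ hbd hcd k3 k4 (by rw [hc]; exact hcd.2.2.1)
        (polar_self_zero Q hcd.2.1)⟩
  have hT : TRel 𝒟 (pr (𝐄 a c)) (pr (𝐄 b d)) := by
    rw [trel_pim_iff Q hQ hn p rac rbd, eac, ebd]
    refine ⟨Or.inr (perpL_of_four Q hQ hac hbd hab.2.2.1 k2 (by rw [hc]; exact k3) hcd.2.2.1), ?_⟩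
    rintro ⟨⟨e, he, h1, h2⟩, -⟩
    obtain ⟨s, t, hst⟩ := (mem_lin_root Q hQ hac e).mp h1
    obtain ⟨s', t', hst'⟩ := (mem_lin_root Q hQ hbd e).mp h2
    have := hl4 s (-s') t (-t') (by
      have : e - e = 0 := sub_self e
      nth_rewrite 1 [hst] at this
      rw [hst'] at this
      rw [← this]; module)
    apply he
    rw [hst, this.1, this.2.2.1]
    simp
  obtain ⟨W₁, W₂, W₃, ⟨a1, a2⟩, ⟨b1, b2⟩, ⟨c1, c2⟩, t12, t13, t23⟩ :=
    hG.2 _ _ ⟨⟨a, c, hac, rfl⟩, hZ1x, hZ1y⟩ ⟨⟨b, d, hbd, rfl⟩, hZ2x, hZ2y⟩ hT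
  have hW : ∀ W, W ∈ MSet 𝒟 (pr (𝐄 a b)) (pr (𝐄 c d)) →
      W ∈ MSet 𝒟 (pr (𝐄 a c)) (pr (𝐄 b d)) →
      ∃ w, IsRootMat Q (omat Q w) ∧ pr w = W ∧
        ((a ∈ lin (omat Q w) ∧ d ∈ lin (omat Q w)) ∨
          (b ∈ lin (omat Q w) ∧ c ∈ lin (omat Q w))) := by
    rintro W ⟨hWD, hWx, hWy⟩ ⟨-, hWz1, hWz2⟩
    obtain ⟨w, hw, rfl⟩ := exists_root_of_mem_Dbar Q hQ hn hWD
    refine ⟨w, hw, rfl, ?_⟩
    rw [srel_pim_iff Q hQ hn p hw rab, eab] at hWx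
    rw [srel_pim_iff Q hQ hn p hw rcd, ecd] at hWy
    rw [srel_pim_iff Q hQ hn p hw rac, eac] at hWz1
    rw [srel_pim_iff Q hQ hn p hw rbd, ebd] at hWz2
    exact grid_cases Q hQ hli hab hcd hac hbd hw hWx.1 hWy.1 hWz1.1 hWz2.1
  obtain ⟨w₁, hw₁, rfl, hc₁⟩ := hW W₁ a1 a2
  obtain ⟨w₂, hw₂, rfl, hc₂⟩ := hW W₂ b1 b2
  obtain ⟨w₃, hw₃, rfl, hc₃⟩ := hW W₃ c1 c2
  have contra : ∀ w w', IsRootMat Q (omat Q w) → IsRootMat Q (omat Q w') →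
      TRel 𝒟 (pr w) (pr w') →
      ((a ∈ lin (omat Q w) ∧ d ∈ lin (omat Q w)) →
        (a ∈ lin (omat Q w') ∧ d ∈ lin (omat Q w')) → False) ∧
      ((b ∈ lin (omat Q w) ∧ c ∈ lin (omat Q w)) →
        (b ∈ lin (omat Q w') ∧ c ∈ lin (omat Q w')) → False) := by
    intro w w' hw hw' hT
    rw [trel_pim_iff Q hQ hn p hw hw'] at hT
    exact ⟨fun h h' => hT.2 (sm_of_common_pair Q hQ hw hw' hliad h.1 h.2 h'.1 h'.2),
      fun h h' => hT.2 (sm_of_common_pair Q hQ hw hw' hlibc h.1 h.2 h'.1 h'.2)⟩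
  rcases hc₁ with h1 | h1 <;> rcases hc₂ with h2 | h2 <;> rcases hc₃ with h3 | h3
  · exact (contra w₁ w₂ hw₁ hw₂ t12).1 h1 h2
  · exact (contra w₁ w₂ hw₁ hw₂ t12).1 h1 h2
  · exact (contra w₁ w₃ hw₁ hw₃ t13).1 h1 h3
  · exact (contra w₂ w₃ hw₂ hw₃ t23).2 h2 h3
  · exact (contra w₂ w₃ hw₂ hw₃ t23).1 h2 h3
  · exact (contra w₁ w₃ hw₁ hw₃ t13).2 h1 h3
  · exact (contra w₁ w₂ hw₁ hw₂ t12).2 h1 h2
  · exact (contra w₁ w₂ hw₁ hw₂ t12).2 h1 h2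

/-- Lines meeting in a point and not perpendicular satisfy the large-perp criterion in
dimension at least nine. -/
theorem g3_of_meet (hn9 : 9 ≤ Fintype.card ι) {x y : ↥(Cfsg.Omega F ⇑Q)}
    (hx : IsRootMat Q (omat Q x)) (hy : IsRootMat Q (omat Q y))
    (hm : MeetL (omat Q x) (omat Q y)) (hp : ¬ PerpL Q (omat Q x) (omat Q y)) :
    G3 𝒟 (pr x) (pr y) := by
  obtain ⟨e, b, d, hb, hd, hxe, hye⟩ := meet_form Q hQ hx hy hm
  have hc := fun (x y : ι → F) => QuadraticMap.polar_comm (⇑Q) x y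
  have he0 := li2_ne_zero_left hb.2.2.2
  have hbd : φ b d ≠ 0 := by
    intro h0
    apply hp
    rw [hxe, hye]
    exact perpL_of_four Q hQ hb hd (polar_self_zero Q hb.1) hd.2.2.1
      (by rw [hc]; exact hb.2.2.1) h0
  refine ⟨(trel_pim_iff Q hQ hn p hx hy).mpr ⟨Or.inl hm, fun h => hp h.2⟩, ?_⟩
  rintro Z₁ Z₂ ⟨hZ₁D, hZ₁x, hZ₁y⟩ ⟨hZ₂D, hZ₂x, hZ₂y⟩ hT
  obtain ⟨z₁, hz₁, rfl⟩ := exists_root_of_mem_Dbar Q hQ hn hZ₁D
  obtain ⟨z₂, hz₂, rfl⟩ := exists_root_of_mem_Dbar Q hQ hn hZ₂D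
  rw [srel_pim_iff Q hQ hn p hz₁ hx, hxe] at hZ₁x
  rw [srel_pim_iff Q hQ hn p hz₁ hy, hye] at hZ₁y
  rw [srel_pim_iff Q hQ hn p hz₂ hx, hxe] at hZ₂x
  rw [srel_pim_iff Q hQ hn p hz₂ hy, hye] at hZ₂y
  have he₁ : e ∈ lin (omat Q z₁) := star_of_meet_perp Q hQ hb hd hbd hZ₁x.1 hZ₁y.2
  have he₂ : e ∈ lin (omat Q z₂) := star_of_meet_perp Q hQ hb hd hbd hZ₂x.1 hZ₂y.2
  obtain ⟨w₁, hw₁, hz₁e⟩ := root_at Q hQ hz₁ he₁ he0
  obtain ⟨w₂, hw₂, hz₂e⟩ := root_at Q hQ hz₂ he₂ he0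
  have hw₁mem : w₁ ∈ lin (omat Q z₁) := by rw [hz₁e]; exact right_mem_lin Q hQ hw₁
  have hw₂mem : w₂ ∈ lin (omat Q z₂) := by rw [hz₂e]; exact right_mem_lin Q hQ hw₂
  have hw₁b : φ w₁ b = 0 := hZ₁x.2 w₁ hw₁mem b (right_mem_lin Q hQ hb)
  have hw₁d : φ w₁ d = 0 := hZ₁y.2 w₁ hw₁mem d (right_mem_lin Q hQ hd)
  have hw₂b : φ w₂ b = 0 := hZ₂x.2 w₂ hw₂mem b (right_mem_lin Q hQ hb)
  have hw₂d : φ w₂ d = 0 := hZ₂y.2 w₂ hw₂mem d (right_mem_lin Q hQ hd)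
  have hw : φ w₁ w₂ ≠ 0 := by
    intro h0
    rw [trel_pim_iff Q hQ hn p hz₁ hz₂] at hT
    apply hT.2
    rw [hz₁e, hz₂e]
    exact ⟨⟨e, he0, left_mem_lin Q hQ hw₁, left_mem_lin Q hQ hw₂⟩,
      perpL_of_four Q hQ hw₁ hw₂ (polar_self_zero Q hb.1) hw₂.2.2.1
        (by rw [hc]; exact hw₁.2.2.1) h0⟩
  obtain ⟨v₁, v₂, v₃, ⟨q1, e1, b1, d1, x1, y1⟩, ⟨q2, e2, b2, d2, x2, y2⟩,
    ⟨q3, e3, b3, d3, x3, y3⟩, n12, n13, n23⟩ :=
    exists_triple Q hQ hn9 he0 hb.2.1 hd.2.1 hw₁.2.1 hw₂.2.1 hb.2.2.1 hd.2.2.1 hw₁.2.2.1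
      hw₂.2.2.1 hbd hw₁b hw₁d hw₂b hw₂d hw
  have tsp_of : ∀ v v', Q v = 0 → φ e v = 0 → φ v v' ≠ 0 → φ e v' = 0 → TSP Q e v := by
    intro v v' hv hev hvv' hev'
    refine ⟨hb.1, hv, hev, li2_of_not_smul he0 ?_⟩
    rintro c rfl
    apply hvv'
    rw [polar_smul_left_eq, hev', mul_zero]
  have T1 := tsp_of v₁ v₂ q1 e1 n12 e2
  have T2 := tsp_of v₂ v₁ q2 e2 (by rw [hc]; exact n12) e1
  have T3 := tsp_of v₃ v₁ q3 e3 (by rw [hc]; exact n13) e1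
  have mem : ∀ v, TSP Q e v → φ b v = 0 → φ d v = 0 → φ w₁ v = 0 → φ w₂ v = 0 →
      pr (𝐄 e v) ∈ MSet 𝒟 (pr x) (pr y) ∧ pr (𝐄 e v) ∈ MSet 𝒟 (pr z₁) (pr z₂) := by
    intro v hv hbv hdv hw₁v hw₂v
    have hr := omat_eo_root Q hQ hn hv
    have he' := omat_eo Q hQ (five_le hn) hv.1 hv.2.2.1
    have hmeet : ∀ u, TSP Q e u → MeetL (eichMat Q e v) (eichMat Q e u) :=
      fun u hu => ⟨e, he0, left_mem_lin Q hQ hv, left_mem_lin Q hQ hu⟩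
    have hperp : ∀ u, TSP Q e u → φ u v = 0 → PerpL Q (eichMat Q e v) (eichMat Q e u) :=
      fun u hu huv => perpL_of_four Q hQ hv hu (polar_self_zero Q hb.1) hu.2.2.1
        (by rw [hc]; exact hv.2.2.1) (by rw [hc]; exact huv)
    refine ⟨⟨⟨e, v, hv, rfl⟩, ?_, ?_⟩, ⟨⟨e, v, hv, rfl⟩, ?_, ?_⟩⟩
    · rw [srel_pim_iff Q hQ hn p hr hx, he', hxe]
      exact ⟨hmeet b hb, hperp b hb hbv⟩
    · rw [srel_pim_iff Q hQ hn p hr hy, he', hye]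
      exact ⟨hmeet d hd, hperp d hd hdv⟩
    · rw [srel_pim_iff Q hQ hn p hr hz₁, he', hz₁e]
      exact ⟨hmeet w₁ hw₁, hperp w₁ hw₁ hw₁v⟩
    · rw [srel_pim_iff Q hQ hn p hr hz₂, he', hz₂e]
      exact ⟨hmeet w₂ hw₂, hperp w₂ hw₂ hw₂v⟩
  have trel : ∀ v v', TSP Q e v → TSP Q e v' → φ v v' ≠ 0 →
      TRel 𝒟 (pr (𝐄 e v)) (pr (𝐄 e v')) := by
    intro v v' hv hv' hvv'
    rw [trel_pim_iff Q hQ hn p (omat_eo_root Q hQ hn hv) (omat_eo_root Q hQ hn hv'),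
      omat_eo Q hQ _ hv.1 hv.2.2.1, omat_eo Q hQ _ hv'.1 hv'.2.2.1]
    exact ⟨Or.inl ⟨e, he0, left_mem_lin Q hQ hv, left_mem_lin Q hQ hv'⟩,
      fun h => hvv' (four_of_perpL Q hQ hv hv' h.2).2.2.2⟩
  exact ⟨_, _, _, mem v₁ T1 b1 d1 x1 y1, mem v₂ T2 b2 d2 x2 y2, mem v₃ T3 b3 d3 x3 y3,
    trel v₁ v₂ T1 T2 n12, trel v₁ v₃ T1 T3 n13, trel v₂ v₃ T2 T3 n23⟩

theorem p3_pim_iff (hbig : 9 ≤ Fintype.card ι ∨ NoTS4 Q) {x y : ↥(Cfsg.Omega F ⇑Q)}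
    (hx : IsRootMat Q (omat Q x)) (hy : IsRootMat Q (omat Q y)) :
    P3 𝒟 (9 ≤ Fintype.card ι) (pr x) (pr y) ↔
      MeetL (omat Q x) (omat Q y) ∧ ¬ PerpL Q (omat Q x) (omat Q y) := by
  unfold P3
  constructor
  · rintro (⟨h9, hG⟩ | ⟨h9, hT⟩)
    · have hT := hG.1
      rw [trel_pim_iff Q hQ hn p hx hy] at hT
      by_cases hm : MeetL (omat Q x) (omat Q y)
      · exact ⟨hm, fun hp => hT.2 ⟨hm, hp⟩⟩
      · exact absurd hG (not_g3_of_perp Q hQ hn p hx hy hm (hT.1.resolve_left hm))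
    · rw [trel_pim_iff Q hQ hn p hx hy] at hT
      by_cases hm : MeetL (omat Q x) (omat Q y)
      · exact ⟨hm, fun hp => hT.2 ⟨hm, hp⟩⟩
      · exfalso
        have hp := hT.1.resolve_left hm
        have hno := hbig.resolve_left h9
        obtain ⟨a, b, hab, hxe⟩ := hx
        obtain ⟨c, d, hcd, hye⟩ := hy
        rw [hxe, hye] at hm hp
        obtain ⟨k1, k2, k3, k4⟩ := four_of_perpL Q hQ hab hcd hp
        exact hno a b c d hab hcd k1 k2 k3 k4 ((meet_or_li4 Q hQ hab hcd).resolve_left hm)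
  · rintro ⟨hm, hp⟩
    by_cases h9 : 9 ≤ Fintype.card ι
    · exact Or.inl ⟨h9, g3_of_meet Q hQ hn p h9 hx hy hm hp⟩
    · exact Or.inr ⟨h9, (trel_pim_iff Q hQ hn p hx hy).mpr ⟨Or.inl hm, fun h => hp h.2⟩⟩

theorem meetRel_pim_iff (hbig : 9 ≤ Fintype.card ι ∨ NoTS4 Q) {x y : ↥(Cfsg.Omega F ⇑Q)}
    (hx : IsRootMat Q (omat Q x)) (hy : IsRootMat Q (omat Q y)) :
    MeetRel 𝒟 (9 ≤ Fintype.card ι) (pr x) (pr y) ↔ MeetL (omat Q x) (omat Q y) := by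
  unfold MeetRel
  rw [srel_pim_iff Q hQ hn p hx hy, p3_pim_iff Q hQ hn p hbig hx hy]
  constructor
  · rintro (h | h) <;> exact h.1
  · intro h
    by_cases hp : PerpL Q (omat Q x) (omat Q y)
    · exact Or.inl ⟨h, hp⟩
    · exact Or.inr ⟨h, hp⟩

end autoG

end Cfsg.Agent.Lib.Helper14
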