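import Mathlib
import Cfsg.Agent.Lib.Helper14.AutOG

/-!
# Automorphisms of orthogonal groups: the action on singular points

An automorphism of `PΩ` maps the image of the unipotent radical at a singular point onto the
image of the unipotent radical at another singular point.
-/

set_option autoImplicit false

namespace Cfsg.Agent.Lib.Helper14

open Matrix Module

section autoH

variable {ι : Type} [Fintype ι] [DecidableEq ι] {F : Type*} [Field F] [Fintype F]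
variable (Q : QuadraticForm F (ι → F)) (hQ : (QuadraticMap.polarBilin Q).Nondegenerate)
variable (hn : 7 ≤ Fintype.card ι) (p : ℕ) [Fact p.Prime] [CharP F p]

set_option quotPrecheck false in
local notation "φ" => QuadraticMap.polar (⇑Q)
set_option quotPrecheck false in
local notation "𝐄" => eo Q hQ (five_le hn)
set_option quotPrecheck false in
local notation "pr" => pim Q
set_option quotPrecheck false in
local notation "𝒟" => Dbar Q hQ (five_le hn)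

/-- The image in `PΩ` of the unipotent radical of the stabiliser of the singular point `a`. -/
def Qbar (a : ι → F) : Set (Cfsg.POmega F ⇑Q) := {X | ∃ w, φ a w = 0 ∧ X = pr (𝐄 a w)}

/-- The automorphism `α` maps the radical at `a` onto the radical at `a'`. -/
def PtRel (α : Cfsg.POmega F ⇑Q ≃* Cfsg.POmega F ⇑Q) (a a' : ι → F) : Prop :=
  ∀ X, α X ∈ Qbar Q hQ hn a' ↔ X ∈ Qbar Q hQ hn a

include hQ hn

theorem eo_smul_self {a : ι → F} (ha : Q a = 0) (c : F) : 𝐄 a (c • a) = 1 := by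
  apply omat_injective
  rw [omat_eo Q hQ _ ha (by rw [polar_smul_right_eq, polar_self_zero Q ha, mul_zero]),
    eichMat_smul_self Q ha, omat_one]

theorem eo_add_smul {a w : ι → F} (ha : Q a = 0) (haw : φ a w = 0) (c : F) :
    𝐄 a (w + c • a) = 𝐄 a w := by
  apply omat_injective
  rw [omat_eo Q hQ _ ha haw, omat_eo Q hQ _ ha (by
    rw [QuadraticMap.polar_add_right, haw, polar_smul_right_eq, polar_self_zero Q ha, mul_zero,
      add_zero]), eichMat_add_smul Q ha haw]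

theorem eo_smul_left {a w : ι → F} (ha : Q a = 0) (haw : φ a w = 0) (c : F) :
    𝐄 (c • a) w = 𝐄 a (c • w) := by
  apply omat_injective
  rw [omat_eo Q hQ _ (by rw [QuadraticMap.map_smul, ha, smul_zero])
      (by rw [polar_smul_left_eq, haw, mul_zero]),
    omat_eo Q hQ _ ha (by rw [polar_smul_right_eq, haw, mul_zero]), eichMat_smul_left]

theorem Qbar_one (a : ι → F) : (1 : Cfsg.POmega F ⇑Q) ∈ Qbar Q hQ hn a :=
  ⟨0, QuadraticMap.polar_zero_right _ _, by rw [eo_zero, map_one]⟩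

theorem Qbar_mul {a : ι → F} (ha : Q a = 0) {X Y : Cfsg.POmega F ⇑Q}
    (hX : X ∈ Qbar Q hQ hn a) (hY : Y ∈ Qbar Q hQ hn a) : X * Y ∈ Qbar Q hQ hn a := by
  obtain ⟨w, hw, rfl⟩ := hX
  obtain ⟨w', hw', rfl⟩ := hY
  exact ⟨w + w', by rw [QuadraticMap.polar_add_right, hw, hw', add_zero],
    by rw [← map_mul, eo_mul Q hQ _ ha hw hw']⟩

theorem Qbar_smul {a : ι → F} (ha : Q a = 0) {c : F} (hc : c ≠ 0) :
    Qbar Q hQ hn (c • a) = Qbar Q hQ hn a := by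
  ext X
  constructor
  · rintro ⟨w, hw, rfl⟩
    have haw : φ a w = 0 := by
      rw [polar_smul_left_eq] at hw
      exact (mul_eq_zero.mp hw).resolve_left hc
    exact ⟨c • w, by rw [polar_smul_right_eq, haw, mul_zero],
      by rw [eo_smul_left Q hQ hn ha haw]⟩
  · rintro ⟨w, hw, rfl⟩
    refine ⟨c⁻¹ • w, by rw [polar_smul_left_eq, polar_smul_right_eq, hw, mul_zero, mul_zero], ?_⟩
    rw [eo_smul_left Q hQ hn ha (by rw [polar_smul_right_eq, hw, mul_zero]), smul_smul,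
      mul_inv_cancel₀ hc, one_smul]

theorem Qbar_conj (g : ↥(Cfsg.Omega F ⇑Q)) {a : ι → F} (ha : Q a = 0)
    {X : Cfsg.POmega F ⇑Q} (hX : X ∈ Qbar Q hQ hn a) :
    pr g * X * (pr g)⁻¹ ∈ Qbar Q hQ hn (omat Q g *ᵥ a) := by
  obtain ⟨w, hw, rfl⟩ := hX
  refine ⟨omat Q g *ᵥ w, by rw [omat_polar]; exact hw, ?_⟩
  rw [← map_inv, ← map_mul, ← map_mul, eo_conj Q hQ _ g ha hw]

theorem Qbar_conj_iff (g : ↥(Cfsg.Omega F ⇑Q)) {a : ι → F} (ha : Q a = 0)
    (X : Cfsg.POmega F ⇑Q) :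
    pr g * X * (pr g)⁻¹ ∈ Qbar Q hQ hn (omat Q g *ᵥ a) ↔ X ∈ Qbar Q hQ hn a := by
  constructor
  · intro h
    have h2 := Qbar_conj Q hQ hn g⁻¹ (by rw [omat_isom]; exact ha) h
    rw [mulVec_mulVec, omat_inv_mul, one_mulVec] at h2
    have e : pr g⁻¹ * (pr g * X * (pr g)⁻¹) * (pr g⁻¹)⁻¹ = X := by
      rw [map_inv]; group
    rwa [e] at h2
  · exact Qbar_conj Q hQ hn g ha

include p

theorem Qbar_sub_imp {a a'' : ι → F} (ha0 : a ≠ 0) (ha : Q a = 0) (ha'' : Q a'' = 0)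
    (h : Qbar Q hQ hn a ⊆ Qbar Q hQ hn a'') : ∃ c : F, a'' = c • a := by
  apply fix_eich Q hQ (five_le hn) ha0
  intro w hw
  obtain ⟨w'', hw'', e⟩ := h ⟨w, hw, rfl⟩
  have e2 := pim_inj_pElt Q hQ hn p (eo_isPElt Q hQ _ p a w) (eo_isPElt Q hQ _ p a'' w'') e
  have e3 := congrArg (omat Q) e2
  rw [omat_eo Q hQ _ ha hw, omat_eo Q hQ _ ha'' hw''] at e3
  rw [e3]
  exact eich_apply_self Q ha'' hw''

/-- An automorphism maps the radical at a singular point into the radical at a singular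
point. -/
theorem rad_image_sub (hbig : 9 ≤ Fintype.card ι ∨ NoTS4 Q)
    (α : Cfsg.POmega F ⇑Q ≃* Cfsg.POmega F ⇑Q) {a : ι → F} (ha0 : a ≠ 0) (ha : Q a = 0) :
    ∃ a', a' ≠ 0 ∧ Q a' = 0 ∧ ∀ X ∈ Qbar Q hQ hn a, α X ∈ Qbar Q hQ hn a' := by
  have hc := fun (x y : ι → F) => QuadraticMap.polar_comm (⇑Q) x y
  have h𝒟 := Dbar_aut Q hQ hn p α
  obtain ⟨b, hab⟩ := exists_tsp_of Q hQ (five_le hn) ha0 ha
  obtain ⟨d, hd, hd2⟩ := exists_sing_polar_eq Q hQ ![a, b] hab.2.2.2 ![0, 1]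
    (by simpa using hn)
  have had : φ a d = 0 := by simpa using hd2 0
  have hbd : φ b d = 1 := by simpa using hd2 1
  have hadT : TSP Q a d := ⟨ha, hd, had, li2_of_not_smul ha0 (by
    rintro c rfl
    rw [polar_smul_right_eq, hc, hab.2.2.1, mul_zero] at hbd
    exact zero_ne_one hbd)⟩
  have rx := omat_eo_root Q hQ hn hab
  have ry := omat_eo_root Q hQ hn hadT
  have ex := omat_eo Q hQ (five_le hn) hab.1 hab.2.2.1
  have ey := omat_eo Q hQ (five_le hn) hadT.1 hadT.2.2.1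
  have hP : P3 𝒟 (9 ≤ Fintype.card ι) (pr (𝐄 a b)) (pr (𝐄 a d)) := by
    rw [p3_pim_iff Q hQ hn p hbig rx ry, ex, ey]
    refine ⟨⟨a, ha0, left_mem_lin Q hQ hab, left_mem_lin Q hQ hadT⟩, fun hp => ?_⟩
    have := (four_of_perpL Q hQ hab hadT hp).2.2.2
    rw [hbd] at this
    exact one_ne_zero this
  rw [← p3_map α h𝒟] at hP
  obtain ⟨x', hx', ex'⟩ := exists_root_of_mem_Dbar Q hQ hn ((h𝒟 _).mpr ⟨a, b, hab, rfl⟩)
  obtain ⟨y', hy', ey'⟩ := exists_root_of_mem_Dbar Q hQ hn ((h𝒟 _).mpr ⟨a, d, hadT, rfl⟩)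
  rw [← ex', ← ey', p3_pim_iff Q hQ hn p hbig hx' hy'] at hP
  obtain ⟨e, b', d', hb', hd', hxe, hye⟩ := meet_form Q hQ hx' hy' hP.1
  have he0 := li2_ne_zero_left hb'.2.2.2
  have hbd' : φ b' d' ≠ 0 := by
    intro h0
    apply hP.2
    rw [hxe, hye]
    exact perpL_of_four Q hQ hb' hd' (polar_self_zero Q hb'.1) hd'.2.2.1
      (by rw [hc]; exact hb'.2.2.1) h0
  have key : ∀ w, TSP Q a w → ∃ w', TSP Q e w' ∧ α (pr (𝐄 a w)) = pr (𝐄 e w') := by
    intro w hw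
    have rz := omat_eo_root Q hQ hn hw
    have ez := omat_eo Q hQ (five_le hn) hw.1 hw.2.2.1
    obtain ⟨z', hz', ez'⟩ := exists_root_of_mem_Dbar Q hQ hn ((h𝒟 _).mpr ⟨a, w, hw, rfl⟩)
    have m1 : MeetRel 𝒟 (9 ≤ Fintype.card ι) (pr (𝐄 a w)) (pr (𝐄 a b)) := by
      rw [meetRel_pim_iff Q hQ hn p hbig rz rx, ez, ex]
      exact ⟨a, ha0, left_mem_lin Q hQ hw, left_mem_lin Q hQ hab⟩
    have m2 : MeetRel 𝒟 (9 ≤ Fintype.card ι) (pr (𝐄 a w)) (pr (𝐄 a d)) := by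
      rw [meetRel_pim_iff Q hQ hn p hbig rz ry, ez, ey]
      exact ⟨a, ha0, left_mem_lin Q hQ hw, left_mem_lin Q hQ hadT⟩
    rw [← meetRel_map α h𝒟, ← ez', ← ex', meetRel_pim_iff Q hQ hn p hbig hz' hx', hxe] at m1
    rw [← meetRel_map α h𝒟, ← ez', ← ey', meetRel_pim_iff Q hQ hn p hbig hz' hy', hye] at m2
    have he := star_of_meet_meet Q hQ hb' hd' hbd' hz' m1 m2
    obtain ⟨w', hw', hzw⟩ := root_at Q hQ hz' he he0
    refine ⟨w', hw', ?_⟩
    rw [← ez']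
    congr 1
    apply omat_injective
    rw [hzw, omat_eo Q hQ _ hw'.1 hw'.2.2.1]
  have hs : ∀ w, φ a w = 0 → Q w = 0 → α (pr (𝐄 a w)) ∈ Qbar Q hQ hn e := by
    intro w haw hw
    by_cases hsm : ∃ c : F, w = c • a
    · obtain ⟨c, rfl⟩ := hsm
      rw [eo_smul_self Q hQ hn ha, map_one, map_one]
      exact Qbar_one Q hQ hn e
    · push Not at hsm
      obtain ⟨w', hw', e1⟩ := key w ⟨ha, hw, haw, li2_of_not_smul ha0 hsm⟩
      exact ⟨w', hw'.2.2.1, e1⟩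
  refine ⟨e, he0, hb'.1, ?_⟩
  rintro X ⟨w, haw, rfl⟩
  by_cases hw : Q w = 0
  · exact hs w haw hw
  · have hli : LinearIndependent F ![a, w] := li2_of_not_smul ha0 (by
      rintro c rfl
      apply hw
      rw [QuadraticMap.map_smul, ha, smul_zero])
    obtain ⟨z₁, hz₁, hz⟩ := exists_sing_polar_eq Q hQ ![a, w] hli ![0, Q w] (by simpa using hn)
    have haz₁ : φ a z₁ = 0 := by simpa using hz 0
    have hwz₁ : φ w z₁ = Q w := by simpa using hz 1
    have hz₂ : Q (w - z₁) = 0 := by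
      have h1 := quad_sub_smul Q w z₁ 1
      rw [one_smul] at h1
      rw [h1, hz₁, hwz₁]; ring
    have haz₂ : φ a (w - z₁) = 0 := by
      rw [QuadraticMap.polar_sub_right, haw, haz₁, sub_zero]
    have e1 : 𝐄 a w = 𝐄 a z₁ * 𝐄 a (w - z₁) := by
      rw [eo_mul Q hQ _ ha haz₁ haz₂, add_sub_cancel]
    rw [e1, map_mul, map_mul]
    exact Qbar_mul Q hQ hn hb'.1 (hs z₁ haz₁ hz₁) (hs _ haz₂ hz₂)

/-- An automorphism maps the radical at a singular point onto the radical at a singular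
point. -/
theorem rad_image (hbig : 9 ≤ Fintype.card ι ∨ NoTS4 Q)
    (α : Cfsg.POmega F ⇑Q ≃* Cfsg.POmega F ⇑Q) {a : ι → F} (ha0 : a ≠ 0) (ha : Q a = 0) :
    ∃ a', a' ≠ 0 ∧ Q a' = 0 ∧ PtRel Q hQ hn α a a' := by
  obtain ⟨a', ha'0, ha', h1⟩ := rad_image_sub Q hQ hn p hbig α ha0 ha
  obtain ⟨a'', ha''0, ha'', h2⟩ := rad_image_sub Q hQ hn p hbig α.symm ha'0 ha'
  have hsub : Qbar Q hQ hn a ⊆ Qbar Q hQ hn a'' := by
    intro X hX
    have := h2 _ (h1 X hX)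
    rwa [MulEquiv.symm_apply_apply] at this
  obtain ⟨c, hc⟩ := Qbar_sub_imp Q hQ hn p ha0 ha ha'' hsub
  have hc0 : c ≠ 0 := by
    rintro rfl
    exact ha''0 (by rw [hc, zero_smul])
  refine ⟨a', ha'0, ha', fun X => ⟨fun hX => ?_, h1 X⟩⟩
  have := h2 _ hX
  rwa [MulEquiv.symm_apply_apply, hc, Qbar_smul Q hQ hn ha hc0] at this

omit p [Fact p.Prime] [CharP F p] in
theorem PtRel.smul_left {α : Cfsg.POmega F ⇑Q ≃* Cfsg.POmega F ⇑Q} {a a' : ι → F}
    (h : PtRel Q hQ hn α a a') (ha : Q a = 0) {c : F} (hc : c ≠ 0) :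
    PtRel Q hQ hn α (c • a) a' := by
  intro X
  rw [Qbar_smul Q hQ hn ha hc]
  exact h X

omit p [Fact p.Prime] [CharP F p] in
theorem PtRel.smul_right {α : Cfsg.POmega F ⇑Q ≃* Cfsg.POmega F ⇑Q} {a a' : ι → F}
    (h : PtRel Q hQ hn α a a') (ha' : Q a' = 0) {c : F} (hc : c ≠ 0) :
    PtRel Q hQ hn α a (c • a') := by
  intro X
  rw [Qbar_smul Q hQ hn ha' hc]
  exact h X

omit p [Fact p.Prime] [CharP F p] in
theorem PtRel.of_smul_right {α : Cfsg.POmega F ⇑Q ≃* Cfsg.POmega F ⇑Q} {a a' : ι → F} {c : F}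
    (h : PtRel Q hQ hn α a (c • a')) (ha' : Q a' = 0) (hc : c ≠ 0) :
    PtRel Q hQ hn α a a' := by
  intro X
  rw [← Qbar_smul Q hQ hn ha' hc]
  exact h X

omit p [Fact p.Prime] [CharP F p] in
theorem PtRel.conj {α : Cfsg.POmega F ⇑Q ≃* Cfsg.POmega F ⇑Q} {a a' : ι → F}
    (h : PtRel Q hQ hn α a a') (ha : Q a = 0) (ha' : Q a' = 0) (g g' : ↥(Cfsg.Omega F ⇑Q))
    (hg : α (pr g) = pr g') : PtRel Q hQ hn α (omat Q g *ᵥ a) (omat Q g' *ᵥ a') := by
  intro X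
  have e1 : α X = pr g' * α ((pr g)⁻¹ * X * pr g) * (pr g')⁻¹ := by
    rw [map_mul, map_mul, map_inv, hg]; group
  have e2 : X = pr g * ((pr g)⁻¹ * X * pr g) * (pr g)⁻¹ := by group
  rw [e1, Qbar_conj_iff Q hQ hn g' ha', h _]
  conv_rhs => rw [e2]
  rw [Qbar_conj_iff Q hQ hn g ha]

theorem PtRel.unique {α : Cfsg.POmega F ⇑Q ≃* Cfsg.POmega F ⇑Q} {a a' a'' : ι → F}
    (h1 : PtRel Q hQ hn α a a') (h2 : PtRel Q hQ hn α a a'') (ha'0 : a' ≠ 0) (ha' : Q a' = 0)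
    (ha'' : Q a'' = 0) : ∃ c : F, a'' = c • a' := by
  apply Qbar_sub_imp Q hQ hn p ha'0 ha' ha''
  intro X hX
  have e : X = α (α.symm X) := (MulEquiv.apply_symm_apply α X).symm
  rw [e] at hX ⊢
  exact (h2 _).mpr ((h1 _).mp hX)

end autoH

end Cfsg.Agent.Lib.Helper14
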