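import Mathlib
import Cfsg.Agent.Lib.Helper14.AutOH

/-!
# Automorphisms of orthogonal groups: the semilinear core

Two additive maps on the orthogonal complement of a hyperbolic pair that are linked by the
"proportionality" and the "Weyl" relations are semilinear with respect to a common field
automorphism, proportional to each other, and multiply the form by a scalar.
-/

set_option autoImplicit false

namespace Cfsg.Agent.Lib.Helper14

open Matrix Module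

section autoI0

variable {ι : Type} [Fintype ι] [DecidableEq ι] {F : Type*} [Field F]
variable (Q : QuadraticForm F (ι → F))

set_option quotPrecheck false in
local notation "φ" => QuadraticMap.polar (⇑Q)

/-- The orthogonal complement of the pair `u, u'`. -/
def N0 (u u' : ι → F) : Submodule F (ι → F) where
  carrier := {z | φ u z = 0 ∧ φ u' z = 0}
  add_mem' := by
    rintro a b ⟨h1, h2⟩ ⟨h3, h4⟩
    exact ⟨by rw [QuadraticMap.polar_add_right, h1, h3, add_zero],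
      by rw [QuadraticMap.polar_add_right, h2, h4, add_zero]⟩
  zero_mem' := ⟨QuadraticMap.polar_zero_right _ _, QuadraticMap.polar_zero_right _ _⟩
  smul_mem' := by
    rintro c a ⟨h1, h2⟩
    exact ⟨by rw [polar_smul_right_eq, h1, mul_zero], by rw [polar_smul_right_eq, h2, mul_zero]⟩

theorem mem_N0 {u u' z : ι → F} : z ∈ N0 Q u u' ↔ φ u z = 0 ∧ φ u' z = 0 := Iff.rfl

theorem N0_comm (u u' : ι → F) : N0 Q u' u = N0 Q u u' := by
  ext z
  rw [mem_N0, mem_N0, and_comm]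

/-- The projection onto the orthogonal complement of a hyperbolic pair. -/
def pj (u u' x : ι → F) : ι → F := x - φ u' x • u - φ u x • u'

theorem pj_mem {u u' : ι → F} (hu : Q u = 0) (hu' : Q u' = 0) (huu' : φ u u' = 1) (x : ι → F) :
    pj Q u u' x ∈ N0 Q u u' := by
  have huu : φ u u = 0 := polar_self_zero Q hu
  have hu'u' : φ u' u' = 0 := polar_self_zero Q hu'
  have hu'u : φ u' u = 1 := by rw [QuadraticMap.polar_comm]; exact huu'
  constructor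
  · show φ u (x - φ u' x • u - φ u x • u') = 0
    rw [QuadraticMap.polar_sub_right, QuadraticMap.polar_sub_right, polar_smul_right_eq,
      polar_smul_right_eq, huu, huu']
    ring
  · show φ u' (x - φ u' x • u - φ u x • u') = 0
    rw [QuadraticMap.polar_sub_right, QuadraticMap.polar_sub_right, polar_smul_right_eq,
      polar_smul_right_eq, hu'u, hu'u']
    ring

theorem pj_of_mem {u u' z : ι → F} (hz : z ∈ N0 Q u u') : pj Q u u' z = z := by
  unfold pj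
  rw [hz.1, hz.2, zero_smul, zero_smul, sub_zero, sub_zero]

theorem pj_add (u u' x y : ι → F) : pj Q u u' (x + y) = pj Q u u' x + pj Q u u' y := by
  unfold pj
  rw [QuadraticMap.polar_add_right, QuadraticMap.polar_add_right]
  module

theorem pj_smul (u u' : ι → F) (c : F) (x : ι → F) : pj Q u u' (c • x) = c • pj Q u u' x := by
  unfold pj
  rw [polar_smul_right_eq, polar_smul_right_eq]
  module

theorem pj_decomp (u u' x : ι → F) : x = φ u' x • u + φ u x • u' + pj Q u u' x := by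
  unfold pj
  module

theorem quad_decomp {u u' : ι → F} (hu : Q u = 0) (hu' : Q u' = 0) (huu' : φ u u' = 1) (a b : F)
    {w : ι → F} (hw : w ∈ N0 Q u u') : Q (a • u + b • u' + w) = a * b + Q w := by
  rw [QuadraticMap.map_add (⇑Q) (a • u + b • u') w, QuadraticMap.map_add (⇑Q) (a • u) (b • u'),
    QuadraticMap.map_smul, QuadraticMap.map_smul, hu, hu', QuadraticMap.polar_add_left,
    polar_smul_left_eq, polar_smul_left_eq, polar_smul_left_eq, polar_smul_right_eq, huu', hw.1,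
    hw.2]
  simp only [smul_eq_mul]
  ring

theorem ne_zero_of_polar_left {u u' : ι → F} (h : φ u u' ≠ 0) : u ≠ 0 := by
  rintro rfl
  exact h (QuadraticMap.polar_zero_left _ _)

theorem li3_hyp {u u' z : ι → F} (hu : Q u = 0) (hu' : Q u' = 0) (huu' : φ u u' = 1)
    (hz : z ∈ N0 Q u u') (hz0 : z ≠ 0) : LinearIndependent F ![u, u', z] := by
  have huu : φ u u = 0 := polar_self_zero Q hu
  have hu'u' : φ u' u' = 0 := polar_self_zero Q hu'
  have hu'u : φ u' u = 1 := by rw [QuadraticMap.polar_comm]; exact huu'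
  rw [li3_iff]
  intro s t r h
  have h1 := congrArg (fun x => φ u' x) h
  simp only [QuadraticMap.polar_add_right, polar_smul_right_eq, hu'u, hu'u', hz.2,
    QuadraticMap.polar_zero_right] at h1
  have h2 := congrArg (fun x => φ u x) h
  simp only [QuadraticMap.polar_add_right, polar_smul_right_eq, huu, huu', hz.1,
    QuadraticMap.polar_zero_right] at h2
  have hs : s = 0 := by linear_combination h1
  have ht : t = 0 := by linear_combination h2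
  rw [hs, ht, zero_smul, zero_smul, zero_add, zero_add] at h
  exact ⟨hs, ht, (smul_eq_zero.mp h).resolve_right hz0⟩

end autoI0

section autoI

variable {ι : Type} [Fintype ι] [DecidableEq ι] {F : Type*} [Field F] [Fintype F]
variable (Q : QuadraticForm F (ι → F)) (hQ : (QuadraticMap.polarBilin Q).Nondegenerate)

set_option quotPrecheck false in
local notation "φ" => QuadraticMap.polar (⇑Q)

include hQ

theorem exists_sing_N0 (hn : 5 ≤ Fintype.card ι) (u u' : ι → F) :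
    ∃ e ∈ N0 Q u u', e ≠ 0 ∧ Q e = 0 := by
  obtain ⟨d, hd, hdv, hdn⟩ := exists_sing_orth Q hQ ![u, u'] ⊥ (by
    rw [finrank_bot]; omega)
  refine ⟨d, ⟨by simpa using hdv 0, by simpa using hdv 1⟩, fun h => hdn ?_, hd⟩
  rw [h]
  exact Submodule.zero_mem _

theorem exists_hyp_N0 (hn : 5 ≤ Fintype.card ι) {u u' : ι → F} (hu : Q u = 0) (hu' : Q u' = 0)
    (huu' : φ u u' = 1) :
    ∃ e f, e ∈ N0 Q u u' ∧ f ∈ N0 Q u u' ∧ Q e = 0 ∧ Q f = 0 ∧ φ e f = 1 := by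
  obtain ⟨e, he, he0, hes⟩ := exists_sing_N0 Q hQ hn u u'
  obtain ⟨x, hx1, hx2, hx3⟩ := exists_polar3 Q hQ (li3_hyp Q hu hu' huu' he he0) 0 0 1
  have hee : φ e e = 0 := polar_self_zero Q hes
  refine ⟨e, x - Q x • e, he, ?_, hes, ?_, ?_⟩
  · exact Submodule.sub_mem _ ⟨hx1, hx2⟩ (Submodule.smul_mem _ _ he)
  · rw [quad_sub_smul, hes, QuadraticMap.polar_comm (⇑Q) x e, hx3]
    ring
  · rw [QuadraticMap.polar_sub_right, polar_smul_right_eq, hee, hx3]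
    ring

theorem sing_connect (hn : 7 ≤ Fintype.card ι) {u u' z z₀ : ι → F}
    (hz : z ∈ N0 Q u u') (hz₀ : z₀ ∈ N0 Q u u') (hzs : Q z = 0) (hz₀s : Q z₀ = 0) (hz0 : z ≠ 0)
    (hz₀0 : z₀ ≠ 0) :
    TSP Q z z₀ ∨ ∃ z₃ ∈ N0 Q u u', TSP Q z z₃ ∧ TSP Q z₀ z₃ := by
  by_cases h : φ z z₀ = 0
  · by_cases hsm : ∃ c : F, z₀ = c • z
    · obtain ⟨c, hc⟩ := hsm
      right
      obtain ⟨d, hd, hdv, hdn⟩ := exists_sing_orth Q hQ ![u, u', z] (Submodule.span F {z}) (by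
        have := Cfsg.Agent.Lib.Helper44.finrank_span_singleton_le_one (F := F) z
        omega)
      have h1 : φ u d = 0 := by simpa using hdv 0
      have h2 : φ u' d = 0 := by simpa using hdv 1
      have h3 : φ z d = 0 := by simpa using hdv 2
      have hns : ∀ c' : F, d ≠ c' • z := fun c' hc' =>
        hdn (Submodule.mem_span_singleton.mpr ⟨c', hc'.symm⟩)
      refine ⟨d, ⟨h1, h2⟩, ⟨hzs, hd, h3, li2_of_not_smul hz0 hns⟩,
        ⟨hz₀s, hd, by rw [hc, polar_smul_left_eq, h3, mul_zero], li2_of_not_smul hz₀0 ?_⟩⟩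
      intro c' hc'
      exact hns (c' * c) (by rw [hc', hc, smul_smul])
    · push Not at hsm
      exact Or.inl ⟨hzs, hz₀s, h, li2_of_not_smul hz0 hsm⟩
  · right
    obtain ⟨d, hd, hdv, hdn⟩ := exists_sing_orth Q hQ ![u, u', z, z₀] ⊥ (by
      rw [finrank_bot]; omega)
    have h1 : φ u d = 0 := by simpa using hdv 0
    have h2 : φ u' d = 0 := by simpa using hdv 1
    have h3 : φ z d = 0 := by simpa using hdv 2
    have h4 : φ z₀ d = 0 := by simpa using hdv 3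
    have hd0 : d ≠ 0 := by
      intro h0
      apply hdn
      rw [h0]
      exact Submodule.zero_mem _
    refine ⟨d, ⟨h1, h2⟩, ⟨hzs, hd, h3, li2_of_not_smul hz0 ?_⟩,
      ⟨hz₀s, hd, h4, li2_of_not_smul hz₀0 ?_⟩⟩
    · intro c hc
      rw [hc, polar_smul_right_eq, QuadraticMap.polar_comm] at h4
      rcases mul_eq_zero.mp h4 with h5 | h5
      · exact hd0 (by rw [hc, h5, zero_smul])
      · exact h h5
    · intro c hc
      rw [hc, polar_smul_right_eq] at h3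
      rcases mul_eq_zero.mp h3 with h5 | h5
      · exact hd0 (by rw [hc, h5, zero_smul])
      · exact h h5

/-- The semilinear core. -/
theorem semilinear_core (hn : 7 ≤ Fintype.card ι) {u u' : ι → F} (hu : Q u = 0) (hu' : Q u' = 0)
    (huu' : φ u u' = 1) (A A' : (ι → F) → (ι → F))
    (hAa : ∀ z₁ ∈ N0 Q u u', ∀ z₂ ∈ N0 Q u u', A (z₁ + z₂) = A z₁ + A z₂)
    (hA'a : ∀ z₁ ∈ N0 Q u u', ∀ z₂ ∈ N0 Q u u', A' (z₁ + z₂) = A' z₁ + A' z₂)
    (hAi : ∀ z ∈ N0 Q u u', A z = 0 → z = 0) (hA'i : ∀ z ∈ N0 Q u u', A' z = 0 → z = 0)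
    (hAs : ∀ z ∈ N0 Q u u', (Q (A z) = 0 ↔ Q z = 0))
    (hAA' : ∀ z ∈ N0 Q u u', ∀ z' ∈ N0 Q u u', Q z = 0 → Q z' = 0 → z ≠ 0 → z' ≠ 0 →
      ((∃ c : F, z' = c • z) ↔ ∃ c : F, A' z' = c • A z))
    (hW : ∀ z ∈ N0 Q u u', Q z ≠ 0 → A' (-(Q z)⁻¹ • z) = -(Q (A z))⁻¹ • A z) :
    ∃ (τ : F ≃+* F) (μ : F), μ ≠ 0 ∧ (∀ z ∈ N0 Q u u', ∀ c : F, A (c • z) = τ c • A z) ∧
      (∀ z ∈ N0 Q u u', A' z = μ • A z) ∧ (∀ z ∈ N0 Q u u', Q (A z) = μ⁻¹ * τ (Q z)) := by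
  classical
  have hA0 : A 0 = 0 := by
    have h := hAa 0 (Submodule.zero_mem _) 0 (Submodule.zero_mem _)
    rw [add_zero] at h
    exact add_eq_left.mp h.symm
  have hA'0 : A' 0 = 0 := by
    have h := hA'a 0 (Submodule.zero_mem _) 0 (Submodule.zero_mem _)
    rw [add_zero] at h
    exact add_eq_left.mp h.symm
  have hP3 : ∀ z ∈ N0 Q u u', Q z = 0 → z ≠ 0 → ∃ m : F, A' z = m • A z := by
    intro z hz hzs hz0
    exact (hAA' z hz z hz hzs hzs hz0 hz0).mp ⟨1, (one_smul _ _).symm⟩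
  have hP4 : ∀ z ∈ N0 Q u u', Q z = 0 → z ≠ 0 → ∀ c : F, ∃ t : F, A (c • z) = t • A z := by
    intro z hz hzs hz0 c
    by_cases hc : c = 0
    · exact ⟨0, by rw [hc, zero_smul, zero_smul, hA0]⟩
    · have hcz : c • z ∈ N0 Q u u' := Submodule.smul_mem _ c hz
      have hczs : Q (c • z) = 0 := by rw [QuadraticMap.map_smul, hzs, smul_zero]
      have hcz0 : c • z ≠ 0 := smul_ne_zero hc hz0
      obtain ⟨m₁, hm₁⟩ := (hAA' (c • z) hcz z hz hczs hzs hcz0 hz0).mp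
        ⟨c⁻¹, by rw [smul_smul, inv_mul_cancel₀ hc, one_smul]⟩
      obtain ⟨m, hm⟩ := hP3 z hz hzs hz0
      have hm₁0 : m₁ ≠ 0 := by
        rintro rfl
        rw [zero_smul] at hm₁
        exact hz0 (hA'i z hz hm₁)
      refine ⟨m₁⁻¹ * m, ?_⟩
      rw [mul_smul, ← hm, hm₁, smul_smul, inv_mul_cancel₀ hm₁0, one_smul]
  obtain ⟨mOf, hmOf⟩ : ∃ mOf : (ι → F) → F,
      ∀ z ∈ N0 Q u u', Q z = 0 → z ≠ 0 → A' z = mOf z • A z := by
    refine ⟨fun z => if h : ∃ m : F, A' z = m • A z then h.choose else 0, ?_⟩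
    intro z hz hzs hz0
    have h := hP3 z hz hzs hz0
    simp only [dif_pos h]
    exact h.choose_spec
  obtain ⟨tOf, htOf⟩ : ∃ tOf : (ι → F) → F → F,
      ∀ z ∈ N0 Q u u', Q z = 0 → z ≠ 0 → ∀ c, A (c • z) = tOf z c • A z := by
    refine ⟨fun z c => if h : ∃ t : F, A (c • z) = t • A z then h.choose else 0, ?_⟩
    intro z hz hzs hz0 c
    have h := hP4 z hz hzs hz0 c
    simp only [dif_pos h]
    exact h.choose_spec
  have hLI : ∀ z₁ ∈ N0 Q u u', ∀ z₂ ∈ N0 Q u u', TSP Q z₁ z₂ →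
      LinearIndependent F ![A z₁, A z₂] := by
    intro z₁ h₁ z₂ h₂ hT
    have h10 := li2_ne_zero_left hT.2.2.2
    have h20 := li2_ne_zero_right hT.2.2.2
    refine li2_of_not_smul (fun h => h10 (hAi z₁ h₁ h)) ?_
    intro c hc
    obtain ⟨m₂, hm₂⟩ := hP3 z₂ h₂ hT.2.1 h20
    obtain ⟨c', hc'⟩ := (hAA' z₁ h₁ z₂ h₂ hT.1 hT.2.1 h10 h20).mpr
      ⟨m₂ * c, by rw [hm₂, hc, smul_smul]⟩
    exact not_smul_of_li2 hT.2.2.2 c' hc'
  have hsum : ∀ z₁ ∈ N0 Q u u', ∀ z₂ ∈ N0 Q u u', TSP Q z₁ z₂ →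
      z₁ + z₂ ∈ N0 Q u u' ∧ Q (z₁ + z₂) = 0 ∧ z₁ + z₂ ≠ 0 := by
    intro z₁ h₁ z₂ h₂ hT
    refine ⟨Submodule.add_mem _ h₁ h₂, ?_, ?_⟩
    · rw [QuadraticMap.map_add (⇑Q), hT.1, hT.2.1, hT.2.2.1, add_zero, add_zero]
    · intro h
      exact not_smul_of_li2 hT.2.2.2 (-1) (by linear_combination (norm := module) h)
  have hm_eq : ∀ z₁ ∈ N0 Q u u', ∀ z₂ ∈ N0 Q u u', TSP Q z₁ z₂ → mOf z₁ = mOf z₂ := by
    intro z₁ h₁ z₂ h₂ hT
    have h10 := li2_ne_zero_left hT.2.2.2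
    have h20 := li2_ne_zero_right hT.2.2.2
    obtain ⟨h12, h12s, h120⟩ := hsum z₁ h₁ z₂ h₂ hT
    have e1 := hmOf z₁ h₁ hT.1 h10
    have e2 := hmOf z₂ h₂ hT.2.1 h20
    have e3 := hmOf _ h12 h12s h120
    rw [hA'a z₁ h₁ z₂ h₂, hAa z₁ h₁ z₂ h₂, e1, e2] at e3
    have hli := (LinearIndependent.pair_iff.mp (hLI z₁ h₁ z₂ h₂ hT))
      (mOf z₁ - mOf (z₁ + z₂)) (mOf z₂ - mOf (z₁ + z₂))
      (by linear_combination (norm := module) e3)
    rw [sub_eq_zero.mp hli.1, sub_eq_zero.mp hli.2]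
  have ht_eq : ∀ z₁ ∈ N0 Q u u', ∀ z₂ ∈ N0 Q u u', TSP Q z₁ z₂ →
      ∀ c, tOf z₁ c = tOf z₂ c := by
    intro z₁ h₁ z₂ h₂ hT c
    have h10 := li2_ne_zero_left hT.2.2.2
    have h20 := li2_ne_zero_right hT.2.2.2
    obtain ⟨h12, h12s, h120⟩ := hsum z₁ h₁ z₂ h₂ hT
    have e1 := htOf z₁ h₁ hT.1 h10 c
    have e2 := htOf z₂ h₂ hT.2.1 h20 c
    have e3 := htOf _ h12 h12s h120 c
    rw [smul_add, hAa _ (Submodule.smul_mem _ c h₁) _ (Submodule.smul_mem _ c h₂),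
      hAa z₁ h₁ z₂ h₂, e1, e2] at e3
    have hli := (LinearIndependent.pair_iff.mp (hLI z₁ h₁ z₂ h₂ hT))
      (tOf z₁ c - tOf (z₁ + z₂) c) (tOf z₂ c - tOf (z₁ + z₂) c)
      (by linear_combination (norm := module) e3)
    rw [sub_eq_zero.mp hli.1, sub_eq_zero.mp hli.2]
  obtain ⟨z₀, hz₀, hz₀0, hz₀s⟩ := exists_sing_N0 Q hQ (by omega) u u'
  have hmc : ∀ z ∈ N0 Q u u', Q z = 0 → z ≠ 0 → mOf z = mOf z₀ := by
    intro z hz hzs hz0
    rcases sing_connect Q hQ hn hz hz₀ hzs hz₀s hz0 hz₀0 with hT | ⟨z₃, hz₃, hT1, hT2⟩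
    · exact hm_eq z hz z₀ hz₀ hT
    · rw [hm_eq z hz z₃ hz₃ hT1, hm_eq z₀ hz₀ z₃ hz₃ hT2]
  have htc : ∀ z ∈ N0 Q u u', Q z = 0 → z ≠ 0 → ∀ c, tOf z c = tOf z₀ c := by
    intro z hz hzs hz0 c
    rcases sing_connect Q hQ hn hz hz₀ hzs hz₀s hz0 hz₀0 with hT | ⟨z₃, hz₃, hT1, hT2⟩
    · exact ht_eq z hz z₀ hz₀ hT c
    · rw [ht_eq z hz z₃ hz₃ hT1 c, ht_eq z₀ hz₀ z₃ hz₃ hT2 c]
  obtain ⟨μ, hμ⟩ : ∃ μ, μ = mOf z₀ := ⟨_, rfl⟩
  obtain ⟨τ₀, hτ₀⟩ : ∃ τ₀ : F → F, τ₀ = tOf z₀ := ⟨_, rfl⟩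
  have hAz₀ : A z₀ ≠ 0 := fun h => hz₀0 (hAi z₀ hz₀ h)
  have hS1 : ∀ z ∈ N0 Q u u', Q z = 0 → ∀ c, A (c • z) = τ₀ c • A z := by
    intro z hz hzs c
    by_cases hz0 : z = 0
    · rw [hz0, smul_zero, hA0, smul_zero]
    · rw [htOf z hz hzs hz0 c, htc z hz hzs hz0 c, hτ₀]
  have hS2 : ∀ z ∈ N0 Q u u', Q z = 0 → A' z = μ • A z := by
    intro z hz hzs
    by_cases hz0 : z = 0
    · rw [hz0, hA'0, hA0, smul_zero]
    · rw [hmOf z hz hzs hz0, hmc z hz hzs hz0, hμ]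
  have hμ0 : μ ≠ 0 := by
    intro h0
    have := hS2 z₀ hz₀ hz₀s
    rw [h0, zero_smul] at this
    exact hz₀0 (hA'i z₀ hz₀ this)
  have hτadd : ∀ c d, τ₀ (c + d) = τ₀ c + τ₀ d := by
    intro c d
    have h1 := hS1 z₀ hz₀ hz₀s (c + d)
    rw [add_smul, hAa _ (Submodule.smul_mem _ c hz₀) _ (Submodule.smul_mem _ d hz₀),
      hS1 z₀ hz₀ hz₀s c, hS1 z₀ hz₀ hz₀s d, ← add_smul] at h1
    exact (smul_left_injective F hAz₀ h1).symm
  have hτmul : ∀ c d, τ₀ (c * d) = τ₀ c * τ₀ d := by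
    intro c d
    have h1 := hS1 z₀ hz₀ hz₀s (c * d)
    have h2 := hS1 (d • z₀) (Submodule.smul_mem _ d hz₀)
      (by rw [QuadraticMap.map_smul, hz₀s, smul_zero]) c
    rw [smul_smul, h1, hS1 z₀ hz₀ hz₀s d, smul_smul] at h2
    exact smul_left_injective F hAz₀ h2
  have hτone : τ₀ 1 = 1 := by
    have h1 := hS1 z₀ hz₀ hz₀s 1
    rw [one_smul] at h1
    have h2 : (1 : F) • A z₀ = τ₀ 1 • A z₀ := by rw [one_smul]; exact h1
    exact (smul_left_injective F hAz₀ h2).symm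
  have hτzero : τ₀ 0 = 0 := by
    have h1 := hS1 z₀ hz₀ hz₀s 0
    rw [zero_smul, hA0] at h1
    exact (smul_eq_zero.mp h1.symm).resolve_right hAz₀
  obtain ⟨τh, hτh⟩ : ∃ τh : F →+* F, ∀ c, τh c = τ₀ c :=
    ⟨{ toFun := τ₀, map_one' := hτone, map_mul' := hτmul, map_zero' := hτzero,
       map_add' := hτadd }, fun _ => rfl⟩
  have hτinj : Function.Injective τh := τh.injective
  have hτbij : Function.Bijective τh := ⟨hτinj, Finite.surjective_of_injective hτinj⟩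
  obtain ⟨τ, hτ⟩ : ∃ τ : F ≃+* F, ∀ c, τ c = τ₀ c :=
    ⟨RingEquiv.ofBijective τh hτbij, fun c => hτh c⟩
  obtain ⟨e, f, he, hf, hes, hfs, hef⟩ := exists_hyp_N0 Q hQ (by omega) hu hu' huu'
  have hadd : ∀ a b, a ∈ N0 Q u u' → b ∈ N0 Q u u' →
      ((∀ c, A (c • a) = τ₀ c • A a) ∧ A' a = μ • A a) →
      ((∀ c, A (c • b) = τ₀ c • A b) ∧ A' b = μ • A b) →
      ((∀ c, A (c • (a + b)) = τ₀ c • A (a + b)) ∧ A' (a + b) = μ • A (a + b)) := by
    rintro a b ha hb ⟨pa1, pa2⟩ ⟨pb1, pb2⟩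
    refine ⟨fun c => ?_, ?_⟩
    · rw [smul_add, hAa _ (Submodule.smul_mem _ c ha) _ (Submodule.smul_mem _ c hb), pa1, pb1,
        hAa a ha b hb, smul_add]
    · rw [hA'a a ha b hb, pa2, pb2, hAa a ha b hb, smul_add]
  have hall : ∀ x ∈ N0 Q u u', (∀ c, A (c • x) = τ₀ c • A x) ∧ A' x = μ • A x :=
    sing_induction Q hes hfs hef
      (fun x => (∀ c, A (c • x) = τ₀ c • A x) ∧ A' x = μ • A x) (N0 Q u u') he hf hadd
      (fun s hs hss => ⟨hS1 s hs hss, hS2 s hs hss⟩)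
  refine ⟨τ, μ, hμ0, fun z hz c => by rw [hτ]; exact (hall z hz).1 c,
    fun z hz => (hall z hz).2, ?_⟩
  intro z hz
  by_cases hzs : Q z = 0
  · rw [hzs, (hAs z hz).mpr hzs, map_zero, mul_zero]
  · have hQA : Q (A z) ≠ 0 := fun h => hzs ((hAs z hz).mp h)
    have hAz : A z ≠ 0 := by
      intro h
      rw [h, map_zero] at hQA
      exact hQA rfl
    have h1 := hW z hz hzs
    rw [(hall (-(Q z)⁻¹ • z) (Submodule.smul_mem _ _ hz)).2, (hall z hz).1, smul_smul] at h1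
    have h2 := smul_left_injective F hAz h1
    have h3 : τ₀ (-(Q z)⁻¹) = -(τ (Q z))⁻¹ := by
      rw [← hτ, map_neg, map_inv₀]
    have h2' : μ * τ₀ (-(Q z)⁻¹) = -(Q (A z))⁻¹ := h2
    rw [h3] at h2'
    have h4 : μ * (τ (Q z))⁻¹ = (Q (A z))⁻¹ := by linear_combination (-1 : F) * h2'
    rw [← inv_inv (Q (A z)), ← h4, mul_inv, inv_inv]

end autoI

end Cfsg.Agent.Lib.Helper14
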