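import Mathlib
import Cfsg.Agent.Lib.Helper14.AutOI
import Cfsg.Agent.Lib.Helper14.SingPts

/-!
# Automorphisms of orthogonal groups: normalisation and the radical maps

After composing with an inner automorphism, an automorphism of `PΩ` fixes the radicals at the
two points of a hyperbolic pair; its action on these radicals is described by two maps of the
orthogonal complement, which satisfy the hypotheses of the semilinear core.
-/

set_option autoImplicit false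

namespace Cfsg.Agent.Lib.Helper14

open Matrix Module

section autoJ0

variable {ι : Type} [Fintype ι] [DecidableEq ι] {F : Type*} [Field F]
variable (Q : QuadraticForm F (ι → F))

set_option quotPrecheck false in
local notation "φ" => QuadraticMap.polar (⇑Q)

theorem omat_mulVec_ne_zero (x : ↥(Cfsg.Omega F ⇑Q)) {v : ι → F} (hv : v ≠ 0) :
    omat Q x *ᵥ v ≠ 0 := by
  intro h
  apply hv
  have h2 : omat Q x⁻¹ *ᵥ (omat Q x *ᵥ v) = omat Q x⁻¹ *ᵥ 0 := by rw [h]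
  rw [mulVec_mulVec, omat_inv_mul, one_mulVec, mulVec_zero] at h2
  exact h2

theorem eich_hyp {u u' z : ι → F} (huu' : φ u u' = 1) (hz : φ u' z = 0) :
    eichMat Q u z *ᵥ u' = u' + z - Q z • u := by
  rw [eichMat_mulVec, huu', QuadraticMap.polar_comm (⇑Q) z u', hz, one_smul, zero_add, mul_one]

end autoJ0

section autoJ

variable {ι : Type} [Fintype ι] [DecidableEq ι] {F : Type*} [Field F] [Fintype F]
variable (Q : QuadraticForm F (ι → F)) (hQ : (QuadraticMap.polarBilin Q).Nondegenerate)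
variable (hn : 7 ≤ Fintype.card ι) (p : ℕ) [Fact p.Prime] [CharP F p]

set_option quotPrecheck false in
local notation "φ" => QuadraticMap.polar (⇑Q)
set_option quotPrecheck false in
local notation "𝐄" => eo Q hQ (five_le hn)
set_option quotPrecheck false in
local notation "pr" => pim Q
set_option quotPrecheck false in
local notation "𝒟" => Dbar Q hQ (five_le hn)

/-- `A` describes the action of `α` on the radical at `u`, in the coordinates given by the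
orthogonal complement of the hyperbolic pair `u, u'`. -/
structure IsRadMap (α : Cfsg.POmega F ⇑Q ≃* Cfsg.POmega F ⇑Q) (u u' : ι → F)
    (A : (ι → F) → (ι → F)) : Prop where
  sing : Q u = 0
  sing' : Q u' = 0
  hyp : φ u u' = 1
  mem : ∀ z ∈ N0 Q u u', A z ∈ N0 Q u u'
  spec : ∀ z ∈ N0 Q u u', α (pr (𝐄 u z)) = pr (𝐄 u (A z))

include hQ hn

theorem exists_radMap (α : Cfsg.POmega F ⇑Q ≃* Cfsg.POmega F ⇑Q) {u u' : ι → F} (hu : Q u = 0)
    (hu' : Q u' = 0) (huu' : φ u u' = 1) (h : PtRel Q hQ hn α u u) :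
    ∃ A : (ι → F) → (ι → F), (∀ z ∈ N0 Q u u', A z ∈ N0 Q u u') ∧
      ∀ z ∈ N0 Q u u', α (pr (𝐄 u z)) = pr (𝐄 u (A z)) := by
  have hex : ∀ z : ι → F, ∃ y, y ∈ N0 Q u u' ∧
      (z ∈ N0 Q u u' → α (pr (𝐄 u z)) = pr (𝐄 u y)) := by
    intro z
    by_cases hz : z ∈ N0 Q u u'
    · obtain ⟨w', hw', e⟩ := (h (pr (𝐄 u z))).mpr ⟨z, hz.1, rfl⟩
      refine ⟨pj Q u u' w', pj_mem Q hu hu' huu' w', fun _ => ?_⟩
      rw [e]
      have e2 : pj Q u u' w' = w' + (-φ u' w') • u := by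
        unfold pj
        rw [hw']
        module
      rw [e2, eo_add_smul Q hQ hn hu hw']
    · exact ⟨0, Submodule.zero_mem _, fun h' => absurd h' hz⟩
  choose A hA using hex
  exact ⟨A, fun z _ => (hA z).1, fun z hz => (hA z).2 hz⟩

theorem PtRel.conj_left {α : MulAut (Cfsg.POmega F ⇑Q)} {a a' : ι → F}
    (h : PtRel Q hQ hn α a a') (ha' : Q a' = 0) (g : ↥(Cfsg.Omega F ⇑Q)) :
    PtRel Q hQ hn (MulAut.conj (pr g) * α) a (omat Q g *ᵥ a') := by
  intro X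
  have e : (MulAut.conj (pr g) * α) X = pr g * α X * (pr g)⁻¹ := rfl
  rw [e, Qbar_conj_iff Q hQ hn g ha']
  exact h X

include p

theorem eo_N0_inj {u u' z z' : ι → F} (hu : Q u = 0) (huu' : φ u u' = 1)
    (hz : z ∈ N0 Q u u') (hz' : z' ∈ N0 Q u u') (h : pr (𝐄 u z) = pr (𝐄 u z')) : z = z' := by
  have hu0 : u ≠ 0 := ne_zero_of_polar_left Q (by rw [huu']; exact one_ne_zero)
  have e2 := pim_inj_pElt Q hQ hn p (eo_isPElt Q hQ _ p u z) (eo_isPElt Q hQ _ p u z') h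
  have e3 := congrArg (omat Q) e2
  rw [omat_eo Q hQ _ hu hz.1, omat_eo Q hQ _ hu hz'.1] at e3
  obtain ⟨b, hb⟩ := eich_inj Q hQ hu0 e3
  have h1 := congrArg (fun x => φ u' x) hb
  simp only [QuadraticMap.polar_add_right, polar_smul_right_eq, hz.2, hz'.2] at h1
  rw [QuadraticMap.polar_comm (⇑Q) u' u, huu'] at h1
  have hb0 : b = 0 := by linear_combination -h1
  rw [hb, hb0, zero_smul, add_zero]

theorem sing_iff_pim {u z : ι → F} (hu0 : u ≠ 0) (hu : Q u = 0) (huz : φ u z = 0) :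
    (pr (𝐄 u z) ∈ 𝒟 ∨ pr (𝐄 u z) = 1) ↔ Q z = 0 := by
  have hp := eo_isPElt Q hQ (five_le hn) p u z
  rw [mem_Dbar_iff Q hQ hn p hp, pim_eq_one_iff Q hQ hn p hp, ← rootOrOne_eich Q hQ hu0 hu huz,
    omat_eo Q hQ _ hu huz]
  unfold RootOrOne
  constructor
  · rintro (h | h)
    · exact Or.inl h
    · right
      rw [← omat_eo Q hQ (five_le hn) hu huz, h, omat_one]
  · rintro (h | h)
    · exact Or.inl h
    · right
      apply omat_injective Q
      rw [omat_eo Q hQ _ hu huz, h, omat_one]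

theorem IsRadMap.add {α : Cfsg.POmega F ⇑Q ≃* Cfsg.POmega F ⇑Q} {u u' : ι → F}
    {A : (ι → F) → (ι → F)} (h : IsRadMap Q hQ hn α u u' A) {z₁ z₂ : ι → F}
    (h₁ : z₁ ∈ N0 Q u u') (h₂ : z₂ ∈ N0 Q u u') : A (z₁ + z₂) = A z₁ + A z₂ := by
  apply eo_N0_inj Q hQ hn p h.sing h.hyp (h.mem _ (Submodule.add_mem _ h₁ h₂))
    (Submodule.add_mem _ (h.mem _ h₁) (h.mem _ h₂))
  rw [← h.spec _ (Submodule.add_mem _ h₁ h₂), ← eo_mul Q hQ _ h.sing h₁.1 h₂.1, map_mul, map_mul,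
    h.spec _ h₁, h.spec _ h₂, ← map_mul, eo_mul Q hQ _ h.sing (h.mem _ h₁).1 (h.mem _ h₂).1]

theorem IsRadMap.inj {α : Cfsg.POmega F ⇑Q ≃* Cfsg.POmega F ⇑Q} {u u' : ι → F}
    {A : (ι → F) → (ι → F)} (h : IsRadMap Q hQ hn α u u' A) {z : ι → F}
    (hz : z ∈ N0 Q u u') (h0 : A z = 0) : z = 0 := by
  have e := h.spec z hz
  rw [h0, eo_zero, map_one] at e
  have e' : pr (𝐄 u z) = 1 := α.injective (by rw [e, map_one])
  apply eo_N0_inj Q hQ hn p h.sing h.hyp hz (Submodule.zero_mem _)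
  rw [e', eo_zero, map_one]

theorem IsRadMap.sing_iff {α : Cfsg.POmega F ⇑Q ≃* Cfsg.POmega F ⇑Q} {u u' : ι → F}
    {A : (ι → F) → (ι → F)} (h : IsRadMap Q hQ hn α u u' A) {z : ι → F}
    (hz : z ∈ N0 Q u u') : Q (A z) = 0 ↔ Q z = 0 := by
  have hu0 : u ≠ 0 := ne_zero_of_polar_left Q (by rw [h.hyp]; exact one_ne_zero)
  rw [← sing_iff_pim Q hQ hn p hu0 h.sing (h.mem z hz).1,
    ← sing_iff_pim Q hQ hn p hu0 h.sing hz.1, ← h.spec z hz, Dbar_aut Q hQ hn p α]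
  constructor
  · rintro (h1 | h1)
    · exact Or.inl h1
    · exact Or.inr (α.injective (by rw [h1, map_one]))
  · rintro (h1 | h1)
    · exact Or.inl h1
    · exact Or.inr (by rw [h1, map_one])

theorem commute_cross {u u' z z' : ι → F} (hu : Q u = 0) (hu' : Q u' = 0) (huu' : φ u u' = 1)
    (hz : z ∈ N0 Q u u') (hz' : z' ∈ N0 Q u u') (hzs : Q z = 0) (hz's : Q z' = 0) (hz0 : z ≠ 0)
    (hz'0 : z' ≠ 0) :
    Commute (pr (𝐄 u z)) (pr (𝐄 u' z')) ↔ ∃ c : F, z' = c • z := by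
  have hu'u : φ u' u = 1 := by rw [QuadraticMap.polar_comm]; exact huu'
  have huu : φ u u = 0 := polar_self_zero Q hu
  have hu'u' : φ u' u' = 0 := polar_self_zero Q hu'
  have hu0 : u ≠ 0 := ne_zero_of_polar_left Q (by rw [huu']; exact one_ne_zero)
  have hu'0 : u' ≠ 0 := ne_zero_of_polar_left Q (by rw [hu'u]; exact one_ne_zero)
  have T1 : TSP Q u z := ⟨hu, hzs, hz.1, li2_of_not_smul hu0 (by
    intro c hc
    have h2 := hz.2
    rw [hc, polar_smul_right_eq, hu'u, mul_one] at h2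
    exact hz0 (by rw [hc, h2, zero_smul]))⟩
  have T2 : TSP Q u' z' := ⟨hu', hz's, hz'.2, li2_of_not_smul hu'0 (by
    intro c hc
    have h2 := hz'.1
    rw [hc, polar_smul_right_eq, huu', mul_one] at h2
    exact hz'0 (by rw [hc, h2, zero_smul]))⟩
  rw [commute_pim_iff Q hQ hn p (eo_isPElt Q hQ _ p u' z'), omat_eo Q hQ _ hu hz.1,
    omat_eo Q hQ _ hu' hz'.2, commute_iff Q hQ ⟨u, z, T1, rfl⟩ ⟨u', z', T2, rfl⟩]
  constructor
  · rintro (⟨e, he0, he1, he2⟩ | hP)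
    · obtain ⟨s, t, hst⟩ := (mem_lin_root Q hQ T1 e).mp he1
      obtain ⟨s', t', hst'⟩ := (mem_lin_root Q hQ T2 e).mp he2
      have h1 : s • u + t • z = s' • u' + t' • z' := by rw [← hst, ← hst']
      have h2 := congrArg (fun x => φ u' x) h1
      simp only [QuadraticMap.polar_add_right, polar_smul_right_eq, hu'u, hu'u', hz.2,
        hz'.2] at h2
      have h3 := congrArg (fun x => φ u x) h1
      simp only [QuadraticMap.polar_add_right, polar_smul_right_eq, huu, huu', hz.1,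
        hz'.1] at h3
      have hs : s = 0 := by linear_combination h2
      have hs' : s' = 0 := by linear_combination -h3
      rw [hs, hs', zero_smul, zero_smul, zero_add, zero_add] at h1
      have ht' : t' ≠ 0 := by
        intro h0
        apply he0
        rw [hst', hs', h0, zero_smul, zero_smul, add_zero]
      exact ⟨t'⁻¹ * t, by rw [mul_smul, h1, smul_smul, inv_mul_cancel₀ ht', one_smul]⟩
    · exfalso
      have := (four_of_perpL Q hQ T1 T2 hP).1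
      rw [huu'] at this
      exact one_ne_zero this
  · rintro ⟨c, hc⟩
    left
    exact ⟨z', hz'0, (mem_lin_root Q hQ T1 z').mpr ⟨0, c, by rw [zero_smul, zero_add]; exact hc⟩,
      right_mem_lin Q hQ T2⟩

theorem radMap_prop {α : Cfsg.POmega F ⇑Q ≃* Cfsg.POmega F ⇑Q} {u u' : ι → F}
    {A A' : (ι → F) → (ι → F)} (h : IsRadMap Q hQ hn α u u' A)
    (h' : IsRadMap Q hQ hn α u' u A') {z z' : ι → F} (hz : z ∈ N0 Q u u')
    (hz' : z' ∈ N0 Q u u') (hzs : Q z = 0) (hz's : Q z' = 0) (hz0 : z ≠ 0) (hz'0 : z' ≠ 0) :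
    (∃ c : F, z' = c • z) ↔ ∃ c : F, A' z' = c • A z := by
  have hz'2 : z' ∈ N0 Q u' u := by rw [N0_comm]; exact hz'
  have hAz := h.mem z hz
  have hA'z' : A' z' ∈ N0 Q u u' := by rw [← N0_comm]; exact h'.mem z' hz'2
  have hAzs : Q (A z) = 0 := (h.sing_iff Q hQ hn p hz).mpr hzs
  have hA'z's : Q (A' z') = 0 := (h'.sing_iff Q hQ hn p hz'2).mpr hz's
  have hAz0 : A z ≠ 0 := fun h0 => hz0 (h.inj Q hQ hn p hz h0)
  have hA'z'0 : A' z' ≠ 0 := fun h0 => hz'0 (h'.inj Q hQ hn p hz'2 h0)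
  rw [← commute_cross Q hQ hn p h.sing h.sing' h.hyp hz hz' hzs hz's hz0 hz'0,
    ← commute_cross Q hQ hn p h.sing h.sing' h.hyp hAz hA'z' hAzs hA'z's hAz0 hA'z'0,
    ← h.spec z hz, ← h'.spec z' hz'2]
  constructor
  · intro hc
    exact hc.map α
  · intro hc
    have := hc.map α.symm
    rwa [MulEquiv.symm_apply_apply, MulEquiv.symm_apply_apply] at this

theorem radMap_weyl {α : Cfsg.POmega F ⇑Q ≃* Cfsg.POmega F ⇑Q} {u u' : ι → F}
    {A A' : (ι → F) → (ι → F)} (h : IsRadMap Q hQ hn α u u' A)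
    (h' : IsRadMap Q hQ hn α u' u A') (R : PtRel Q hQ hn α u u) (R' : PtRel Q hQ hn α u' u')
    {z : ι → F} (hz : z ∈ N0 Q u u') (hzs : Q z ≠ 0) :
    A' (-(Q z)⁻¹ • z) = -(Q (A z))⁻¹ • A z := by
  have hu := h.sing
  have hu' := h.sing'
  have huu' := h.hyp
  have hu'u : φ u' u = 1 := h'.hyp
  have huu : φ u u = 0 := polar_self_zero Q hu
  have hu'u' : φ u' u' = 0 := polar_self_zero Q hu'
  have hu0 : u ≠ 0 := ne_zero_of_polar_left Q (by rw [huu']; exact one_ne_zero)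
  obtain ⟨z', hz'def⟩ : ∃ z', z' = -(Q z)⁻¹ • z := ⟨_, rfl⟩
  rw [← hz'def]
  have hz' : z' ∈ N0 Q u u' := by rw [hz'def]; exact Submodule.smul_mem _ _ hz
  have hz'2 : z' ∈ N0 Q u' u := by rw [N0_comm]; exact hz'
  have hAz := h.mem z hz
  have hA'z' : A' z' ∈ N0 Q u u' := by rw [← N0_comm]; exact h'.mem z' hz'2
  have hQz' : Q z' = (Q z)⁻¹ := by
    rw [hz'def, QuadraticMap.map_smul, smul_eq_mul]
    field_simp
  have R1 := R.conj Q hQ hn hu hu (𝐄 u' z') (𝐄 u' (A' z')) (h'.spec z' hz'2)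
  have R2 := R'.conj Q hQ hn hu' hu' (𝐄 u z) (𝐄 u (A z)) (h.spec z hz)
  have hrel : omat Q (𝐄 u z) *ᵥ u' = (-(Q z)) • (omat Q (𝐄 u' z') *ᵥ u) := by
    rw [omat_eo Q hQ _ hu hz.1, omat_eo Q hQ _ hu' hz'.2, eich_hyp Q huu' hz.2,
      eich_hyp Q hu'u hz'.1, hQz']
    have e1 : (-(Q z)) * (-(Q z)⁻¹) = 1 := by field_simp
    have e2 : (-(Q z)) * (Q z)⁻¹ = -1 := by field_simp
    rw [hz'def, smul_sub, smul_add, smul_smul, smul_smul, e1, e2]
    module
  have R1' := R1.smul_left Q hQ hn (by rw [omat_isom]; exact hu) (neg_ne_zero.mpr hzs)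
  rw [← hrel] at R1'
  obtain ⟨c, hc⟩ := R1'.unique Q hQ hn p R2 (omat_mulVec_ne_zero Q _ hu0)
    (by rw [omat_isom]; exact hu) (by rw [omat_isom]; exact hu')
  rw [omat_eo Q hQ _ hu hAz.1, omat_eo Q hQ _ hu' hA'z'.2, eich_hyp Q huu' hAz.2,
    eich_hyp Q hu'u hA'z'.1] at hc
  have h1 := congrArg (fun x => φ u' x) hc
  simp only [QuadraticMap.polar_add_right, QuadraticMap.polar_sub_right, polar_smul_right_eq,
    hu'u, hu'u', hAz.2, hA'z'.2] at h1
  have hc1 : c = -Q (A z) := by linear_combination -h1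
  have h2 := congrArg (fun x => φ u x) hc
  simp only [QuadraticMap.polar_add_right, QuadraticMap.polar_sub_right, polar_smul_right_eq,
    huu, huu', hAz.1, hA'z'.1] at h2
  have hc2 : c * Q (A' z') = -1 := by linear_combination h2
  have hc0 : c ≠ 0 := by
    intro h0
    rw [h0, zero_mul] at hc2
    exact one_ne_zero (by linear_combination hc2 : (1 : F) = 0)
  have hq : Q (A z) = -c := by rw [hc1, neg_neg]
  have hvec : A z = c • A' z' := by
    have h3 := hc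
    rw [smul_sub, smul_add, smul_smul, hc2, hq] at h3
    linear_combination (norm := module) h3
  rw [hq, neg_inv, neg_neg, hvec, smul_smul, inv_mul_cancel₀ hc0, one_smul]

theorem Qbar_inter {u u' : ι → F} (hu : Q u = 0) (hu' : Q u' = 0) (huu' : φ u u' = 1)
    {X : Cfsg.POmega F ⇑Q} (h1 : X ∈ Qbar Q hQ hn u) (h2 : X ∈ Qbar Q hQ hn u') : X = 1 := by
  obtain ⟨w, hw, rfl⟩ := h1
  obtain ⟨w', hw', e⟩ := h2
  have hu'u : φ u' u = 1 := by rw [QuadraticMap.polar_comm]; exact huu'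
  have e2 := pim_inj_pElt Q hQ hn p (eo_isPElt Q hQ _ p u w) (eo_isPElt Q hQ _ p u' w') e
  have e3 : omat Q (𝐄 u w) *ᵥ u = omat Q (𝐄 u' w') *ᵥ u := by rw [e2]
  rw [omat_eo Q hQ _ hu hw, omat_eo Q hQ _ hu' hw', eich_apply_self Q hu hw, eichMat_mulVec,
    hu'u] at e3
  obtain ⟨c, hc⟩ : ∃ c : F, w' = c • u' :=
    ⟨φ w' u + Q w' * 1, by linear_combination (norm := module) (-1 : F) • e3⟩
  rw [e, hc, eo_smul_self Q hQ hn hu', map_one]

/-- Normalisation: after an inner automorphism, the radicals at `u` and `u'` are fixed. -/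
theorem exists_normalize (hbig : 9 ≤ Fintype.card ι ∨ NoTS4 Q)
    (α : MulAut (Cfsg.POmega F ⇑Q)) {u u' : ι → F} (hu : Q u = 0) (hu' : Q u' = 0)
    (huu' : φ u u' = 1) :
    ∃ g : ↥(Cfsg.Omega F ⇑Q), PtRel Q hQ hn (MulAut.conj (pr g) * α) u u ∧
      PtRel Q hQ hn (MulAut.conj (pr g) * α) u' u' := by
  have hc := fun (x y : ι → F) => QuadraticMap.polar_comm (⇑Q) x y
  have hu'u : φ u' u = 1 := by rw [hc]; exact huu'
  have hu0 : u ≠ 0 := ne_zero_of_polar_left Q (by rw [huu']; exact one_ne_zero)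
  have hu'0 : u' ≠ 0 := ne_zero_of_polar_left Q (by rw [hu'u]; exact one_ne_zero)
  obtain ⟨a₁, ha₁0, ha₁, R₁⟩ := rad_image Q hQ hn p hbig α hu0 hu
  obtain ⟨a₂, ha₂0, ha₂, R₂⟩ := rad_image Q hQ hn p hbig α hu'0 hu'
  have hopp : φ a₁ a₂ ≠ 0 := by
    intro h0
    by_cases hsm : ∃ c : F, a₂ = c • a₁
    · obtain ⟨c, hc'⟩ := hsm
      have hc0 : c ≠ 0 := by
        intro hc0
        exact ha₂0 (by rw [hc', hc0, zero_smul])
      rw [hc'] at R₂
      have R₂' := R₂.of_smul_right Q hQ hn ha₁ hc0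
      have hsub : Qbar Q hQ hn u ⊆ Qbar Q hQ hn u' := fun X hX => (R₂' X).mp ((R₁ X).mpr hX)
      obtain ⟨d, hd⟩ := Qbar_sub_imp Q hQ hn p hu0 hu hu' hsub
      rw [hd, polar_smul_right_eq, polar_self_zero Q hu, mul_zero] at huu'
      exact zero_ne_one huu'
    · push Not at hsm
      have hperp : φ a₂ ((-1 : F) • a₁) = 0 := by rw [polar_smul_right_eq, hc, h0, mul_zero]
      have hY1 : pr (𝐄 a₁ a₂) ∈ Qbar Q hQ hn a₁ := ⟨a₂, h0, rfl⟩
      have hY2 : pr (𝐄 a₁ a₂) ∈ Qbar Q hQ hn a₂ := by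
        refine ⟨(-1 : F) • a₁, hperp, congrArg (pim Q) (omat_injective Q ?_)⟩
        rw [omat_eo Q hQ _ ha₁ h0, omat_eo Q hQ _ ha₂ hperp]
        have := eichMat_lin_comb Q ha₁ ha₂ h0 0 1 (-1) 0
        simp only [zero_smul, one_smul, zero_add, add_zero, mul_zero, mul_neg, mul_one, zero_sub,
          neg_neg] at this
        exact this.symm
      have e : pr (𝐄 a₁ a₂) = α (α.symm (pr (𝐄 a₁ a₂))) :=
        (MulEquiv.apply_symm_apply α _).symm
      rw [e] at hY1 hY2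
      have h1 := Qbar_inter Q hQ hn p hu hu' huu' ((R₁ _).mp hY1) ((R₂ _).mp hY2)
      have h2 : pr (𝐄 a₁ a₂) = 1 := by rw [e, h1, map_one]
      rw [pim_eq_one_iff Q hQ hn p (eo_isPElt Q hQ _ p a₁ a₂)] at h2
      have h3 := congrArg (omat Q) h2
      rw [omat_eo Q hQ _ ha₁ h0, omat_one] at h3
      obtain ⟨b, hb⟩ := eich_eq_one Q hQ ha₁0 h3
      exact hsm b hb
  haveI := omega_pretransitive Q hQ (five_le hn)
  obtain ⟨g₁', hg₁'⟩ := MulAction.exists_smul_eq ↥(commutator ↥(Cfsg.isometryGroup F ⇑Q))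
    (mkPt Q a₁ ha₁0 ha₁) (mkPt Q u hu0 hu)
  obtain ⟨g₁, c₁, hg₁⟩ : ∃ (g₁ : ↥(Cfsg.Omega F ⇑Q)) (c₁ : F), omat Q g₁ *ᵥ a₁ = c₁ • u := by
    refine ⟨g₁', ?_⟩
    rw [Subgroup.smul_def, smul_mkPt] at hg₁'
    have h3 : Submodule.span F {omat Q g₁' *ᵥ a₁} = Submodule.span F {u} :=
      congrArg Subtype.val hg₁'
    have h4 : omat Q g₁' *ᵥ a₁ ∈ Submodule.span F {u} := by
      rw [← h3]; exact Submodule.mem_span_singleton_self _
    obtain ⟨c, hc⟩ := Submodule.mem_span_singleton.mp h4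
    exact ⟨c, hc.symm⟩
  have hc₁0 : c₁ ≠ 0 := by
    intro h0
    rw [h0, zero_smul] at hg₁
    exact omat_mulVec_ne_zero Q g₁ ha₁0 hg₁
  obtain ⟨b, hb⟩ : ∃ b, b = omat Q g₁ *ᵥ a₂ := ⟨_, rfl⟩
  have hbs : Q b = 0 := by rw [hb, omat_isom]; exact ha₂
  have hub : φ u b ≠ 0 := by
    intro h0
    apply hopp
    have h5 := omat_polar Q g₁ a₁ a₂
    rw [hg₁, ← hb, polar_smul_left_eq, h0, mul_zero] at h5
    exact h5.symm
  obtain ⟨x, hx⟩ : ∃ x, x = (φ u b)⁻¹ • b := ⟨_, rfl⟩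
  have hxs : Q x = 0 := by rw [hx, QuadraticMap.map_smul, hbs, smul_zero]
  have hux : φ u x = 1 := by rw [hx, polar_smul_right_eq, inv_mul_cancel₀ hub]
  obtain ⟨hw, hgu, hgx⟩ := eich_move Q hu hxs hu' hux huu'
  obtain ⟨g₂, hg₂⟩ : ∃ g₂ : ↥(Cfsg.Omega F ⇑Q), omat Q g₂ = eichMat Q u (u' - x) :=
    ⟨𝐄 u (u' - x), omat_eo Q hQ _ hu hw⟩
  refine ⟨g₂ * g₁, ?_, ?_⟩
  · have R := R₁.conj_left Q hQ hn ha₁ (g₂ * g₁)
    rw [omat_mul, ← mulVec_mulVec, hg₁, mulVec_smul, hg₂, hgu] at R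
    exact R.of_smul_right Q hQ hn hu hc₁0
  · have R := R₂.conj_left Q hQ hn ha₂ (g₂ * g₁)
    have hbx : omat Q g₁ *ᵥ a₂ = φ u b • x := by
      rw [hx, smul_smul, mul_inv_cancel₀ hub, one_smul, hb]
    rw [omat_mul, ← mulVec_mulVec, hbx, mulVec_smul, hg₂, hgx] at R
    exact R.of_smul_right Q hQ hn hu' hub

/-- The action of a normalised automorphism on the two opposite radicals is semilinear. -/
theorem normalized_semilinear (α : MulAut (Cfsg.POmega F ⇑Q)) {u u' : ι → F} (hu : Q u = 0)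
    (hu' : Q u' = 0) (huu' : φ u u' = 1) (R : PtRel Q hQ hn α u u)
    (R' : PtRel Q hQ hn α u' u') :
    ∃ (τ : F ≃+* F) (μ : F) (A : (ι → F) → (ι → F)), μ ≠ 0 ∧
      (∀ z ∈ N0 Q u u', A z ∈ N0 Q u u') ∧
      (∀ z₁ ∈ N0 Q u u', ∀ z₂ ∈ N0 Q u u', A (z₁ + z₂) = A z₁ + A z₂) ∧
      (∀ z ∈ N0 Q u u', ∀ c : F, A (c • z) = τ c • A z) ∧
      (∀ z ∈ N0 Q u u', Q (A z) = μ⁻¹ * τ (Q z)) ∧
      (∀ z ∈ N0 Q u u', α (pr (𝐄 u z)) = pr (𝐄 u (A z))) ∧
      (∀ z ∈ N0 Q u u', α (pr (𝐄 u' z)) = pr (𝐄 u' (μ • A z))) := by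
  have hu'u : φ u' u = 1 := by rw [QuadraticMap.polar_comm]; exact huu'
  obtain ⟨A, hAm, hAs⟩ := exists_radMap Q hQ hn α hu hu' huu' R
  obtain ⟨A', hA'm, hA's⟩ := exists_radMap Q hQ hn α hu' hu hu'u R'
  have h : IsRadMap Q hQ hn α u u' A := ⟨hu, hu', huu', hAm, hAs⟩
  have h' : IsRadMap Q hQ hn α u' u A' := ⟨hu', hu, hu'u, hA'm, hA's⟩
  have cm : ∀ {z : ι → F}, z ∈ N0 Q u u' → z ∈ N0 Q u' u := fun hz => by
    rw [N0_comm]; exact hz
  obtain ⟨τ, μ, hμ0, hsl, hμA, hform⟩ := semilinear_core Q hQ hn hu hu' huu' A A'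
    (fun z₁ h₁ z₂ h₂ => h.add Q hQ hn p h₁ h₂)
    (fun z₁ h₁ z₂ h₂ => h'.add Q hQ hn p (cm h₁) (cm h₂))
    (fun z hz h0 => h.inj Q hQ hn p hz h0)
    (fun z hz h0 => h'.inj Q hQ hn p (cm hz) h0)
    (fun z hz => h.sing_iff Q hQ hn p hz)
    (fun z hz z' hz' hzs hz's hz0 hz'0 => radMap_prop Q hQ hn p h h' hz hz' hzs hz's hz0 hz'0)
    (fun z hz hzs => radMap_weyl Q hQ hn p h h' R R' hz hzs)
  refine ⟨τ, μ, A, hμ0, hAm, fun z₁ h₁ z₂ h₂ => h.add Q hQ hn p h₁ h₂, hsl, hform, hAs, ?_⟩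
  intro z hz
  rw [hA's z (cm hz), hμA z hz]

end autoJ

end Cfsg.Agent.Lib.Helper14
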