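import Mathlib
import Cfsg.Agent.Lib.Helper14.AutOI

/-!
# Automorphisms of orthogonal groups: assembling the semilinear similarity

From a semilinear map of the orthogonal complement of a hyperbolic pair we build a semilinear
similarity of the whole space, its matrix, and compute its conjugation action on Eichler
transformations.
-/

set_option autoImplicit false

namespace Cfsg.Agent.Lib.Helper14

open Matrix Module

section autoK

variable {ι : Type} [Fintype ι] [DecidableEq ι] {F : Type*} [Field F]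
variable (Q : QuadraticForm F (ι → F))

set_option quotPrecheck false in
local notation "φ" => QuadraticMap.polar (⇑Q)

theorem map_mulVec_equiv (τ : F ≃+* F) (M : Matrix ι ι F) (v : ι → F) :
    (M.map τ) *ᵥ (fun i => τ (v i)) = fun i => τ ((M *ᵥ v) i) := by
  funext i
  simp only [Matrix.mulVec, dotProduct, Matrix.map_apply, map_sum, map_mul]

/-- The data of a semilinear similarity in coordinates relative to a hyperbolic pair. -/
structure SemiData (u u' : ι → F) (τ : F ≃+* F) (μ : F) (A : (ι → F) → (ι → F)) : Prop where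
  hu : Q u = 0
  hu' : Q u' = 0
  huu' : φ u u' = 1
  hμ : μ ≠ 0
  mem : ∀ z ∈ N0 Q u u', A z ∈ N0 Q u u'
  add : ∀ z₁ ∈ N0 Q u u', ∀ z₂ ∈ N0 Q u u', A (z₁ + z₂) = A z₁ + A z₂
  smul : ∀ z ∈ N0 Q u u', ∀ c : F, A (c • z) = τ c • A z
  form : ∀ z ∈ N0 Q u u', Q (A z) = μ⁻¹ * τ (Q z)

/-- The semilinear map assembled from the data. -/
def gmap (u u' : ι → F) (τ : F ≃+* F) (μ : F) (A : (ι → F) → (ι → F)) (x : ι → F) : ι → F :=
  τ (φ u' x) • u + (μ * τ (φ u x)) • u' + μ • A (pj Q u u' x)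

variable {Q} {u u' : ι → F} {τ : F ≃+* F} {μ : F} {A : (ι → F) → (ι → F)}

theorem SemiData.A_zero (D : SemiData Q u u' τ μ A) : A 0 = 0 := by
  have h := D.smul 0 (Submodule.zero_mem _) 0
  rw [zero_smul, map_zero, zero_smul] at h
  exact h

theorem gmap_add (D : SemiData Q u u' τ μ A) (x y : ι → F) :
    gmap Q u u' τ μ A (x + y) = gmap Q u u' τ μ A x + gmap Q u u' τ μ A y := by
  unfold gmap
  rw [QuadraticMap.polar_add_right, QuadraticMap.polar_add_right, map_add, map_add, pj_add,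
    D.add _ (pj_mem Q D.hu D.hu' D.huu' x) _ (pj_mem Q D.hu D.hu' D.huu' y)]
  module

theorem gmap_smul (D : SemiData Q u u' τ μ A) (c : F) (x : ι → F) :
    gmap Q u u' τ μ A (c • x) = τ c • gmap Q u u' τ μ A x := by
  unfold gmap
  rw [polar_smul_right_eq, polar_smul_right_eq, map_mul, map_mul, pj_smul,
    D.smul _ (pj_mem Q D.hu D.hu' D.huu' x)]
  module

theorem gmap_neg (D : SemiData Q u u' τ μ A) (x : ι → F) :
    gmap Q u u' τ μ A (-x) = -gmap Q u u' τ μ A x := by
  have h := gmap_smul D (-1) x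
  rw [neg_one_smul, map_neg, map_one, neg_one_smul] at h
  exact h

theorem gmap_sub (D : SemiData Q u u' τ μ A) (x y : ι → F) :
    gmap Q u u' τ μ A (x - y) = gmap Q u u' τ μ A x - gmap Q u u' τ μ A y := by
  rw [sub_eq_add_neg, gmap_add D, gmap_neg D, ← sub_eq_add_neg]

theorem gmap_quad (D : SemiData Q u u' τ μ A) (x : ι → F) :
    Q (gmap Q u u' τ μ A x) = μ * τ (Q x) := by
  have hx := quad_decomp Q D.hu D.hu' D.huu' (φ u' x) (φ u x) (pj_mem Q D.hu D.hu' D.huu' x)
  rw [← pj_decomp Q u u' x] at hx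
  unfold gmap
  rw [quad_decomp Q D.hu D.hu' D.huu' _ _
      (Submodule.smul_mem _ μ (D.mem _ (pj_mem Q D.hu D.hu' D.huu' x))),
    QuadraticMap.map_smul, D.form _ (pj_mem Q D.hu D.hu' D.huu' x), hx, map_add, map_mul,
    smul_eq_mul]
  linear_combination (μ * τ (Q (pj Q u u' x))) * (mul_inv_cancel₀ D.hμ)

theorem gmap_polar (D : SemiData Q u u' τ μ A) (x y : ι → F) :
    φ (gmap Q u u' τ μ A x) (gmap Q u u' τ μ A y) = μ * τ (φ x y) := by
  simp only [QuadraticMap.polar]
  rw [← gmap_add D x y, gmap_quad D, gmap_quad D, gmap_quad D, map_sub, map_sub]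
  ring

theorem gmap_eq_zero (D : SemiData Q u u' τ μ A)
    (hQ : (QuadraticMap.polarBilin Q).Nondegenerate) {x : ι → F}
    (h : gmap Q u u' τ μ A x = 0) : x = 0 := by
  apply hQ.1
  intro y
  show QuadraticMap.polar ⇑Q x y = 0
  have h1 := gmap_polar D x y
  rw [h, QuadraticMap.polar_zero_left] at h1
  have h2 := (mul_eq_zero.mp h1.symm).resolve_left D.hμ
  exact (map_eq_zero_iff τ τ.injective).mp h2

theorem gmap_u (D : SemiData Q u u' τ μ A) : gmap Q u u' τ μ A u = u := by
  have huu : φ u u = 0 := polar_self_zero Q D.hu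
  have hu'u : φ u' u = 1 := by rw [QuadraticMap.polar_comm]; exact D.huu'
  have hp : pj Q u u' u = 0 := by
    unfold pj
    rw [hu'u, huu]
    module
  unfold gmap
  rw [hp, D.A_zero, hu'u, huu, map_one, map_zero]
  module

theorem gmap_u' (D : SemiData Q u u' τ μ A) : gmap Q u u' τ μ A u' = μ • u' := by
  have hu'u' : φ u' u' = 0 := polar_self_zero Q D.hu'
  have hp : pj Q u u' u' = 0 := by
    unfold pj
    rw [hu'u', D.huu']
    module
  unfold gmap
  rw [hp, D.A_zero, hu'u', D.huu', map_one, map_zero]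
  module

theorem gmap_N0 (D : SemiData Q u u' τ μ A) {z : ι → F} (hz : z ∈ N0 Q u u') :
    gmap Q u u' τ μ A z = μ • A z := by
  unfold gmap
  rw [pj_of_mem Q hz, hz.1, hz.2, map_zero]
  module

/-- The linear map `y ↦ ĝ(τ⁻¹ y)`. -/
noncomputable def glin (D : SemiData Q u u' τ μ A) : (ι → F) →ₗ[F] (ι → F) where
  toFun y := gmap Q u u' τ μ A (fun i => τ.symm (y i))
  map_add' y y' := by
    have e : (fun i => τ.symm ((y + y') i)) =
        (fun i => τ.symm (y i)) + (fun i => τ.symm (y' i)) := by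
      funext i
      simp
    rw [e, gmap_add D]
  map_smul' c y := by
    have e : (fun i => τ.symm ((c • y) i)) = τ.symm c • (fun i => τ.symm (y i)) := by
      funext i
      simp
    rw [e, gmap_smul D, RingEquiv.apply_symm_apply]
    rfl

/-- The matrix of the semilinear map. -/
noncomputable def gmat (D : SemiData Q u u' τ μ A) : Matrix ι ι F :=
  LinearMap.toMatrix' (glin D)

theorem gmat_mulVec' (D : SemiData Q u u' τ μ A) (y : ι → F) :
    gmat D *ᵥ y = gmap Q u u' τ μ A (fun i => τ.symm (y i)) := by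
  unfold gmat
  rw [← Matrix.toLin'_apply, Matrix.toLin'_toMatrix']
  rfl

theorem gmat_mulVec (D : SemiData Q u u' τ μ A) (v : ι → F) :
    gmat D *ᵥ (fun i => τ (v i)) = gmap Q u u' τ μ A v := by
  have e : (fun i => τ.symm ((fun i => τ (v i)) i)) = v := by
    funext i
    exact τ.symm_apply_apply (v i)
  rw [gmat_mulVec']
  exact congrArg _ e

theorem gmat_isUnit (D : SemiData Q u u' τ μ A)
    (hQ : (QuadraticMap.polarBilin Q).Nondegenerate) : IsUnit (gmat D) := by
  rw [← Matrix.mulVec_injective_iff_isUnit]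
  intro y y' h
  have h' : gmat D *ᵥ y = gmat D *ᵥ y' := h
  rw [gmat_mulVec', gmat_mulVec'] at h'
  have h0 : gmap Q u u' τ μ A ((fun i => τ.symm (y i)) - (fun i => τ.symm (y' i))) = 0 := by
    rw [gmap_sub D, h', sub_self]
  have h1 := gmap_eq_zero D hQ h0
  funext i
  have h2 := congrFun h1 i
  simp only [Pi.sub_apply, Pi.zero_apply] at h2
  exact τ.symm.injective (sub_eq_zero.mp h2)

theorem gmap_eich (D : SemiData Q u u' τ μ A) (a w x : ι → F) :
    gmap Q u u' τ μ A (eichMat Q a w *ᵥ x) =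
      eichMat Q (gmap Q u u' τ μ A a) (μ⁻¹ • gmap Q u u' τ μ A w) *ᵥ gmap Q u u' τ μ A x := by
  have hμν : μ * μ⁻¹ = 1 := mul_inv_cancel₀ D.hμ
  obtain ⟨ν, hν⟩ : ∃ ν, ν = μ⁻¹ := ⟨_, rfl⟩
  rw [← hν] at hμν ⊢
  rw [eichMat_mulVec, eichMat_mulVec, gmap_sub D, gmap_add D, gmap_smul D, gmap_smul D, map_add,
    map_mul, polar_smul_left_eq, QuadraticMap.map_smul, gmap_polar D, gmap_polar D,
    gmap_quad D, smul_eq_mul]
  have e1 : (μ * τ (φ a x)) • ν • gmap Q u u' τ μ A w = τ (φ a x) • gmap Q u u' τ μ A w := by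
    rw [smul_smul]
    congr 1
    linear_combination τ (φ a x) * hμν
  have e2 : ν * (μ * τ (φ w x)) + ν * ν * (μ * τ (Q w)) * (μ * τ (φ a x)) =
      τ (φ w x) + τ (Q w) * τ (φ a x) := by
    linear_combination (τ (φ w x) + τ (Q w) * τ (φ a x) * (μ * ν + 1)) * hμν
  rw [e1, e2]

theorem gmat_conj (D : SemiData Q u u' τ μ A) (a w : ι → F) :
    gmat D * (eichMat Q a w).map τ =
      eichMat Q (gmap Q u u' τ μ A a) (μ⁻¹ • gmap Q u u' τ μ A w) * gmat D := by
  rw [Matrix.ext_iff_mulVec]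
  intro y
  obtain ⟨v, rfl⟩ : ∃ v : ι → F, y = fun i => τ (v i) :=
    ⟨fun i => τ.symm (y i), by funext i; exact (τ.apply_symm_apply (y i)).symm⟩
  rw [← mulVec_mulVec, ← mulVec_mulVec, map_mulVec_equiv, gmat_mulVec D, gmat_mulVec D,
    gmap_eich D]

theorem gmat_conj' (D : SemiData Q u u' τ μ A)
    (hQ : (QuadraticMap.polarBilin Q).Nondegenerate) (a w : ι → F) :
    gmat D * (eichMat Q a w).map τ * (gmat D)⁻¹ =
      eichMat Q (gmap Q u u' τ μ A a) (μ⁻¹ • gmap Q u u' τ μ A w) := by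
  have hdet : IsUnit (gmat D).det := (Matrix.isUnit_iff_isUnit_det _).mp (gmat_isUnit D hQ)
  rw [gmat_conj D, Matrix.mul_assoc, Matrix.mul_nonsing_inv _ hdet, Matrix.mul_one]

end autoK

end Cfsg.Agent.Lib.Helper14
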