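import Mathlib
import Cfsg.Agent.Lib.Helper14.AutOJ
import Cfsg.Agent.Lib.Helper14.AutOK
import Cfsg.Prelude.Def_LieTypeDatum

/-!
# Automorphisms of orthogonal groups: every automorphism is induced by a semisimilarity

The automorphism group of `PΩ(Q)` is the image of the group of semisimilarities, for a
non-degenerate quadratic form `Q` in dimension at least seven over a finite field, provided the
dimension is at least nine or there are no totally singular subspaces of dimension four.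
-/

set_option autoImplicit false

namespace Cfsg.Agent.Lib.Helper14

open Matrix Module

section autoL0

variable {ι : Type} [Fintype ι] [DecidableEq ι] {F : Type*} [Field F]
variable (Q : QuadraticForm F (ι → F))

theorem cj_one (G : Matrix ι ι F) (τ : F ≃+* F) (hdet : IsUnit G.det) :
    G * (1 : Matrix ι ι F).map τ * G⁻¹ = 1 := by
  rw [Matrix.map_one _ (map_zero τ) (map_one τ), Matrix.mul_one, Matrix.mul_nonsing_inv _ hdet]

theorem cj_mul (G : Matrix ι ι F) (τ : F ≃+* F) (hdet : IsUnit G.det) (M N : Matrix ι ι F) :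
    G * (M * N).map τ * G⁻¹ = (G * M.map τ * G⁻¹) * (G * N.map τ * G⁻¹) := by
  have e : (M * N).map τ = M.map τ * N.map τ := by
    ext i j
    simp only [Matrix.map_apply, Matrix.mul_apply, map_sum, map_mul]
  rw [e]
  calc G * (M.map τ * N.map τ) * G⁻¹
      = G * M.map τ * (1 : Matrix ι ι F) * (N.map τ * G⁻¹) := by
        rw [Matrix.mul_one]; simp only [Matrix.mul_assoc]
    _ = G * M.map τ * (G⁻¹ * G) * (N.map τ * G⁻¹) := by rw [Matrix.nonsing_inv_mul _ hdet]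
    _ = _ := by simp only [Matrix.mul_assoc]

/-- The elements of `Ω` on which `α` acts as conjugation by the semilinear map `(G, τ)`. -/
def conjSub (α : Cfsg.POmega F ⇑Q ≃* Cfsg.POmega F ⇑Q) (G : Matrix ι ι F) (τ : F ≃+* F)
    (hdet : IsUnit G.det) : Subgroup ↥(Cfsg.Omega F ⇑Q) where
  carrier := {s | ∃ s' : ↥(Cfsg.Omega F ⇑Q),
    omat Q s' = G * (omat Q s).map τ * G⁻¹ ∧ α (pim Q s) = pim Q s'}
  mul_mem' := by
    rintro s₁ s₂ ⟨t₁, h₁, e₁⟩ ⟨t₂, h₂, e₂⟩
    exact ⟨t₁ * t₂, by rw [omat_mul, omat_mul, cj_mul G τ hdet, h₁, h₂],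
      by simp only [map_mul, e₁, e₂]⟩
  one_mem' := ⟨1, by rw [omat_one, cj_one G τ hdet], by simp only [map_one]⟩
  inv_mem' := by
    rintro s ⟨t, h₁, e₁⟩
    refine ⟨t⁻¹, ?_, by simp only [map_inv, e₁]⟩
    have h2 : omat Q t * (G * (omat Q s⁻¹).map τ * G⁻¹) = 1 := by
      rw [h₁, ← cj_mul G τ hdet, omat_mul_inv, cj_one G τ hdet]
    calc omat Q t⁻¹ = omat Q t⁻¹ * (omat Q t * (G * (omat Q s⁻¹).map τ * G⁻¹)) := by
          rw [h2, Matrix.mul_one]
      _ = _ := by rw [← Matrix.mul_assoc, omat_inv_mul, Matrix.one_mul]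

theorem mem_conjSub (α : Cfsg.POmega F ⇑Q ≃* Cfsg.POmega F ⇑Q) (G : Matrix ι ι F)
    (τ : F ≃+* F) (hdet : IsUnit G.det) (s : ↥(Cfsg.Omega F ⇑Q)) :
    s ∈ conjSub Q α G τ hdet ↔ ∃ s' : ↥(Cfsg.Omega F ⇑Q),
      omat Q s' = G * (omat Q s).map τ * G⁻¹ ∧ α (pim Q s) = pim Q s' := Iff.rfl

end autoL0

section autoL

variable {ι : Type} [Fintype ι] [DecidableEq ι] {F : Type*} [Field F] [Fintype F]
variable (Q : QuadraticForm F (ι → F)) (hQ : (QuadraticMap.polarBilin Q).Nondegenerate)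
variable (hn : 7 ≤ Fintype.card ι)

set_option quotPrecheck false in
local notation "φ" => QuadraticMap.polar (⇑Q)
set_option quotPrecheck false in
local notation "𝐄" => eo Q hQ (five_le hn)
set_option quotPrecheck false in
local notation "pr" => pim Q

include hQ hn

theorem eo_zero_left (w : ι → F) : 𝐄 0 w = 1 := by
  apply omat_injective
  rw [omat_eo Q hQ _ (map_zero Q) (QuadraticMap.polar_zero_left _ _), eichMat_zero_left, omat_one]

/-- Moving a radical by an element of an opposite radical. -/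
theorem move_rad (H : Subgroup ↥(Cfsg.Omega F ⇑Q)) {b b' a : ι → F} (hb : Q b = 0)
    (hb' : Q b' = 0) (ha : Q a = 0) (hH : ∀ w, φ b w = 0 → 𝐄 b w ∈ H)
    (hH' : ∀ w, φ b' w = 0 → 𝐄 b' w ∈ H) (h1 : φ b' b ≠ 0) (h2 : φ b' a ≠ 0) :
    ∀ w, φ a w = 0 → 𝐄 a w ∈ H := by
  intro w haw
  obtain ⟨b₁, hb₁⟩ : ∃ b₁, b₁ = (φ b' b)⁻¹ • b := ⟨_, rfl⟩
  obtain ⟨a₁, ha₁⟩ : ∃ a₁, a₁ = (φ b' a)⁻¹ • a := ⟨_, rfl⟩
  have hb₁s : Q b₁ = 0 := by rw [hb₁, QuadraticMap.map_smul, hb, smul_zero]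
  have ha₁s : Q a₁ = 0 := by rw [ha₁, QuadraticMap.map_smul, ha, smul_zero]
  have hb'b₁ : φ b' b₁ = 1 := by rw [hb₁, polar_smul_right_eq, inv_mul_cancel₀ h1]
  have hb'a₁ : φ b' a₁ = 1 := by rw [ha₁, polar_smul_right_eq, inv_mul_cancel₀ h2]
  obtain ⟨hw, -, hgx⟩ := eich_move Q hb' hb₁s ha₁s hb'b₁ hb'a₁
  obtain ⟨h, hh, hhH⟩ : ∃ h : ↥(Cfsg.Omega F ⇑Q),
      omat Q h = eichMat Q b' (a₁ - b₁) ∧ h ∈ H :=
    ⟨𝐄 b' (a₁ - b₁), omat_eo Q hQ _ hb' hw, hH' _ hw⟩
  have hhb : omat Q h *ᵥ b₁ = a₁ := by rw [hh, hgx]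
  have ha₁w : φ a₁ w = 0 := by rw [ha₁, polar_smul_left_eq, haw, mul_zero]
  obtain ⟨w', hw'⟩ : ∃ w', w' = φ b' a • w := ⟨_, rfl⟩
  have ha₁w' : φ a₁ w' = 0 := by rw [hw', polar_smul_right_eq, ha₁w, mul_zero]
  have e1 : 𝐄 a w = 𝐄 a₁ w' := by
    have haa : 𝐄 a w = 𝐄 (φ b' a • a₁) w := by
      rw [ha₁, smul_smul, mul_inv_cancel₀ h2, one_smul]
    rw [haa, eo_smul_left Q hQ hn ha₁s ha₁w, ← hw']
  obtain ⟨v, hv⟩ : ∃ v, v = omat Q h⁻¹ *ᵥ w' := ⟨_, rfl⟩
  have hhv : omat Q h *ᵥ v = w' := by rw [hv, mulVec_mulVec, omat_mul_inv, one_mulVec]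
  have hb₁v : φ b₁ v = 0 := by
    have := omat_polar Q h b₁ v
    rw [hhb, hhv, ha₁w'] at this
    exact this.symm
  have e2 : 𝐄 a₁ w' = h * 𝐄 b₁ v * h⁻¹ := by
    rw [eo_conj Q hQ _ h hb₁s hb₁v, hhb, hhv]
  have hbv : φ b v = 0 := by
    rw [hb₁, polar_smul_left_eq] at hb₁v
    exact (mul_eq_zero.mp hb₁v).resolve_left (inv_ne_zero h1)
  have e3 : 𝐄 b₁ v = 𝐄 b ((φ b' b)⁻¹ • v) := by
    rw [hb₁, eo_smul_left Q hQ hn hb hbv]
  rw [e1, e2, e3]
  exact H.mul_mem (H.mul_mem hhH (hH _ (by rw [polar_smul_right_eq, hbv, mul_zero])))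
    (H.inv_mem hhH)

/-- `Ω` is generated by the radicals at the two points of a hyperbolic pair. -/
theorem subgroup_eq_top (H : Subgroup ↥(Cfsg.Omega F ⇑Q)) {u u' : ι → F} (hu : Q u = 0)
    (hu' : Q u' = 0) (huu' : φ u u' = 1) (hH : ∀ w, φ u w = 0 → 𝐄 u w ∈ H)
    (hH' : ∀ w, φ u' w = 0 → 𝐄 u' w ∈ H) : H = ⊤ := by
  have hc := fun (x y : ι → F) => QuadraticMap.polar_comm (⇑Q) x y
  have hu'u : φ u' u = 1 := by rw [hc]; exact huu'
  have hu0 : u ≠ 0 := ne_zero_of_polar_left Q (by rw [huu']; exact one_ne_zero)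
  have c1 : ∀ a, Q a = 0 → φ u' a ≠ 0 → ∀ w, φ a w = 0 → 𝐄 a w ∈ H := fun a ha h =>
    move_rad Q hQ hn H hu hu' ha hH hH' (by rw [hu'u]; exact one_ne_zero) h
  have c2 : ∀ a, Q a = 0 → φ u a ≠ 0 → ∀ w, φ a w = 0 → 𝐄 a w ∈ H := fun a ha h =>
    move_rad Q hQ hn H hu' hu ha hH' hH (by rw [huu']; exact one_ne_zero) h
  have call : ∀ a, Q a = 0 → ∀ w, φ a w = 0 → 𝐄 a w ∈ H := by
    intro a ha
    by_cases h1 : φ u' a = 0
    · by_cases h2 : φ u a = 0
      · by_cases ha0 : a = 0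
        · intro w _
          rw [ha0, eo_zero_left Q hQ hn]
          exact H.one_mem
        · have hli : LinearIndependent F ![u, a] := li2_of_not_smul hu0 (by
            intro c hc'
            rw [hc', polar_smul_right_eq, hu'u, mul_one] at h1
            exact ha0 (by rw [hc', h1, zero_smul]))
          obtain ⟨b', hb', hb'2⟩ := exists_sing_polar_eq Q hQ ![u, a] hli ![1, 1]
            (by simpa using hn)
          have hub' : φ u b' = 1 := by simpa using hb'2 0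
          have hab' : φ a b' = 1 := by simpa using hb'2 1
          exact move_rad Q hQ hn H hu hb' ha hH (c2 b' hb' (by rw [hub']; exact one_ne_zero))
            (by rw [hc, hub']; exact one_ne_zero) (by rw [hc, hab']; exact one_ne_zero)
      · exact c2 a ha h2
    · exact c1 a ha h1
  rw [eq_top_iff]
  intro x _
  have hx : (x : ↥(Cfsg.isometryGroup F ⇑Q)) ∈ Subgroup.closure (eichSet Q) := by
    rw [← omega_eq_closure_eich Q hQ (five_le hn)]
    exact x.2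
  have hle : Subgroup.closure (eichSet Q) ≤ H.map (Cfsg.Omega F ⇑Q).subtype := by
    rw [Subgroup.closure_le]
    rintro g ⟨a, w, ha, haw, hg⟩
    refine ⟨𝐄 a w, call a ha w haw, ?_⟩
    apply isom_ext
    rw [hg]
    exact omat_eo Q hQ _ ha haw
  obtain ⟨y, hy, hyx⟩ := hle hx
  have : y = x := Subtype.ext hyx
  rw [← this]
  exact hy

/-- A normalised automorphism whose action on the two opposite radicals is given by semilinear
data is induced by a semisimilarity. -/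
theorem induced_of_normalized (α : MulAut (Cfsg.POmega F ⇑Q)) {u u' : ι → F} {τ : F ≃+* F}
    {μ : F} {A : (ι → F) → (ι → F)} (D : SemiData Q u u' τ μ A)
    (hAs : ∀ z ∈ N0 Q u u', α (pr (𝐄 u z)) = pr (𝐄 u (A z)))
    (hA's : ∀ z ∈ N0 Q u u', α (pr (𝐄 u' z)) = pr (𝐄 u' (μ • A z))) :
    ∃ g : GL ι F, Cfsg.IsSemisimilarityPair ⇑Q g τ ∧
      Cfsg.IsInducedBySemilinearPOmega ⇑Q g τ α := by
  have hU := gmat_isUnit D hQ
  have hdet : IsUnit (gmat D).det := (Matrix.isUnit_iff_isUnit_det _).mp hU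
  have hHu : ∀ w, φ u w = 0 → 𝐄 u w ∈ conjSub Q α (gmat D) τ hdet := by
    intro w hw
    have hz := pj_mem Q D.hu D.hu' D.huu' w
    have e1 : 𝐄 u w = 𝐄 u (pj Q u u' w) := by
      have e2 : w = pj Q u u' w + φ u' w • u := by
        have := pj_decomp Q u u' w
        rw [hw, zero_smul, add_zero] at this
        rw [add_comm]; exact this
      conv_lhs => rw [e2]
      exact eo_add_smul Q hQ hn D.hu hz.1 _
    rw [mem_conjSub]
    refine ⟨𝐄 u (A (pj Q u u' w)), ?_, ?_⟩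
    · rw [e1, omat_eo Q hQ _ D.hu hz.1, omat_eo Q hQ _ D.hu (D.mem _ hz).1, gmat_conj' D hQ,
        gmap_u D, gmap_N0 D hz, smul_smul, inv_mul_cancel₀ D.hμ, one_smul]
    · rw [e1, hAs _ hz]
  have hHu' : ∀ w, φ u' w = 0 → 𝐄 u' w ∈ conjSub Q α (gmat D) τ hdet := by
    intro w hw
    have hz := pj_mem Q D.hu D.hu' D.huu' w
    have e1 : 𝐄 u' w = 𝐄 u' (pj Q u u' w) := by
      have e2 : w = pj Q u u' w + φ u w • u' := by
        have := pj_decomp Q u u' w
        rw [hw, zero_smul, zero_add] at this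
        rw [add_comm]; exact this
      conv_lhs => rw [e2]
      exact eo_add_smul Q hQ hn D.hu' hz.2 _
    have hperp : φ u' (μ • A (pj Q u u' w)) = 0 := by
      rw [polar_smul_right_eq, (D.mem _ hz).2, mul_zero]
    rw [mem_conjSub]
    refine ⟨𝐄 u' (μ • A (pj Q u u' w)), ?_, ?_⟩
    · rw [e1, omat_eo Q hQ _ D.hu' hz.2, omat_eo Q hQ _ D.hu' hperp, gmat_conj' D hQ,
        gmap_u' D, gmap_N0 D hz, smul_smul, inv_mul_cancel₀ D.hμ, one_smul, eichMat_smul_left]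
    · rw [e1, hA's _ hz]
  have hHtop := subgroup_eq_top Q hQ hn (conjSub Q α (gmat D) τ hdet) D.hu D.hu' D.huu' hHu hHu'
  refine ⟨hU.unit, ⟨Units.mk0 μ D.hμ, fun v => ?_⟩, ?_⟩
  · show Q (gmat D *ᵥ fun i => τ (v i)) = μ * τ (Q v)
    rw [gmat_mulVec D, gmap_quad D]
  · intro s s' hss'
    have hs : s ∈ conjSub Q α (gmat D) τ hdet := by rw [hHtop]; exact Subgroup.mem_top s
    rw [mem_conjSub] at hs
    obtain ⟨t, ht, e⟩ := hs
    have hst : s' = t := by
      apply omat_injective Q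
      rw [ht]
      have hinv : ((hU.unit⁻¹ : GL ι F) : Matrix ι ι F) = (gmat D)⁻¹ := by
        rw [Matrix.coe_units_inv]; rfl
      rw [← hinv]
      exact hss'
    rw [hst]
    exact e

/-- Every automorphism of `PΩ(Q)` is induced by a semisimilarity. -/
theorem gammaPOmega_eq_top (hbig : 9 ≤ Fintype.card ι ∨ NoTS4 Q) :
    Cfsg.gammaPOmega F ⇑Q = ⊤ := by
  haveI := ringChar.charP F
  haveI : Fact (ringChar F).Prime := ⟨CharP.char_is_prime F _⟩
  rw [eq_top_iff]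
  intro β _
  obtain ⟨u, hu0, hu⟩ := exists_sing_ne_zero Q hQ (by omega)
  obtain ⟨u', hu', huu'⟩ := exists_hyp_partner Q hQ (five_le hn) hu0
  obtain ⟨g, R, R'⟩ := exists_normalize Q hQ hn (ringChar F) hbig β hu hu' huu'
  obtain ⟨τ, μ, A, hμ0, hAm, hAa, hsl, hform, hAs, hA's⟩ :=
    normalized_semilinear Q hQ hn (ringChar F) (MulAut.conj (pim Q g) * β) hu hu' huu' R R'
  have D : SemiData Q u u' τ μ A := ⟨hu, hu', huu', hμ0, hAm, hAa, hsl, hform⟩
  obtain ⟨G, hG1, hG2⟩ := induced_of_normalized Q hQ hn (MulAut.conj (pim Q g) * β) D hAs hA's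
  have h1 : MulAut.conj (pim Q g) * β ∈ Cfsg.gammaPOmega F ⇑Q :=
    Subgroup.subset_closure ⟨G, τ, hG1, hG2⟩
  have h2 : MulAut.conj (pim Q g) ∈ Cfsg.gammaPOmega F ⇑Q := by
    apply Subgroup.subset_closure
    refine ⟨((g : ↥(Cfsg.isometryGroup F ⇑Q)) : GL ι F), RingEquiv.refl F, ⟨1, fun v => ?_⟩, ?_⟩
    · show Q (omat Q g *ᵥ v) = 1 * Q v
      rw [one_mul]
      exact omat_isom Q g v
    · intro s s' hss'
      have e : s' = g * s * g⁻¹ := by
        apply omat_injective Q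
        rw [omat_mul, omat_mul]
        have hm : (omat Q s).map (RingEquiv.refl F) = omat Q s := by
          ext i j; rfl
        rw [← hm]
        exact hss'
      rw [e]
      rfl
  have h3 : β = (MulAut.conj (pim Q g))⁻¹ * (MulAut.conj (pim Q g) * β) := by group
  rw [h3]
  exact Subgroup.mul_mem _ (Subgroup.inv_mem _ h2) h1

end autoL

end Cfsg.Agent.Lib.Helper14
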