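import Mathlib
import Cfsg.Prelude.Def_Classical
import Cfsg.Agent.Lib.Helper14.Forms

set_option autoImplicit false

namespace Cfsg.Agent.Lib.Helper14

open Matrix

section

variable {ι : Type} [Fintype ι] [DecidableEq ι] {F : Type*} [Field F] [Fintype F]

omit [Fintype ι] [DecidableEq ι] in
theorem two_ne_zero_of_card_odd (hq : Odd (Fintype.card F)) : (2 : F) ≠ 0 := by
  apply Ring.two_ne_zero
  intro h
  rw [FiniteField.even_card_iff_char_two] at h
  rw [Nat.odd_iff] at hq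
  omega

/-- The involution negating the first `i` hyperbolic pairs lies in `Ω` iff `q^i ≡ 1 (mod 4)`. -/
theorem hyp_involution_mem_omega_iff {q : ℕ} (hF : Fintype.card F = q) (hq : Odd q)
    (Q : QuadraticForm F (ι → F)) (hQ : (QuadraticMap.polarBilin Q).Nondegenerate)
    (Qf : (ι → F) → F) (hQf : ⇑Q = Qf) (m : ℕ) (κ κ' : Fin m → ι)
    (hpair : ∀ j, IsHypPair Qf (κ j) (κ' j)) (idx : ι → ℕ) (i : ℕ) (him : i ≤ m)
    (hidx : ∀ (j : Fin m) (k : ι), (j : ℕ) < i → (idx k = (j : ℕ) ↔ (k = κ j ∨ k = κ' j))) :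
    (∃ g : ↥(Cfsg.isometryGroup F Qf), g ∈ Cfsg.Omega F Qf ∧
      ((g : Matrix.GeneralLinearGroup ι F) : Matrix ι ι F) =
        Matrix.diagonal (fun k => if idx k < i then (-1 : F) else 1)) ↔ q ^ i % 4 = 1 := by
  have h2 : (2 : F) ≠ 0 := two_ne_zero_of_card_odd (by rw [hF]; exact hq)
  obtain ⟨l, hl, hlen, hprod, hmat⟩ := hyp_pairs_diag Q m κ κ' (by rw [hQf]; exact hpair) idx i
    him hidx
  rw [exists_mem_omega_iff h2 Q hQ Qf hQf l hl _ hmat, hlen, hprod,
    isSquare_neg_one_pow_iff_mod hF hq]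
  simp

/-- `-1 ∈ Ω⁺_{2m}(q)` iff `q^m ≡ 1 (mod 4)`. -/
theorem neg_one_mem_omega_plus_iff' {q : ℕ} (hF : Fintype.card F = q) (hq : Odd q) (m : ℕ) :
    (∃ g : ↥(Cfsg.isometryGroup F (Cfsg.quadFormPlus m F)),
      g ∈ Cfsg.Omega F (Cfsg.quadFormPlus m F) ∧
      ((g : Matrix.GeneralLinearGroup (Fin m ⊕ Fin m) F) :
        Matrix (Fin m ⊕ Fin m) (Fin m ⊕ Fin m) F) = -1) ↔ q ^ m % 4 = 1 := by
  have key := hyp_involution_mem_omega_iff hF hq (plusQF m F) (plusQF_nondegenerate m F) _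
    (plusQF_coe m F) m Sum.inl Sum.inr (plus_isHypPair m F)
    (Sum.elim (fun j : Fin m => (j : ℕ)) (fun j : Fin m => (j : ℕ))) m le_rfl
    (by rintro j (k | k) _ <;> simp [Fin.ext_iff])
  have hd : Matrix.diagonal (fun k : Fin m ⊕ Fin m =>
      if (Sum.elim (fun j : Fin m => (j : ℕ)) (fun j : Fin m => (j : ℕ)) k) < m
        then (-1 : F) else 1) = -1 := by
    rw [← Matrix.diagonal_one, Matrix.diagonal_neg]
    congr 1
    funext k
    rcases k with k | k <;> simp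
  rw [hd] at key
  exact key

/-- `-1 ∈ Ω⁻_{2(k+1)}(q)` iff `q^(k+1) ≡ 3 (mod 4)`. -/
theorem neg_one_mem_omega_minus_iff' {q : ℕ} (hF : Fintype.card F = q) (hq : Odd q) (k : ℕ)
    (a b : F) (hab : ∀ z₁ z₂ : F, z₁ ^ 2 + a * z₁ * z₂ + b * z₂ ^ 2 = 0 → z₁ = 0 ∧ z₂ = 0) :
    (∃ g : ↥(Cfsg.isometryGroup F (Cfsg.quadFormMinus k F a b)),
      g ∈ Cfsg.Omega F (Cfsg.quadFormMinus k F a b) ∧
      ((g : Matrix.GeneralLinearGroup ((Fin k ⊕ Fin k) ⊕ Fin 2) F) :
        Matrix ((Fin k ⊕ Fin k) ⊕ Fin 2) ((Fin k ⊕ Fin k) ⊕ Fin 2) F) = -1) ↔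
      q ^ (k + 1) % 4 = 3 := by
  have h2 : (2 : F) ≠ 0 := two_ne_zero_of_card_odd (by rw [hF]; exact hq)
  have hd := minus_disc_ne_zero F h2 a b hab
  have hns := minus_disc_not_isSquare F h2 a b hab
  have hcoe := minusQF_coe k F a b
  have hQ := minusQF_nondegenerate k F h2 a b hab
  obtain ⟨l, hl, hlen, hprod, hmat⟩ := hyp_pairs_diag (minusQF k F a b) k
    (fun j => Sum.inl (Sum.inl j)) (fun j => Sum.inl (Sum.inr j))
    (by rw [hcoe]; exact minus_isHypPair k F a b)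
    (Sum.elim (Sum.elim (fun j : Fin k => (j : ℕ)) (fun j : Fin k => (j : ℕ))) (fun _ => k)) k
    le_rfl (by
      rintro j ((i | i) | i) hj
      · simp [Fin.ext_iff]
      · simp [Fin.ext_iff]
      · simp only [Sum.elim_inr, reduceCtorEq, or_self, iff_false]
        omega)
  have hl' : ∀ u ∈ l ++ [Pi.single (Sum.inr 0) 1, Sum.elim 0 ![-a, 2]],
      minusQF k F a b u ≠ 0 := by
    intro u hu
    rw [List.mem_append] at hu
    rcases hu with hu | hu
    · exact hl u hu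
    · simp only [List.mem_cons, List.not_mem_nil, or_false] at hu
      rcases hu with rfl | rfl
      · rw [hcoe, minus_quad_g1]; exact one_ne_zero
      · rw [hcoe, minus_quad_g2]; exact hd
  have hM : ((l ++ [Pi.single (Sum.inr 0) 1, Sum.elim 0 ![-a, 2]]).map
      (Cfsg.reflectionMatrix ⇑(minusQF k F a b))).prod = -1 := by
    rw [List.map_append, List.prod_append, hmat]
    simp only [List.map_cons, List.map_nil, List.prod_cons, List.prod_nil, mul_one]
    rw [minus_refl_mul_refl k F a b hd, Matrix.diagonal_mul_diagonal, ← Matrix.diagonal_one,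
      Matrix.diagonal_neg]
    congr 1
    funext i
    rcases i with (i | i) | i <;> simp
  rw [exists_mem_omega_iff h2 (minusQF k F a b) hQ _ hcoe _ hl' _ hM]
  have hprod' : ((l ++ [Pi.single (Sum.inr 0) 1, Sum.elim 0 ![-a, 2]]).map
      ⇑(minusQF k F a b)).prod = (-1) ^ (k + 1) * (a ^ 2 - 4 * b) := by
    rw [List.map_append, List.prod_append, hprod]
    simp only [List.map_cons, List.map_nil, List.prod_cons, List.prod_nil, mul_one]
    rw [hcoe, minus_quad_g1, minus_quad_g2]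
    ring
  rw [hprod']
  have hlen' : Even (l ++ [Pi.single (Sum.inr 0) 1, Sum.elim 0 ![-a, 2]]).length := by
    rw [List.length_append, hlen]
    exact ⟨k + 1, by simp; ring⟩
  have hiff : IsSquare ((-1) ^ (k + 1) * (a ^ 2 - 4 * b)) ↔ ¬ IsSquare ((-1 : F) ^ (k + 1)) :=
    ⟨fun h hs => not_isSquare_mul_of_isSquare hs
      (pow_ne_zero _ (neg_ne_zero.mpr one_ne_zero)) hns h,
     fun h => isSquare_mul_of_not_isSquare h hns⟩
  rw [hiff, isSquare_neg_one_pow_iff_mod hF hq]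
  have hodd : q ^ (k + 1) % 2 = 1 := by
    rw [Nat.pow_mod, Nat.odd_iff.mp hq]
    simp
  constructor
  · rintro ⟨_, h⟩
    omega
  · intro h
    exact ⟨hlen', by omega⟩

end

end Cfsg.Agent.Lib.Helper14
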