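import Mathlib
import Cfsg.Agent.Lib.Helper14.AutOL
import Cfsg.Agent.Lib.Helper14.Centre
import Cfsg.Agent.Lib.Helper14.OmegaInv
import Cfsg.Agent.Lib.Helper44.Char2Forms

/-!
# Automorphisms of orthogonal groups: the small cases

In dimension seven, and for the minus-type form in dimension eight, there are no totally
singular subspaces of dimension four.
-/

set_option autoImplicit false

namespace Cfsg.Agent.Lib.Helper14

open Matrix Module

section autoM

variable {ι : Type} [Fintype ι] [DecidableEq ι] {F : Type*} [Field F]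
variable (Q : QuadraticForm F (ι → F))

set_option quotPrecheck false in
local notation "φ" => QuadraticMap.polar (⇑Q)

/-- The span of a totally singular quadruple is totally singular. -/
theorem ts4_span {a b c d : ι → F} (hab : TSP Q a b) (hcd : TSP Q c d) (k1 : φ a c = 0)
    (k2 : φ a d = 0) (k3 : φ b c = 0) (k4 : φ b d = 0) :
    ∀ x ∈ Submodule.span F (Set.range ![a, b, c, d]), Q x = 0 := by
  have hc := fun (x y : ι → F) => QuadraticMap.polar_comm (⇑Q) x y
  have hv : ∀ j i, φ (![a, b, c, d] j) (![a, b, c, d] i) = 0 := by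
    intro j i
    fin_cases j <;> fin_cases i <;>
      simp [polar_self_zero Q hab.1, polar_self_zero Q hab.2.1, polar_self_zero Q hcd.1,
        polar_self_zero Q hcd.2.1, hab.2.2.1, hcd.2.2.1, k1, k2, k3, k4, hc b a, hc d c, hc c a,
        hc d a, hc c b, hc d b]
  have hq : ∀ j, Q (![a, b, c, d] j) = 0 := by
    intro j
    fin_cases j <;> simp [hab.1, hab.2.1, hcd.1, hcd.2.1]
  have h1 : ∀ x ∈ Submodule.span F (Set.range ![a, b, c, d]), ∀ i,
      φ x (![a, b, c, d] i) = 0 := by
    intro x hx i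
    induction hx using Submodule.span_induction with
    | mem x h =>
      obtain ⟨j, rfl⟩ := h
      exact hv j i
    | zero => exact QuadraticMap.polar_zero_left _ _
    | add x y _ _ hx hy => rw [QuadraticMap.polar_add_left, hx, hy, add_zero]
    | smul c x _ hx => rw [polar_smul_left_eq, hx, mul_zero]
  have h2 : ∀ x ∈ Submodule.span F (Set.range ![a, b, c, d]),
      ∀ y ∈ Submodule.span F (Set.range ![a, b, c, d]), φ x y = 0 := by
    intro x hx y hy
    induction hy using Submodule.span_induction with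
    | mem y h =>
      obtain ⟨j, rfl⟩ := h
      exact h1 x hx j
    | zero => exact QuadraticMap.polar_zero_right _ _
    | add y z _ _ hy hz => rw [QuadraticMap.polar_add_right, hy, hz, add_zero]
    | smul c y _ hy => rw [polar_smul_right_eq, hy, mul_zero]
  intro x hx
  induction hx using Submodule.span_induction with
  | mem x h =>
    obtain ⟨j, rfl⟩ := h
    exact hq j
  | zero => exact map_zero Q
  | add x y hx hy ihx ihy =>
    rw [QuadraticMap.map_add (⇑Q), ihx, ihy, h2 x hx y hy, add_zero, add_zero]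
  | smul c x _ ihx => rw [QuadraticMap.map_smul, ihx, smul_zero]

theorem noTS4_of_bound
    (hbound : ∀ W : Submodule F (ι → F), (∀ x ∈ W, Q x = 0) → finrank F W ≤ 3) : NoTS4 Q := by
  intro a b c d hab hcd k1 k2 k3 k4 hli
  have h := hbound _ (ts4_span Q hab hcd k1 k2 k3 k4)
  rw [finrank_span_eq_card hli] at h
  simp at h

end autoM

section forms

variable (m : ℕ) (F : Type*) [Field F] [Fintype F]

theorem noTS4_odd (h2 : (2 : F) ≠ 0) : NoTS4 (oddQF 3 F) :=
  noTS4_of_bound _ (fun W hW => by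
    have h := two_mul_finrank_le_of_ts (oddQF_nondegenerate 3 F h2) hW
    rw [Module.finrank_fintype_fun_eq_card] at h
    simp only [Fintype.card_sum, Fintype.card_fin, Fintype.card_unit] at h
    omega)

/-- The coordinate subspace `x = 0, z = 0` for the minus-type form. -/
def minusY : Submodule F ((Fin m ⊕ Fin m) ⊕ Fin 2 → F) where
  carrier := {v | (∀ i, v (Sum.inl (Sum.inl i)) = 0) ∧ ∀ j, v (Sum.inr j) = 0}
  add_mem' := by
    rintro x y ⟨h1, h2⟩ ⟨h3, h4⟩
    exact ⟨fun i => by rw [Pi.add_apply, h1 i, h3 i, add_zero],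
      fun j => by rw [Pi.add_apply, h2 j, h4 j, add_zero]⟩
  zero_mem' := ⟨fun _ => rfl, fun _ => rfl⟩
  smul_mem' := by
    rintro c x ⟨h1, h2⟩
    exact ⟨fun i => by rw [Pi.smul_apply, h1 i, smul_zero],
      fun j => by rw [Pi.smul_apply, h2 j, smul_zero]⟩

omit [Fintype F] in
theorem finrank_minusY_le : finrank F (minusY m F) ≤ m := by
  have hinj : Function.Injective ((LinearMap.funLeft F F
      (fun i : Fin m => (Sum.inl (Sum.inr i) : (Fin m ⊕ Fin m) ⊕ Fin 2))).domRestrict
      (minusY m F)) := by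
    rw [injective_iff_map_eq_zero]
    rintro ⟨y, hy1, hy2⟩ h
    apply Subtype.ext
    funext k
    rcases k with (i | i) | j
    · exact hy1 i
    · exact congrFun h i
    · exact hy2 j
  have := LinearMap.finrank_le_finrank_of_injective hinj
  rwa [Module.finrank_fin_fun] at this

set_option quotPrecheck false in
local notation "orthQ" => Cfsg.Agent.Lib.Helper44.orth

/-- A totally singular subspace of the minus-type form has dimension at most `m`. -/
theorem minus_ts_le (a b : F)
    (hab : ∀ z₁ z₂ : F, z₁ ^ 2 + a * z₁ * z₂ + b * z₂ ^ 2 = 0 → z₁ = 0 ∧ z₂ = 0)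
    (W : Submodule F ((Fin m ⊕ Fin m) ⊕ Fin 2 → F)) (hW : ∀ x ∈ W, minusQF m F a b x = 0) :
    finrank F W ≤ m := by
  have hQ := Cfsg.Agent.Lib.Helper44.minusQF_nondegenerate_all m F a b hab
  obtain ⟨Q, hQdef⟩ : ∃ Q, Q = minusQF m F a b := ⟨_, rfl⟩
  rw [← hQdef] at hQ hW
  have hcoe : ⇑Q = Cfsg.quadFormMinus m F a b := by rw [hQdef, minusQF_coe]
  obtain ⟨Y, hY⟩ : ∃ Y, Y = minusY m F := ⟨_, rfl⟩
  have hYle : finrank F Y ≤ m := by rw [hY]; exact finrank_minusY_le m F
  have h1 : ∀ v ∈ orthQ Q Y, ∀ i, v (Sum.inl (Sum.inl i)) = 0 := by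
    intro v hv i
    rw [Cfsg.Agent.Lib.Helper44.mem_orth_iff] at hv
    have hmem : (Pi.single (Sum.inl (Sum.inr i)) 1 : (Fin m ⊕ Fin m) ⊕ Fin 2 → F) ∈ Y := by
      rw [hY]
      exact ⟨fun i' => by simp, fun j => by simp⟩
    have := hv _ hmem
    rw [hcoe, minus_polar_inr] at this
    exact this
  have h2 : W ⊓ orthQ Q Y ≤ Y := by
    rintro w ⟨hwW, hwO⟩
    have hx := h1 w hwO
    have hq := hW w hwW
    rw [hcoe] at hq
    unfold Cfsg.quadFormMinus at hq
    have hsum : ∑ i : Fin m, w (Sum.inl (Sum.inl i)) * w (Sum.inl (Sum.inr i)) = 0 :=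
      Finset.sum_eq_zero (fun i _ => by rw [hx i, zero_mul])
    rw [hsum, zero_add] at hq
    obtain ⟨hz0, hz1⟩ := hab _ _ hq
    rw [hY]
    refine ⟨hx, fun j => ?_⟩
    fin_cases j
    · exact hz0
    · exact hz1
  have h3 : W ⊔ orthQ Q Y ≤ orthQ Q (W ⊓ orthQ Q Y) := by
    apply sup_le
    · intro w hw
      rw [Cfsg.Agent.Lib.Helper44.mem_orth_iff]
      rintro y ⟨hyW, -⟩
      have e1 := hW _ (W.add_mem hyW hw)
      have e2 := hW _ hyW
      have e3 := hW _ hw
      show Q (y + w) - Q y - Q w = 0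
      rw [e1, e2, e3, sub_zero, sub_zero]
    · intro v hv
      rw [Cfsg.Agent.Lib.Helper44.mem_orth_iff] at hv ⊢
      intro y hy
      exact hv y (h2 hy)
  have h4 := Submodule.finrank_sup_add_finrank_inf_eq W (orthQ Q Y)
  have h5 := Submodule.finrank_mono h3
  have h6 := Cfsg.Agent.Lib.Helper44.finrank_orth Q hQ (W ⊓ orthQ Q Y)
  have h7 := Cfsg.Agent.Lib.Helper44.finrank_orth Q hQ Y
  have h8 : finrank F ↥(W ⊓ orthQ Q Y) ≤ finrank F ((Fin m ⊕ Fin m) ⊕ Fin 2 → F) :=
    Submodule.finrank_le _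
  have h9 : finrank F ↥Y ≤ finrank F ((Fin m ⊕ Fin m) ⊕ Fin 2 → F) := Submodule.finrank_le _
  omega

theorem noTS4_minus (a b : F)
    (hab : ∀ z₁ z₂ : F, z₁ ^ 2 + a * z₁ * z₂ + b * z₂ ^ 2 = 0 → z₁ = 0 ∧ z₂ = 0) :
    NoTS4 (minusQF 3 F a b) :=
  noTS4_of_bound _ (fun W hW => minus_ts_le 3 F a b hab W hW)

end forms

end Cfsg.Agent.Lib.Helper14
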