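import Mathlib
import Cfsg.Agent.Lib.Helper14.Spinor2

set_option autoImplicit false

namespace Cfsg.Agent.Lib.Helper14

open Matrix
open scoped commutatorElement

section grp

variable {G : Type*} [Group G]

theorem commutator_mem_of_closure_left (S T : Set G) (hS : Subgroup.closure S = ⊤)
    (N : Subgroup G) [hN : N.Normal] (h : ∀ s ∈ S, ∀ t ∈ T, ⁅s, t⁆ ∈ N) (a : G) :
    ∀ t ∈ T, ⁅a, t⁆ ∈ N := by
  intro t ht
  have ha : a ∈ Subgroup.closure S := by rw [hS]; trivial
  refine Subgroup.closure_induction (p := fun a _ => ⁅a, t⁆ ∈ N) ?_ ?_ ?_ ?_ ha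
  · intro s hs
    exact h s hs t ht
  · simp [commutatorElement_def]
  · intro a b _ _ iha ihb
    have e : ⁅a * b, t⁆ = a * ⁅b, t⁆ * a⁻¹ * ⁅a, t⁆ := by
      simp only [commutatorElement_def]; group
    rw [e]
    exact N.mul_mem (hN.conj_mem _ ihb a) iha
  · intro a _ iha
    have e : ⁅a⁻¹, t⁆ = a⁻¹ * (⁅a, t⁆)⁻¹ * a⁻¹⁻¹ := by
      simp only [commutatorElement_def]; group
    rw [e]
    exact hN.conj_mem _ (N.inv_mem iha) a⁻¹

/-- If the generators of `G` commute pairwise modulo a normal subgroup `N`, then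
`commutator G ≤ N`. -/
theorem commutator_le_of_closure (S : Set G) (hS : Subgroup.closure S = ⊤)
    (N : Subgroup G) [hN : N.Normal] (h : ∀ s ∈ S, ∀ t ∈ S, ⁅s, t⁆ ∈ N) : commutator G ≤ N := by
  have h1 : ∀ a : G, ∀ t ∈ S, ⁅a, t⁆ ∈ N := fun a =>
    commutator_mem_of_closure_left S S hS N h a
  have h2 : ∀ a b : G, ⁅a, b⁆ ∈ N := by
    intro a b
    refine commutator_mem_of_closure_left S Set.univ hS N ?_ a b (Set.mem_univ b)
    intro s hs t _
    have := N.inv_mem (h1 t s hs)
    rwa [commutatorElement_inv] at this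
  rw [commutator_def, Subgroup.commutator_le]
  intro a _ b _
  exact h2 a b

/-- A commutator is a product of three squares. -/
theorem commutator_eq_three_squares (a b : G) :
    ⁅a, b⁆ = (a * b) * (a * b) * ((b⁻¹ * a⁻¹ * b) * (b⁻¹ * a⁻¹ * b)) * (b⁻¹ * b⁻¹) := by
  simp only [commutatorElement_def]; group

/-- Uniqueness of the index-two subgroup of a normal subgroup `K`, given that
`D = commutator G` has index two in `K` and lies in the normal closure of the squares of `K`. -/
theorem existsUnique_index_two_of_sq (K : Subgroup G) [hK : K.Normal]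
    (hN : commutator G ≤ Subgroup.normalClosure {g : G | ∃ x ∈ K, g = x * x})
    (hidx : ((commutator G).subgroupOf K).index = 2) :
    ∃! H : Subgroup ↥K, H.index = 2 := by
  refine ⟨(commutator G).subgroupOf K, hidx, ?_⟩
  intro H hH
  have hle : (commutator G).subgroupOf K ≤ H := by
    have hsq : Subgroup.normalClosure {g : G | ∃ x ∈ K, g = x * x} ≤ H.map K.subtype := by
      unfold Subgroup.normalClosure
      rw [Subgroup.closure_le]
      intro y hy
      rw [Group.mem_conjugatesOfSet_iff] at hy
      obtain ⟨z, ⟨x, hx, rfl⟩, hconj⟩ := hy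
      obtain ⟨c, hc⟩ := isConj_iff.mp hconj
      have hcx : c * x * c⁻¹ ∈ K := hK.conj_mem x hx c
      have hmem := Subgroup.mul_self_mem_of_index_two hH ⟨c * x * c⁻¹, hcx⟩
      refine ⟨⟨c * x * c⁻¹, hcx⟩ * ⟨c * x * c⁻¹, hcx⟩, hmem, ?_⟩
      rw [← hc]
      simp only [Subgroup.subtype_apply, Subgroup.coe_mul]
      group
    intro x hx
    rw [Subgroup.mem_subgroupOf] at hx
    obtain ⟨y, hy, hyx⟩ := hsq (hN hx)
    have : y = x := Subtype.ext hyx
    rw [← this]
    exact hy
  have h1 := Subgroup.relIndex_mul_index hle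
  rw [hH, hidx] at h1
  have h2 : ((commutator G).subgroupOf K).relIndex H = 1 := by omega
  exact le_antisymm (Subgroup.relIndex_eq_one.mp h2) hle

end grp

section so

variable {ι : Type} [Fintype ι] [DecidableEq ι] {F : Type*} [Field F]

/-- The determinant of an isometry squares to one. -/
theorem det_sq_eq_one_of_isometry (Q : QuadraticForm F (ι → F))
    (hQ : (QuadraticMap.polarBilin Q).Nondegenerate) (g : ↥(Cfsg.isometryGroup F ⇑Q)) :
    (((g : Matrix.GeneralLinearGroup ι F) : Matrix ι ι F).det) ^ 2 = 1 := by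
  set A : Matrix ι ι F := ((g : Matrix.GeneralLinearGroup ι F) : Matrix ι ι F) with hA
  have hcomp : LinearMap.BilinForm.comp (QuadraticMap.polarBilin Q) (Matrix.toLin' A)
      (Matrix.toLin' A) = QuadraticMap.polarBilin Q := by
    refine LinearMap.ext fun x => LinearMap.ext fun y => ?_
    rw [LinearMap.BilinForm.comp_apply, Matrix.toLin'_apply, Matrix.toLin'_apply,
      QuadraticMap.polarBilin_apply_apply, QuadraticMap.polarBilin_apply_apply]
    exact polar_mulVec Q A (isom_preserves g) x y
  have hM := LinearMap.BilinForm.toMatrix'_comp (QuadraticMap.polarBilin Q) (Matrix.toLin' A)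
    (Matrix.toLin' A)
  rw [hcomp, LinearMap.toMatrix'_toLin'] at hM
  have hdet := congrArg Matrix.det hM
  rw [det_mul, det_mul, det_transpose] at hdet
  have hne : (LinearMap.BilinForm.toMatrix' (QuadraticMap.polarBilin Q)).det ≠ 0 :=
    Matrix.nondegenerate_iff_det_ne_zero.mp
      (LinearMap.BilinForm.nondegenerate_toMatrix'_iff.mpr hQ)
  have h3 : (A.det ^ 2 - 1) *
      (LinearMap.BilinForm.toMatrix' (QuadraticMap.polarBilin Q)).det = 0 := by
    linear_combination -hdet
  rcases mul_eq_zero.mp h3 with h4 | h4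
  · exact sub_eq_zero.mp h4
  · exact absurd h4 hne

/-- In characteristic two every isometry has determinant one. -/
theorem specialIsometryGroup_eq_top_of_two_eq_zero (h2 : (2 : F) = 0)
    (Q : QuadraticForm F (ι → F)) (hQ : (QuadraticMap.polarBilin Q).Nondegenerate) :
    Cfsg.specialIsometryGroup F ⇑Q = ⊤ := by
  rw [eq_top_iff]
  intro g _
  unfold Cfsg.specialIsometryGroup
  rw [MonoidHom.mem_ker, MonoidHom.comp_apply]
  apply Units.ext
  rw [Matrix.GeneralLinearGroup.val_det_apply, Units.val_one]
  have h := det_sq_eq_one_of_isometry Q hQ g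
  have h5 : ((((g : Matrix.GeneralLinearGroup ι F) : Matrix ι ι F).det) - 1) ^ 2 = 0 := by
    linear_combination h - ((((g : Matrix.GeneralLinearGroup ι F) : Matrix ι ι F).det) - 1) * h2
  exact sub_eq_zero.mp (pow_eq_zero_iff (two_ne_zero) |>.mp h5)

instance specialIsometryGroup_normal (Qf : (ι → F) → F) :
    (Cfsg.specialIsometryGroup F Qf).Normal := by
  unfold Cfsg.specialIsometryGroup
  infer_instance

theorem commutator_le_specialIsometryGroup (Qf : (ι → F) → F) :
    commutator ↥(Cfsg.isometryGroup F Qf) ≤ Cfsg.specialIsometryGroup F Qf := by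
  unfold Cfsg.specialIsometryGroup
  exact Abelianization.commutator_subset_ker _

theorem mem_specialIsometryGroup_iff (Qf : (ι → F) → F) (g : ↥(Cfsg.isometryGroup F Qf)) :
    g ∈ Cfsg.specialIsometryGroup F Qf ↔
      ((g : Matrix.GeneralLinearGroup ι F) : Matrix ι ι F).det = 1 := by
  unfold Cfsg.specialIsometryGroup
  rw [MonoidHom.mem_ker, MonoidHom.comp_apply]
  constructor
  · intro h
    have := congrArg Units.val h
    rwa [Matrix.GeneralLinearGroup.val_det_apply, Units.val_one] at this
  · intro h
    apply Units.ext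
    rw [Matrix.GeneralLinearGroup.val_det_apply, Units.val_one]
    exact h

variable [Fintype F]

/-- Characteristic two: a unique subgroup of index two in `SO = O`, given that `Ω` has index two
in `O`. -/
theorem existsUnique_index_two_char_two (h2 : (2 : F) = 0) (Q : QuadraticForm F (ι → F))
    (hQ : (QuadraticMap.polarBilin Q).Nondegenerate)
    (hidx : (Cfsg.Omega F ⇑Q).index = 2) :
    ∃! H : Subgroup ↥(Cfsg.specialIsometryGroup F ⇑Q), H.index = 2 := by
  have _hF : Fintype F := inferInstance
  have htop := specialIsometryGroup_eq_top_of_two_eq_zero h2 Q hQ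
  apply existsUnique_index_two_of_sq
  · rw [commutator_def, Subgroup.commutator_le]
    intro a _ b _
    rw [commutator_eq_three_squares]
    have hsq : ∀ x : ↥(Cfsg.isometryGroup F ⇑Q), x * x ∈
        Subgroup.normalClosure {g : ↥(Cfsg.isometryGroup F ⇑Q) |
          ∃ x ∈ Cfsg.specialIsometryGroup F ⇑Q, g = x * x} := by
      intro x
      apply Subgroup.subset_normalClosure
      exact ⟨x, by rw [htop]; trivial, rfl⟩
    exact Subgroup.mul_mem _ (Subgroup.mul_mem _ (hsq _) (hsq _)) (hsq _)
  · show (commutator ↥(Cfsg.isometryGroup F ⇑Q)).relIndex (Cfsg.specialIsometryGroup F ⇑Q) = 2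
    rw [htop, Subgroup.relIndex_top_right]
    exact hidx

/-- Odd characteristic: `Ω` has index two in `SO`, and it is the unique such subgroup. -/
theorem existsUnique_index_two_odd (h2 : (2 : F) ≠ 0) (Q : QuadraticForm F (ι → F))
    (hQ : (QuadraticMap.polarBilin Q).Nondegenerate) (hn : 2 ≤ Fintype.card ι) :
    ∃! H : Subgroup ↥(Cfsg.specialIsometryGroup F ⇑Q), H.index = 2 := by
  have hne : (-1 : F) ≠ 1 := by
    intro h
    apply h2
    linear_combination -h
  apply existsUnique_index_two_of_sq
  · -- commutator ≤ normal closure of squares of SO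
    apply commutator_le_of_closure
      {g : ↥(Cfsg.isometryGroup F ⇑Q) | ∃ (v : ι → F) (hv : Q v ≠ 0), g = reflElt Q hQ v hv}
    · rw [eq_top_iff]
      intro g _
      obtain ⟨l, hl, rfl⟩ := exists_eq_prodElt h2 Q hQ g
      have key : ∀ (l : List (ι → F)) (hl : ∀ u ∈ l, Q u ≠ 0), prodElt Q hQ l hl ∈
          Subgroup.closure {g : ↥(Cfsg.isometryGroup F ⇑Q) |
            ∃ (v : ι → F) (hv : Q v ≠ 0), g = reflElt Q hQ v hv} := by
        intro l
        induction l with
        | nil => intro hl; rw [prodElt_nil]; exact Subgroup.one_mem _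
        | cons a l ih =>
          intro hl
          rw [prodElt_cons]
          exact Subgroup.mul_mem _ (Subgroup.subset_closure ⟨a, _, rfl⟩) (ih _)
      exact key l hl
    · rintro _ ⟨u, hu, rfl⟩ _ ⟨v, hv, rfl⟩
      have hinv : ∀ (w : ι → F) (hw : Q w ≠ 0), (reflElt Q hQ w hw)⁻¹ = reflElt Q hQ w hw := by
        intro w hw
        rw [inv_eq_iff_mul_eq_one]
        apply isom_ext
        simp only [Subgroup.coe_mul, Units.val_mul, reflElt, mkIsom_coe,
          reflectionMatrix_mul_self Q hw]
        rfl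
      apply Subgroup.subset_normalClosure
      refine ⟨reflElt Q hQ u hu * reflElt Q hQ v hv, ?_, ?_⟩
      · rw [mem_specialIsometryGroup_iff]
        simp only [Subgroup.coe_mul, Units.val_mul, reflElt, mkIsom_coe, det_mul,
          det_reflectionMatrix Q hu, det_reflectionMatrix Q hv]
        ring
      · rw [commutatorElement_def, hinv u hu, hinv v hv]
        group
  · -- index computation
    obtain ⟨b, hb⟩ := exists_not_isSquare h2
    have hb0 : b ≠ 0 := fun h => hb ⟨0, by simp [h]⟩
    obtain ⟨v, hv1⟩ := exists_vec_quad_eq h2 Q hQ hn 1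
    obtain ⟨w, hwb⟩ := exists_vec_quad_eq h2 Q hQ hn b
    have hv : Q v ≠ 0 := by rw [hv1]; exact one_ne_zero
    have hw : Q w ≠ 0 := by rw [hwb]; exact hb0
    have h4 := index_commutator_eq_four h2 Q hQ hn
    have hle := commutator_le_specialIsometryGroup (F := F) (⇑Q)
    have hmul := Subgroup.relIndex_mul_index hle
    rw [h4] at hmul
    -- SO ≠ ⊤
    have hso : (Cfsg.specialIsometryGroup F ⇑Q).index ≠ 1 := by
      rw [Ne, Subgroup.index_eq_one]
      intro htop
      have hmem : reflElt Q hQ v hv ∈ Cfsg.specialIsometryGroup F ⇑Q := by rw [htop]; trivial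
      rw [mem_specialIsometryGroup_iff] at hmem
      simp only [reflElt, mkIsom_coe, det_reflectionMatrix Q hv] at hmem
      exact hne hmem
    -- Ω ≠ SO
    have hrel : (commutator ↥(Cfsg.isometryGroup F ⇑Q)).relIndex
        (Cfsg.specialIsometryGroup F ⇑Q) ≠ 1 := by
      rw [Ne, Subgroup.relIndex_eq_one]
      intro hle'
      have hl : ∀ u ∈ [v, w], Q u ≠ 0 := by
        intro u hu
        simp only [List.mem_cons, List.not_mem_nil, or_false] at hu
        rcases hu with rfl | rfl
        · exact hv
        · exact hw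
      have hmem : prodElt Q hQ [v, w] hl ∈ Cfsg.specialIsometryGroup F ⇑Q := by
        rw [mem_specialIsometryGroup_iff]
        simp only [prodElt, mkIsom_coe]
        rw [det_prod_reflectionMatrix Q _ hl]
        simp
      have := (prodElt_mem_commutator_iff h2 Q hQ [v, w] hl).mp (hle' hmem)
      have h5 := this.2
      simp only [List.map_cons, List.map_nil, List.prod_cons, List.prod_nil, mul_one] at h5
      rw [hv1, hwb, one_mul] at h5
      exact hb h5
    show (commutator ↥(Cfsg.isometryGroup F ⇑Q)).relIndex (Cfsg.specialIsometryGroup F ⇑Q) = 2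
    generalize (commutator ↥(Cfsg.isometryGroup F ⇑Q)).relIndex
      (Cfsg.specialIsometryGroup F ⇑Q) = x at hmul hrel ⊢
    generalize (Cfsg.specialIsometryGroup F ⇑Q).index = y at hmul hso
    have hx : x ∣ 4 := Dvd.intro _ hmul
    have hx4 : x ≤ 4 := Nat.le_of_dvd (by norm_num) hx
    interval_cases x <;> omega

/-- Unique index-two subgroup of `SO(Q)`, conditional in characteristic two on `Ω` having index
two in `O(Q)`. -/
theorem existsUnique_index_two_SO (Q : QuadraticForm F (ι → F))
    (hQ : (QuadraticMap.polarBilin Q).Nondegenerate) (hn : 2 ≤ Fintype.card ι)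
    (h789 : (2 : F) = 0 → (Cfsg.Omega F ⇑Q).index = 2) :
    ∃! H : Subgroup ↥(Cfsg.specialIsometryGroup F ⇑Q), H.index = 2 := by
  by_cases h2 : (2 : F) = 0
  · exact existsUnique_index_two_char_two h2 Q hQ (h789 h2)
  · exact existsUnique_index_two_odd h2 Q hQ hn

end so

end Cfsg.Agent.Lib.Helper14
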