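import Mathlib
import Cfsg.Prelude.Def_LieTypeDatum
import Cfsg.Agent.Lib.Helper14.AutOL
import Cfsg.Agent.Lib.Helper44.PgoAut

/-!
# The group of semisimilarities and its action on `PΩ(Q)`

The pairs `(g, σ)` of an invertible matrix and a field automorphism form a semidirect product,
multiplying as the semilinear maps `v ↦ g σ(v)`. The semisimilarities of a form `Q` are a
subgroup, acting on `PΩ(Q)`; the field automorphism of a pair is determined by the
automorphism of `PΩ(Q)` it induces. When `Aut(PΩ(Q))` is generated by the semisimilarities this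
gives a homomorphism `Aut(PΩ(Q)) → Aut(F)` whose kernel is the image of the similarity group.
-/

set_option autoImplicit false

namespace Cfsg.Agent.Lib.Helper14

open Matrix Module

section autoN

variable {ι : Type} [Fintype ι] [DecidableEq ι] {F : Type*} [Field F]

/-- A field automorphism applied to the entries of an invertible matrix. -/
noncomputable def glMap (τ : RingAut F) : GL ι F →* GL ι F :=
  Matrix.GeneralLinearGroup.map (τ : F →+* F)

theorem glMap_coe (τ : RingAut F) (g : GL ι F) :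
    ((glMap τ g : GL ι F) : Matrix ι ι F) = (g : Matrix ι ι F).map τ := by
  ext i j
  rfl

theorem glMap_mul (σ τ : RingAut F) (g : GL ι F) : glMap (σ * τ) g = glMap σ (glMap τ g) := by
  apply Units.ext
  ext i j
  rfl

theorem glMap_one (g : GL ι F) : glMap (1 : RingAut F) g = g := by
  apply Units.ext
  ext i j
  rfl

/-- The field automorphisms acting on `GL`. -/
noncomputable def glAut : RingAut F →* MulAut (GL ι F) where
  toFun τ :=
    { toFun := glMap τ
      invFun := glMap τ⁻¹
      left_inv := fun s => by rw [← glMap_mul, inv_mul_cancel, glMap_one]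
      right_inv := fun s => by rw [← glMap_mul, mul_inv_cancel, glMap_one]
      map_mul' := fun s t => map_mul (glMap τ) s t }
  map_one' := by
    ext s : 1
    exact glMap_one s
  map_mul' := fun x y => by
    ext s : 1
    exact glMap_mul x y s

theorem glAut_apply (τ : RingAut F) (g : GL ι F) : glAut τ g = glMap τ g := rfl

/-- The group of all pairs `(g, σ)`, multiplying as the semilinear maps `v ↦ g σ(v)`. -/
abbrev SemiGL (ι : Type) [Fintype ι] [DecidableEq ι] (F : Type*) [Field F] :=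
  GL ι F ⋊[glAut (ι := ι) (F := F)] RingAut F

/-- The semilinear map `v ↦ g σ(v)` of a pair. -/
def sact (x : SemiGL ι F) (v : ι → F) : ι → F :=
  (x.left : Matrix ι ι F) *ᵥ (fun i => x.right (v i))

theorem sact_one (v : ι → F) : sact (1 : SemiGL ι F) v = v := by
  unfold sact
  rw [SemidirectProduct.one_left, SemidirectProduct.one_right, Units.val_one, one_mulVec]
  rfl

theorem sact_mul (x y : SemiGL ι F) (v : ι → F) : sact (x * y) v = sact x (sact y v) := by
  unfold sact
  rw [SemidirectProduct.mul_left, SemidirectProduct.mul_right, Units.val_mul, glAut_apply,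
    glMap_coe, ← mulVec_mulVec]
  congr 1
  exact map_mulVec_equiv x.right (y.left : Matrix ι ι F) (fun i => y.right (v i))

theorem sact_inv_sact (x : SemiGL ι F) (v : ι → F) : sact x⁻¹ (sact x v) = v := by
  rw [← sact_mul, inv_mul_cancel, sact_one]

theorem sact_sact_inv (x : SemiGL ι F) (v : ι → F) : sact x (sact x⁻¹ v) = v := by
  rw [← sact_mul, mul_inv_cancel, sact_one]

theorem sact_add (x : SemiGL ι F) (v w : ι → F) : sact x (v + w) = sact x v + sact x w := by
  unfold sact
  rw [← mulVec_add]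
  congr 1
  funext i
  simp

theorem sact_smul (x : SemiGL ι F) (t : F) (v : ι → F) :
    sact x (t • v) = x.right t • sact x v := by
  unfold sact
  rw [← mulVec_smul]
  congr 1
  funext i
  simp

theorem sact_injective (x : SemiGL ι F) : Function.Injective (sact x) := by
  intro v w h
  rw [← sact_inv_sact x v, h, sact_inv_sact]

/-- The semisimilarities of a form, as a subgroup of the group of pairs. -/
def semiSim (Qf : (ι → F) → F) : Subgroup (SemiGL ι F) where
  carrier := {x | Cfsg.IsSemisimilarityPair Qf x.left x.right}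
  one_mem' := by
    refine ⟨1, fun v => ?_⟩
    have h := sact_one (ι := ι) (F := F) v
    unfold sact at h
    rw [h, Units.val_one, one_mul]
    rfl
  mul_mem' := by
    rintro x y ⟨c, hc⟩ ⟨d, hd⟩
    refine ⟨c * Units.map ((x.right : F →+* F) : F →* F) d, fun v => ?_⟩
    have h := sact_mul x y v
    unfold sact at h
    rw [h, hc, hd, map_mul, Units.val_mul, mul_assoc]
    rfl
  inv_mem' := by
    rintro x ⟨c, hc⟩
    refine ⟨Units.map ((x.right⁻¹ : RingAut F) : F →* F) c⁻¹, fun v => ?_⟩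
    have hc' : ∀ w, Qf (sact x w) = (c : F) * x.right (Qf w) := hc
    have h := hc' (sact x⁻¹ v)
    rw [sact_sact_inv] at h
    have h3 : x.right (Qf (sact x⁻¹ v)) = ((c⁻¹ : Fˣ) : F) * Qf v := by
      rw [h, ← mul_assoc, ← Units.val_mul, inv_mul_cancel, Units.val_one, one_mul]
    have h4 : Qf (sact x⁻¹ v) = (x.right⁻¹ : RingAut F) (((c⁻¹ : Fˣ) : F) * Qf v) := by
      rw [← h3]
      exact (RingEquiv.symm_apply_apply x.right _).symm
    show Qf (sact x⁻¹ v) = _
    rw [h4, map_mul]
    rfl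

theorem mem_semiSim_iff (Qf : (ι → F) → F) (x : SemiGL ι F) :
    x ∈ semiSim Qf ↔ ∃ c : Fˣ, ∀ v, Qf (sact x v) = (c : F) * x.right (Qf v) := Iff.rfl

/-- The action of the pairs on `GL`: `s ↦ g σ(s) g⁻¹`. -/
noncomputable def semiActGL : SemiGL ι F →* MulAut (GL ι F) :=
  SemidirectProduct.lift MulAut.conj glAut (fun σ => by
    ext g : 1
    apply MulEquiv.ext
    intro s
    show glMap σ g * s * (glMap σ g)⁻¹ = glMap σ (g * glMap σ⁻¹ s * g⁻¹)
    rw [map_mul, map_mul, map_inv, ← glMap_mul, mul_inv_cancel, glMap_one])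

theorem semiActGL_apply (x : SemiGL ι F) (s : GL ι F) :
    semiActGL x s = x.left * glMap x.right s * x.left⁻¹ := rfl

theorem semiActGL_mulVec (x : SemiGL ι F) (s : GL ι F) (v : ι → F) :
    ((semiActGL x s : GL ι F) : Matrix ι ι F) *ᵥ sact x v = sact x ((s : Matrix ι ι F) *ᵥ v) := by
  rw [semiActGL_apply]
  unfold sact
  rw [Units.val_mul, Units.val_mul, mulVec_mulVec, mul_assoc, mul_assoc, ← Units.val_mul,
    inv_mul_cancel, Units.val_one, mul_one, glMap_coe, ← mulVec_mulVec]
  congr 1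
  exact map_mulVec_equiv x.right (s : Matrix ι ι F) v

theorem semiActGL_mem (Qf : (ι → F) → F) {x : SemiGL ι F} (hx : x ∈ semiSim Qf) {s : GL ι F}
    (hs : s ∈ Cfsg.isometryGroup F Qf) : semiActGL x s ∈ Cfsg.isometryGroup F Qf := by
  obtain ⟨c, hc⟩ := (mem_semiSim_iff Qf x).mp hx
  rw [mem_isometryGroup_iff] at hs ⊢
  intro v
  rw [← sact_sact_inv x v, semiActGL_mulVec, hc, hc, hs]

/-- The action of the semisimilarities on the isometry group. -/
noncomputable def semiActO (Qf : (ι → F) → F) :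
    ↥(semiSim Qf) →* MulAut ↥(Cfsg.isometryGroup F Qf) where
  toFun x :=
    { toFun := fun s => ⟨semiActGL (x : SemiGL ι F) s, semiActGL_mem Qf x.2 s.2⟩
      invFun := fun s => ⟨semiActGL ((x : SemiGL ι F)⁻¹) s,
        semiActGL_mem Qf (Subgroup.inv_mem _ x.2) s.2⟩
      left_inv := fun s => by
        apply Subtype.ext
        show semiActGL ((x : SemiGL ι F)⁻¹) (semiActGL (x : SemiGL ι F) s) = s
        rw [← MulAut.mul_apply, ← map_mul, inv_mul_cancel, map_one, MulAut.one_apply]
      right_inv := fun s => by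
        apply Subtype.ext
        show semiActGL (x : SemiGL ι F) (semiActGL ((x : SemiGL ι F)⁻¹) s) = s
        rw [← MulAut.mul_apply, ← map_mul, mul_inv_cancel, map_one, MulAut.one_apply]
      map_mul' := fun s t => by
        apply Subtype.ext
        exact map_mul (semiActGL (x : SemiGL ι F)) (s : GL ι F) (t : GL ι F) }
  map_one' := by
    ext s : 1
    apply Subtype.ext
    show semiActGL ((1 : ↥(semiSim Qf)) : SemiGL ι F) (s : GL ι F) = s
    rw [Subgroup.coe_one, map_one, MulAut.one_apply]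
  map_mul' := fun x y => by
    ext s : 1
    apply Subtype.ext
    show semiActGL ((x * y : ↥(semiSim Qf)) : SemiGL ι F) (s : GL ι F) =
      semiActGL (x : SemiGL ι F) (semiActGL (y : SemiGL ι F) (s : GL ι F))
    rw [Subgroup.coe_mul, map_mul, MulAut.mul_apply]

/-- The action of the semisimilarities on `PΩ(Q)`. -/
noncomputable def semiAut (Qf : (ι → F) → F) : ↥(semiSim Qf) →* MulAut (Cfsg.POmega F Qf) :=
  (Cfsg.Agent.Lib.Helper21.autQuotCenter ↥(Cfsg.Omega F Qf)).comp
    ((Cfsg.Agent.Lib.Helper44.autCommutator ↥(Cfsg.isometryGroup F Qf)).comp (semiActO Qf))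

theorem semiAut_mk (Qf : (ι → F) → F) (x : ↥(semiSim Qf)) (s : ↥(Cfsg.Omega F Qf)) :
    semiAut Qf x (QuotientGroup.mk s) =
      QuotientGroup.mk (Cfsg.Agent.Lib.Helper44.autCommutator ↥(Cfsg.isometryGroup F Qf)
        (semiActO Qf x) s) := rfl

theorem semiAut_coe (Qf : (ι → F) → F) (x : ↥(semiSim Qf)) (s : ↥(Cfsg.Omega F Qf)) :
    ((((Cfsg.Agent.Lib.Helper44.autCommutator ↥(Cfsg.isometryGroup F Qf) (semiActO Qf x) s :
      ↥(Cfsg.Omega F Qf)) : ↥(Cfsg.isometryGroup F Qf)) : GL ι F) : Matrix ι ι F) =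
      ((x : SemiGL ι F).left : Matrix ι ι F) *
        ((((s : ↥(Cfsg.isometryGroup F Qf)) : GL ι F) : Matrix ι ι F)).map (x : SemiGL ι F).right *
        ((((x : SemiGL ι F).left)⁻¹ : GL ι F) : Matrix ι ι F) := by
  show ((semiActGL (x : SemiGL ι F) ((s : ↥(Cfsg.isometryGroup F Qf)) : GL ι F) : GL ι F) :
    Matrix ι ι F) = _
  rw [semiActGL_apply, Units.val_mul, Units.val_mul, glMap_coe]

/-- The predicate of the statements, in terms of the action. -/
theorem induced_iff_semiAut (Qf : (ι → F) → F) (x : ↥(semiSim Qf))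
    (β : MulAut (Cfsg.POmega F Qf)) :
    Cfsg.IsInducedBySemilinearPOmega Qf (x : SemiGL ι F).left (x : SemiGL ι F).right β ↔
      β = semiAut Qf x := by
  constructor
  · intro h
    apply MulEquiv.ext
    intro q
    obtain ⟨s, rfl⟩ := QuotientGroup.mk_surjective q
    rw [semiAut_mk]
    exact h s _ (semiAut_coe Qf x s)
  · rintro rfl s s' hs'
    rw [semiAut_mk]
    congr 1
    apply Subtype.ext
    apply isom_ext
    rw [hs', semiAut_coe]

/-- If `Aut(PΩ(Q))` is generated by the semisimilarities, each automorphism is induced by one. -/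
theorem semiAut_surjective (Qf : (ι → F) → F) (hAut : Cfsg.gammaPOmega F Qf = ⊤) :
    Function.Surjective (semiAut Qf) := by
  intro β
  have hmem : β ∈ Cfsg.gammaPOmega F Qf := by
    rw [hAut]
    trivial
  have hle : Cfsg.gammaPOmega F Qf ≤ (semiAut Qf).range := by
    unfold Cfsg.gammaPOmega Cfsg.autSubgroupOf
    rw [Subgroup.closure_le]
    rintro γ ⟨g, σ, h1, h2⟩
    exact ⟨⟨⟨g, σ⟩, h1⟩, ((induced_iff_semiAut Qf ⟨⟨g, σ⟩, h1⟩ γ).mp h2).symm⟩
  exact hle hmem

/-- The field automorphism of a semisimilarity. -/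
noncomputable def semiRight (Qf : (ι → F) → F) : ↥(semiSim Qf) →* RingAut F :=
  (SemidirectProduct.rightHom (φ := glAut (ι := ι) (F := F))).comp (semiSim Qf).subtype

theorem semiRight_apply (Qf : (ι → F) → F) (x : ↥(semiSim Qf)) :
    semiRight Qf x = (x : SemiGL ι F).right := rfl

/-- A similarity, as a semisimilarity. -/
noncomputable def simToSemi (Qf : (ι → F) → F) :
    ↥(Cfsg.Geo.quadSimilarityGroup (F := F) Qf) →* ↥(semiSim Qf) where
  toFun g := ⟨SemidirectProduct.inl (g : GL ι F), by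
    obtain ⟨c, hc⟩ := g.2
    refine ⟨c, fun v => ?_⟩
    exact hc v⟩
  map_one' := by
    apply Subtype.ext
    exact map_one SemidirectProduct.inl
  map_mul' := fun g h => by
    apply Subtype.ext
    exact map_mul SemidirectProduct.inl (g : GL ι F) (h : GL ι F)

theorem simToSemi_left (Qf : (ι → F) → F) (g : ↥(Cfsg.Geo.quadSimilarityGroup (F := F) Qf)) :
    ((simToSemi Qf g : ↥(semiSim Qf)) : SemiGL ι F).left = (g : GL ι F) := rfl

theorem simToSemi_right (Qf : (ι → F) → F) (g : ↥(Cfsg.Geo.quadSimilarityGroup (F := F) Qf)) :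
    ((simToSemi Qf g : ↥(semiSim Qf)) : SemiGL ι F).right = 1 := rfl

omit [Fintype ι] [DecidableEq ι] in
theorem map_one_eq (M : Matrix ι ι F) : M.map ⇑(1 : RingAut F) = M := by
  ext i j
  rfl

theorem semiAut_simToSemi (Qf : (ι → F) → F)
    (g : ↥(Cfsg.Geo.quadSimilarityGroup (F := F) Qf)) :
    semiAut Qf (simToSemi Qf g) = Cfsg.Agent.Lib.Helper44.simAut Qf g := by
  apply MulEquiv.ext
  intro q
  obtain ⟨s, rfl⟩ := QuotientGroup.mk_surjective q
  rw [semiAut_mk, Cfsg.Agent.Lib.Helper44.simAut_mk]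
  have e : Cfsg.Agent.Lib.Helper44.autCommutator ↥(Cfsg.isometryGroup F Qf)
      (semiActO Qf (simToSemi Qf g)) s =
      Cfsg.Agent.Lib.Helper44.autCommutator ↥(Cfsg.isometryGroup F Qf)
        (Cfsg.Agent.Lib.Helper44.simConjHom Qf g) s := by
    apply Subtype.ext
    apply isom_ext
    rw [semiAut_coe, Cfsg.Agent.Lib.Helper44.simConj_coe, simToSemi_left, simToSemi_right,
      map_one_eq]
  rw [e]

/-- A semisimilarity with trivial field automorphism is a similarity. -/
theorem exists_sim_of_right_eq_one (Qf : (ι → F) → F) (x : ↥(semiSim Qf))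
    (hx : (x : SemiGL ι F).right = 1) :
    ∃ g : ↥(Cfsg.Geo.quadSimilarityGroup (F := F) Qf), simToSemi Qf g = x := by
  obtain ⟨c, hc⟩ := x.2
  have hmem : (x : SemiGL ι F).left ∈ Cfsg.Geo.quadSimilarityGroup (F := F) Qf := by
    refine ⟨c, fun v => ?_⟩
    have h := hc v
    rw [hx] at h
    exact h
  refine ⟨⟨_, hmem⟩, ?_⟩
  apply Subtype.ext
  apply SemidirectProduct.ext
  · rfl
  · exact hx.symm

end autoN

section autoN2

variable {ι : Type} [Fintype ι] [DecidableEq ι] {F : Type*} [Field F] [Fintype F]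
variable (Q : QuadraticForm F (ι → F)) (hQ : (QuadraticMap.polarBilin Q).Nondegenerate)
variable (hn : 5 ≤ Fintype.card ι)

set_option quotPrecheck false in
local notation "φ" => QuadraticMap.polar (⇑Q)

include hQ hn

/-- A semisimilarity acting trivially on `PΩ(Q)` commutes with `Ω(Q)`. -/
theorem sact_comm_of_semiAut_eq_one (x : ↥(semiSim ⇑Q)) (hx : semiAut ⇑Q x = 1)
    (s : ↥(Cfsg.Omega F ⇑Q)) (v : ι → F) :
    omat Q s *ᵥ sact (x : SemiGL ι F) v = sact (x : SemiGL ι F) (omat Q s *ᵥ v) := by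
  have hperf := omega_perfect Q hQ hn
  have h1 : Cfsg.Agent.Lib.Helper44.autCommutator ↥(Cfsg.isometryGroup F ⇑Q)
      (semiActO ⇑Q x) = 1 :=
    Cfsg.Agent.Lib.Helper44.aut_eq_one_of_autQuotCenter hperf _ hx
  have h2 := congrArg (fun β : MulAut ↥(Cfsg.Omega F ⇑Q) =>
    ((((β s : ↥(Cfsg.Omega F ⇑Q)) : ↥(Cfsg.isometryGroup F ⇑Q)) : GL ι F) : Matrix ι ι F)) h1
  have h3 : ((semiActGL (x : SemiGL ι F) ((s : ↥(Cfsg.isometryGroup F ⇑Q)) : GL ι F) : GL ι F) :
      Matrix ι ι F) = omat Q s := h2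
  have h4 := semiActGL_mulVec (x : SemiGL ι F) ((s : ↥(Cfsg.isometryGroup F ⇑Q)) : GL ι F) v
  rw [h3] at h4
  exact h4

/-- A semisimilarity acting trivially on `PΩ(Q)` fixes every singular point. -/
theorem sact_sing_of_semiAut_eq_one (x : ↥(semiSim ⇑Q)) (hx : semiAut ⇑Q x = 1)
    {u : ι → F} (hu0 : u ≠ 0) (hu : Q u = 0) :
    ∃ c : F, sact (x : SemiGL ι F) u = c • u := by
  apply fix_eich Q hQ hn hu0
  intro w hw
  rw [← omat_eo Q hQ hn hu hw, sact_comm_of_semiAut_eq_one Q hQ hn x hx, omat_eo Q hQ hn hu hw,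
    eich_apply_self Q hu hw]

/-- The field automorphism of a semisimilarity acting trivially on `PΩ(Q)` is trivial. -/
theorem semiAut_right_eq_one (x : ↥(semiSim ⇑Q)) (hx : semiAut ⇑Q x = 1) :
    (x : SemiGL ι F).right = 1 := by
  obtain ⟨u, v, hu, hv, huv, hli⟩ := exists_tsp Q hQ hn
  have hu0 : u ≠ 0 := li2_ne_zero_left hli
  have hv0 : v ≠ 0 := li2_ne_zero_right hli
  obtain ⟨a, ha⟩ := sact_sing_of_semiAut_eq_one Q hQ hn x hx hu0 hu
  obtain ⟨b, hb⟩ := sact_sing_of_semiAut_eq_one Q hQ hn x hx hv0 hv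
  have hpair := LinearIndependent.pair_iff.mp hli
  have key : ∀ t : F, (x : SemiGL ι F).right t * b = a * t := by
    intro t
    have hQt : Q (u + t • v) = 0 := by
      rw [QuadraticMap.map_add (⇑Q), QuadraticMap.map_smul, hu, hv, polar_smul_right_eq, huv]
      simp
    have hne : u + t • v ≠ 0 := by
      intro h0
      have := hpair 1 t (by rw [one_smul]; exact h0)
      exact one_ne_zero this.1
    obtain ⟨d, hd⟩ := sact_sing_of_semiAut_eq_one Q hQ hn x hx hne hQt
    rw [sact_add, sact_smul, ha, hb] at hd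
    have h0 : (a - d) • u + ((x : SemiGL ι F).right t * b - d * t) • v = 0 := by
      linear_combination (norm := module) hd
    obtain ⟨h1, h2⟩ := hpair _ _ h0
    have had : a = d := sub_eq_zero.mp h1
    have h3 : (x : SemiGL ι F).right t * b = d * t := sub_eq_zero.mp h2
    rw [h3, had]
  have hab : b = a := by
    have := key 1
    rw [map_one, one_mul, mul_one] at this
    exact this
  have ha0 : a ≠ 0 := by
    rintro rfl
    rw [zero_smul] at ha
    have h0 : sact (x : SemiGL ι F) 0 = 0 := by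
      have := sact_smul (x : SemiGL ι F) 0 u
      rwa [zero_smul, map_zero, zero_smul] at this
    exact hu0 (sact_injective _ (ha.trans h0.symm))
  apply RingEquiv.ext
  intro t
  have := key t
  rw [hab, mul_comm] at this
  show (x : SemiGL ι F).right t = t
  exact mul_left_cancel₀ ha0 this

/-- The type of an automorphism: the field automorphism of any semisimilarity inducing it. -/
noncomputable def typeHom (hAut : Cfsg.gammaPOmega F ⇑Q = ⊤) :
    MulAut (Cfsg.POmega F ⇑Q) →* RingAut F :=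
  (semiAut ⇑Q).liftOfSurjective (semiAut_surjective ⇑Q hAut)
    ⟨semiRight ⇑Q, fun x hx => by
      rw [MonoidHom.mem_ker] at hx ⊢
      exact semiAut_right_eq_one Q hQ hn x hx⟩

theorem typeHom_semiAut (hAut : Cfsg.gammaPOmega F ⇑Q = ⊤) (x : ↥(semiSim ⇑Q)) :
    typeHom Q hQ hn hAut (semiAut ⇑Q x) = (x : SemiGL ι F).right :=
  MonoidHom.liftOfRightInverse_comp_apply _ _ _ _ x

/-- The automorphisms of trivial type are those induced by similarities. -/
theorem typeHom_ker (hAut : Cfsg.gammaPOmega F ⇑Q = ⊤) :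
    (typeHom Q hQ hn hAut).ker = Cfsg.pgoAut F ⇑Q := by
  rw [Cfsg.Agent.Lib.Helper44.pgoAut_eq_range]
  ext β
  rw [MonoidHom.mem_ker]
  constructor
  · intro h
    obtain ⟨x, rfl⟩ := semiAut_surjective ⇑Q hAut β
    rw [typeHom_semiAut] at h
    obtain ⟨g, rfl⟩ := exists_sim_of_right_eq_one ⇑Q x h
    exact ⟨g, (semiAut_simToSemi ⇑Q g).symm⟩
  · rintro ⟨g, rfl⟩
    rw [← semiAut_simToSemi, typeHom_semiAut, simToSemi_right]

theorem typeHom_surjective (hAut : Cfsg.gammaPOmega F ⇑Q = ⊤)
    (hex : ∀ σ : RingAut F, ∃ g : GL ι F, Cfsg.IsSemisimilarityPair ⇑Q g σ) :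
    Function.Surjective (typeHom Q hQ hn hAut) := by
  intro σ
  obtain ⟨g, hg⟩ := hex σ
  exact ⟨semiAut ⇑Q ⟨⟨g, σ⟩, hg⟩, typeHom_semiAut Q hQ hn hAut _⟩

/-- `|Aut(PΩ(Q))| = |PGO(Q)| · |Aut(F)|` when `Aut(PΩ(Q))` is generated by the semisimilarities
and every field automorphism occurs. -/
theorem card_aut_eq (hAut : Cfsg.gammaPOmega F ⇑Q = ⊤)
    (hex : ∀ σ : RingAut F, ∃ g : GL ι F, Cfsg.IsSemisimilarityPair ⇑Q g σ) :
    Nat.card (MulAut (Cfsg.POmega F ⇑Q)) =
      Nat.card ↥(Cfsg.pgoAut F ⇑Q) * Nat.card (RingAut F) := by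
  have h1 := Subgroup.card_mul_index (typeHom Q hQ hn hAut).ker
  rw [Subgroup.index_ker, typeHom_ker] at h1
  have h2 : Nat.card ↥(typeHom Q hQ hn hAut).range = Nat.card (RingAut F) := by
    rw [MonoidHom.range_eq_top.mpr (typeHom_surjective Q hQ hn hAut hex)]
    exact Nat.card_congr Subgroup.topEquiv.toEquiv
  rw [← h1, h2]

end autoN2

end Cfsg.Agent.Lib.Helper14
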