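import Mathlib
import Cfsg.Prelude.Def_LieTypeDatum
import Cfsg.Agent.Lib.Helper14.AutON
import Cfsg.Agent.Lib.Helper14.AutOM

/-!
# Semisimilarities of the minus-type form

For every field automorphism `σ` of a finite field there is a semisimilarity of the minus-type
form with field automorphism `σ`: the Frobenius one is written down explicitly.
-/

set_option autoImplicit false

namespace Cfsg.Agent.Lib.Helper14

open Matrix Module

section twist

variable {F : Type*} [Field F]

/-- `(z₁, z₂) ↦ (z₁ + c z₂, d z₂)` on the binary part, the identity on the hyperbolic part. -/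
def twistMat (m : ℕ) (c d : F) :
    Matrix ((Fin m ⊕ Fin m) ⊕ Fin 2) ((Fin m ⊕ Fin m) ⊕ Fin 2) F :=
  Matrix.fromBlocks 1 0 0 !![1, c; 0, d]

theorem twistMat_mulVec (m : ℕ) (c d : F) (v : (Fin m ⊕ Fin m) ⊕ Fin 2 → F) :
    twistMat m c d *ᵥ v = Sum.elim (fun i => v (Sum.inl i))
      ![v (Sum.inr 0) + c * v (Sum.inr 1), d * v (Sum.inr 1)] := by
  have hv : v = Sum.elim (fun i => v (Sum.inl i)) (fun t => v (Sum.inr t)) := by
    funext j
    rcases j with i | t <;> rfl
  unfold twistMat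
  conv_lhs => rw [hv]
  rw [Matrix.fromBlocks_mulVec]
  funext j
  rcases j with i | t
  · simp
  · fin_cases t
    · simp [dotProduct, Fin.sum_univ_two]
    · simp [dotProduct, Fin.sum_univ_two]

theorem twistMat_det (m : ℕ) (c d : F) : (twistMat m c d).det = d := by
  unfold twistMat
  rw [Matrix.det_fromBlocks_zero₂₁, Matrix.det_one, Matrix.det_fin_two_of]
  ring

theorem twistMat_mul (m : ℕ) (c d c' d' : F) :
    twistMat m c d * twistMat m c' d' = twistMat m (c' + c * d') (d * d') := by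
  unfold twistMat
  rw [Matrix.fromBlocks_multiply]
  congr 1
  · simp
  · simp
  · simp
  · ext i j
    fin_cases i <;> fin_cases j <;> simp [Matrix.mul_apply, Fin.sum_univ_two]

theorem twistMat_quad (m : ℕ) (a b c d a' b' : F) (h1 : 2 * c + a * d = a')
    (h2 : c ^ 2 + a * c * d + b * d ^ 2 = b') (v : (Fin m ⊕ Fin m) ⊕ Fin 2 → F) :
    Cfsg.quadFormMinus m F a b (twistMat m c d *ᵥ v) = Cfsg.quadFormMinus m F a' b' v := by
  rw [twistMat_mulVec]
  unfold Cfsg.quadFormMinus
  subst h1 h2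
  simp only [Sum.elim_inl, Sum.elim_inr, Matrix.cons_val_zero, Matrix.cons_val_one]
  ring

theorem quadFormMinus_map (m : ℕ) (a b : F) (σ : RingAut F)
    (v : (Fin m ⊕ Fin m) ⊕ Fin 2 → F) :
    Cfsg.quadFormMinus m F (σ a) (σ b) (fun i => σ (v i)) =
      σ (Cfsg.quadFormMinus m F a b v) := by
  simp [Cfsg.quadFormMinus, map_sum]

/-- The twist as an invertible matrix. -/
noncomputable def twistGL (m : ℕ) (c d : F) (hd : d ≠ 0) : GL ((Fin m ⊕ Fin m) ⊕ Fin 2) F :=
  Matrix.GeneralLinearGroup.mkOfDetNeZero (twistMat m c d) (by rw [twistMat_det]; exact hd)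

theorem twistGL_coe (m : ℕ) (c d : F) (hd : d ≠ 0) :
    ((twistGL m c d hd : GL ((Fin m ⊕ Fin m) ⊕ Fin 2) F) :
      Matrix ((Fin m ⊕ Fin m) ⊕ Fin 2) ((Fin m ⊕ Fin m) ⊕ Fin 2) F) = twistMat m c d := rfl

theorem minus_semisim_of (m : ℕ) (a b c d : F) (hd : d ≠ 0) (σ : RingAut F)
    (h1 : 2 * c + a * d = σ a) (h2 : c ^ 2 + a * c * d + b * d ^ 2 = σ b) :
    Cfsg.IsSemisimilarityPair (Cfsg.quadFormMinus m F a b) (twistGL m c d hd) σ := by
  refine ⟨1, fun v => ?_⟩
  rw [Units.val_one, one_mul, twistGL_coe, twistMat_quad m a b c d _ _ h1 h2, quadFormMinus_map]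

end twist

section frob

variable {F : Type*} [Field F] [Fintype F] (p : ℕ) [Fact p.Prime] [CharP F p]

/-- The Frobenius automorphism of a finite field. -/
noncomputable def frobAut : RingAut F :=
  RingEquiv.ofBijective (frobenius F p)
    ((Finite.injective_iff_bijective).mp (frobenius_inj F p))

theorem frobAut_apply (x : F) : frobAut (F := F) p x = x ^ p := rfl

theorem frobAut_pow_apply (n : ℕ) (x : F) : (frobAut (F := F) p ^ n) x = x ^ (p ^ n) := by
  induction n with
  | zero => simp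
  | succ n ih =>
    rw [pow_succ', RingAut.mul_apply, ih, frobAut_apply, ← pow_mul, pow_succ]

include p in
/-- Every automorphism of a finite field is a power of the Frobenius. -/
theorem exists_frobAut_pow (σ : RingAut F) : ∃ n : ℕ, σ = frobAut (F := F) p ^ n := by
  letI : Algebra (ZMod p) F := ZMod.algebra F p
  let τ : F ≃ₐ[ZMod p] F := AlgEquiv.ofRingEquiv (f := σ) (fun r => by
    have : (σ : F →+* F).comp (algebraMap (ZMod p) F) = algebraMap (ZMod p) F :=
      Subsingleton.elim _ _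
    exact DFunLike.congr_fun this r)
  obtain ⟨n, hn⟩ := (FiniteField.bijective_frobeniusAlgEquivOfAlgebraic_pow (ZMod p) F).2 τ
  refine ⟨n, ?_⟩
  apply RingEquiv.ext
  intro x
  have h := congrArg (fun ρ : F ≃ₐ[ZMod p] F => ρ x) hn
  simp only [AlgEquiv.coe_pow, FiniteField.coe_frobeniusAlgEquivOfAlgebraic_iterate,
    ZMod.card] at h
  rw [frobAut_pow_apply]
  exact h.symm

end frob

section minusFrob

variable {F : Type*} [Field F] [Fintype F]

/-- Characteristic two: the Frobenius semisimilarity of the minus-type form. -/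
theorem minus_frob2 [CharP F 2] (m : ℕ) (a b : F) (ha : a ≠ 0) :
    Cfsg.IsSemisimilarityPair (Cfsg.quadFormMinus m F a b) (twistGL m b a ha)
      (frobAut (F := F) 2) := by
  have h2 : (2 : F) = 0 := CharTwo.two_eq_zero
  apply minus_semisim_of
  · rw [frobAut_apply]
    linear_combination b * h2
  · rw [frobAut_apply]
    linear_combination (a ^ 2 * b) * h2

/-- Odd characteristic: a Frobenius semisimilarity of the minus-type form. -/
theorem minus_frob_odd (p : ℕ) [Fact p.Prime] [CharP F p] (h2 : (2 : F) ≠ 0) (m : ℕ) (a b : F)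
    (hab : ∀ z₁ z₂ : F, z₁ ^ 2 + a * z₁ * z₂ + b * z₂ ^ 2 = 0 → z₁ = 0 ∧ z₂ = 0) :
    ∃ g : GL ((Fin m ⊕ Fin m) ⊕ Fin 2) F,
      Cfsg.IsSemisimilarityPair (Cfsg.quadFormMinus m F a b) g (frobAut (F := F) p) := by
  have hΔ : a ^ 2 - 4 * b ≠ 0 := by
    intro h0
    have h := hab (-a / 2) 1 (by
      field_simp
      linear_combination -h0)
    exact one_ne_zero h.2
  have hp2 : p ≠ 2 := by
    rintro rfl
    apply h2
    exact_mod_cast CharP.cast_eq_zero F 2
  have hpodd : 2 * ((p - 1) / 2) + 1 = p := by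
    have h1 := (Fact.out : p.Prime).eq_one_or_self_of_dvd 2
    have h3 := (Fact.out : p.Prime).two_le
    have : p % 2 = 1 := by
      rcases Nat.mod_two_eq_zero_or_one p with h | h
      · exfalso
        rcases h1 (Nat.dvd_of_mod_eq_zero h) with h4 | h4
        · omega
        · exact hp2 h4.symm
      · exact h
    omega
  obtain ⟨d, hd⟩ : ∃ d : F, d = (a ^ 2 - 4 * b) ^ ((p - 1) / 2) := ⟨_, rfl⟩
  have hd0 : d ≠ 0 := by
    rw [hd]
    exact pow_ne_zero _ hΔ
  have hfr : frobAut (F := F) p (a ^ 2 - 4 * b) =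
      (frobAut (F := F) p a) ^ 2 - 4 * frobAut (F := F) p b := by
    rw [map_sub, map_mul, map_pow, map_ofNat]
  have hdd : d ^ 2 * (a ^ 2 - 4 * b) =
      (frobAut (F := F) p a) ^ 2 - 4 * frobAut (F := F) p b := by
    rw [← hfr, frobAut_apply, hd, ← pow_mul, ← pow_succ]
    congr 1
    omega
  obtain ⟨c, hc⟩ : ∃ c : F, c = (frobAut (F := F) p a - a * d) / 2 := ⟨_, rfl⟩
  have hc2 : 2 * c = frobAut (F := F) p a - a * d := by
    rw [hc]
    field_simp
  have h4 : (4 : F) ≠ 0 := by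
    have : (4 : F) = 2 * 2 := by norm_num
    rw [this]
    exact mul_ne_zero h2 h2
  refine ⟨twistGL m c d hd0, minus_semisim_of m a b c d hd0 _ ?_ ?_⟩
  · linear_combination hc2
  · apply mul_left_cancel₀ h4
    linear_combination (frobAut (F := F) p a + a * d + 2 * c) * hc2 - hdd

/-- Every field automorphism is the field automorphism of a semisimilarity of the minus-type
form. -/
theorem minus_exists_semisim (m : ℕ) (a b : F)
    (hab : ∀ z₁ z₂ : F, z₁ ^ 2 + a * z₁ * z₂ + b * z₂ ^ 2 = 0 → z₁ = 0 ∧ z₂ = 0)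
    (σ : RingAut F) :
    ∃ g : GL ((Fin m ⊕ Fin m) ⊕ Fin 2) F,
      Cfsg.IsSemisimilarityPair (Cfsg.quadFormMinus m F a b) g σ := by
  have key : ∀ (p : ℕ) [Fact p.Prime] [CharP F p],
      (∃ g : GL ((Fin m ⊕ Fin m) ⊕ Fin 2) F,
        Cfsg.IsSemisimilarityPair (Cfsg.quadFormMinus m F a b) g (frobAut (F := F) p)) →
      ∃ g : GL ((Fin m ⊕ Fin m) ⊕ Fin 2) F,
        Cfsg.IsSemisimilarityPair (Cfsg.quadFormMinus m F a b) g σ := by
    intro p _ _ ⟨g, hg⟩
    obtain ⟨n, rfl⟩ := exists_frobAut_pow p σ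
    obtain ⟨x, hx⟩ : ∃ x : ↥(semiSim (Cfsg.quadFormMinus m F a b)),
        x = ⟨⟨g, frobAut (F := F) p⟩, hg⟩ := ⟨_, rfl⟩
    have hr : ((x ^ n : ↥(semiSim (Cfsg.quadFormMinus m F a b))) :
        SemiGL ((Fin m ⊕ Fin m) ⊕ Fin 2) F).right = frobAut (F := F) p ^ n := by
      rw [Subgroup.coe_pow, hx]
      exact map_pow (SemidirectProduct.rightHom
        (φ := glAut (ι := (Fin m ⊕ Fin m) ⊕ Fin 2) (F := F))) _ n
    refine ⟨((x ^ n : ↥(semiSim (Cfsg.quadFormMinus m F a b))) :
        SemiGL ((Fin m ⊕ Fin m) ⊕ Fin 2) F).left, ?_⟩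
    rw [← hr]
    exact (x ^ n).2
  by_cases h2 : (2 : F) = 0
  · have : CharP F 2 := CharTwo.of_one_ne_zero_of_two_eq_zero one_ne_zero h2
    exact key 2 ⟨_, minus_frob2 m a b
      (Cfsg.Agent.Lib.Helper44.minus_coeff_ne_zero_char2 F h2 a b hab)⟩
  · have := ringChar.charP F
    have : Fact (ringChar F).Prime := ⟨CharP.char_is_prime F _⟩
    exact key (ringChar F) (minus_frob_odd (ringChar F) h2 m a b hab)

end minusFrob

end Cfsg.Agent.Lib.Helper14
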