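import Mathlib
import Cfsg.Agent.S0264
import Cfsg.Agent.Lib.Helper14.OmegaInv

set_option autoImplicit false

namespace Cfsg.Agent.Lib.Helper14

open Matrix

/-- Homomorphisms map commutator subgroups into commutator subgroups. -/
theorem map_mem_commutator' {G H : Type*} [Group G] [Group H] (f : G →* H) {x : G}
    (hx : x ∈ commutator G) : f x ∈ commutator H := by
  have h := Abelianization.commutator_subset_ker
    ((Abelianization.of : H →* Abelianization H).comp f) hx
  rw [MonoidHom.mem_ker, MonoidHom.comp_apply] at h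
  rw [← Abelianization.ker_of H]
  exact h

section hyp2

variable {ι : Type} [DecidableEq ι] {F : Type*} [Field F]

theorem IsHypPair.quad_sub_smul (Q : QuadraticForm F (ι → F)) {k k' : ι}
    (h : IsHypPair ⇑Q k k') (t : F) :
    Q (Pi.single k 1 - t • Pi.single k' 1) = -t := by
  have e := QuadraticMap.map_add (⇑Q) (Pi.single k (1 : F)) (-(t • Pi.single k' 1))
  rw [sub_eq_add_neg, e, QuadraticMap.map_neg, QuadraticMap.map_smul, h.left, h.right,
    h.polar_left]
  simp

variable [Fintype ι]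

/-- The isometry scaling `e` by `t` and `f` by `t⁻¹` in a hyperbolic pair is a product of two
reflections with norms `-1` and `-t`. -/
theorem IsHypPair.refl_mul_refl_smul (Q : QuadraticForm F (ι → F)) {k k' : ι}
    (h : IsHypPair ⇑Q k k') {t : F} (ht : t ≠ 0) :
    Cfsg.reflectionMatrix ⇑Q (Pi.single k 1 - Pi.single k' 1) *
        Cfsg.reflectionMatrix ⇑Q (Pi.single k 1 - t • Pi.single k' 1) =
      Matrix.diagonal (fun j => if j = k then t else if j = k' then t⁻¹ else 1) := by
  rw [ext_iff_mulVec]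
  intro x
  rw [← mulVec_mulVec, reflectionMatrix_mulVec, reflectionMatrix_mulVec, h.quad_sub,
    h.quad_sub_smul, QuadraticMap.polar_sub_left, QuadraticMap.polar_sub_left,
    QuadraticMap.polar_smul_left, h.polar_left, h.polar_right, h.polar_left, h.polar_right]
  funext j
  rw [mulVec_diagonal]
  have hne := h.ne
  by_cases hj : j = k
  · subst hj
    simp [hne]
    field_simp
    ring
  · by_cases hj' : j = k'
    · subst hj'
      simp [hj]
      field_simp
      ring
    · simp [Pi.single_apply, hj, hj']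

end hyp2

section levi

variable (m : ℕ) (F : Type*) [Field F]

/-- `A ↦ diag(A, A⁻ᵀ)` as a monoid homomorphism of matrices. -/
noncomputable def leviMatHom :
    Matrix (Fin m) (Fin m) F →* Matrix (Fin m ⊕ Fin m) (Fin m ⊕ Fin m) F where
  toFun A := Matrix.fromBlocks A 0 0 (A⁻¹)ᵀ
  map_one' := by simp [Matrix.fromBlocks_one]
  map_mul' A B := by
    rw [Matrix.fromBlocks_multiply, Matrix.mul_inv_rev, Matrix.transpose_mul]
    simp

/-- `A ↦ diag(A, A⁻ᵀ)` on general linear groups. -/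
noncomputable def leviGL :
    Matrix.GeneralLinearGroup (Fin m) F →* Matrix.GeneralLinearGroup (Fin m ⊕ Fin m) F :=
  Units.map (leviMatHom m F)

theorem leviGL_coe (A : Matrix.GeneralLinearGroup (Fin m) F) :
    ((leviGL m F A : Matrix.GeneralLinearGroup (Fin m ⊕ Fin m) F) :
      Matrix (Fin m ⊕ Fin m) (Fin m ⊕ Fin m) F) =
      Matrix.fromBlocks (A : Matrix (Fin m) (Fin m) F) 0 0
        ((A : Matrix (Fin m) (Fin m) F)⁻¹)ᵀ := rfl

theorem leviGL_mem (A : Matrix.GeneralLinearGroup (Fin m) F) :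
    leviGL m F A ∈ Cfsg.isometryGroup F (Cfsg.quadFormPlus m F) := by
  rw [mem_isometryGroup_iff]
  intro x
  rw [leviGL_coe]
  have key : ∀ v : Fin m ⊕ Fin m → F,
      Cfsg.quadFormPlus m F v = (v ∘ Sum.inl) ⬝ᵥ (v ∘ Sum.inr) := fun v => rfl
  have hx : x = Sum.elim (x ∘ Sum.inl) (x ∘ Sum.inr) := (Sum.elim_comp_inl_inr x).symm
  rw [key, key]
  conv_lhs => rw [hx, Matrix.fromBlocks_mulVec]
  simp only [Sum.elim_comp_inl, Sum.elim_comp_inr, zero_mulVec, add_zero, zero_add]
  have hA : (A : Matrix (Fin m) (Fin m) F)⁻¹ * (A : Matrix (Fin m) (Fin m) F) = 1 :=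
    Matrix.nonsing_inv_mul _ (Matrix.isUnits_det_units A)
  rw [Matrix.mulVec_transpose, dotProduct_comm, ← Matrix.dotProduct_mulVec, mulVec_mulVec, hA,
    one_mulVec, dotProduct_comm]

/-- The Levi embedding `GL_m → O⁺_{2m}`. -/
noncomputable def leviIsom :
    Matrix.GeneralLinearGroup (Fin m) F →* ↥(Cfsg.isometryGroup F (Cfsg.quadFormPlus m F)) :=
  (leviGL m F).codRestrict _ (leviGL_mem m F)

theorem leviIsom_coe (A : Matrix.GeneralLinearGroup (Fin m) F) :
    (((leviIsom m F A : ↥(Cfsg.isometryGroup F (Cfsg.quadFormPlus m F))) :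
      Matrix.GeneralLinearGroup (Fin m ⊕ Fin m) F) :
      Matrix (Fin m ⊕ Fin m) (Fin m ⊕ Fin m) F) =
      Matrix.fromBlocks (A : Matrix (Fin m) (Fin m) F) 0 0
        ((A : Matrix (Fin m) (Fin m) F)⁻¹)ᵀ := rfl

variable {m F}

theorem leviIsom_mem_omega_of_det (h : m = 2 → ∃ a : F, a ≠ 0 ∧ a ≠ 1)
    (A : Matrix.GeneralLinearGroup (Fin m) F) (hA : Matrix.GeneralLinearGroup.det A = 1) :
    leviIsom m F A ∈ Cfsg.Omega F (Cfsg.quadFormPlus m F) := by
  have hc : A ∈ commutator (Matrix.GeneralLinearGroup (Fin m) F) := by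
    rw [Cfsg.Agent.S0264.result m h]
    exact hA
  exact map_mem_commutator' (leviIsom m F) hc

/-- `t ↦ diag(t, 1, …, 1)` (with `t` in position `i₀`) as a monoid homomorphism. -/
noncomputable def diagMonoidHom (i₀ : Fin m) : F →* Matrix (Fin m) (Fin m) F where
  toFun t := Matrix.diagonal (Function.update (fun _ => (1 : F)) i₀ t)
  map_one' := by
    rw [Function.update_eq_self_iff.mpr rfl]
    exact Matrix.diagonal_one
  map_mul' s t := by
    rw [Matrix.diagonal_mul_diagonal]
    congr 1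
    funext j
    by_cases hj : j = i₀
    · subst hj; simp
    · simp [Function.update_of_ne hj]

/-- `t ↦ diag(t, 1, …, 1)` into `GL_m`. -/
noncomputable def diagGL (i₀ : Fin m) : Fˣ →* Matrix.GeneralLinearGroup (Fin m) F :=
  Units.map (diagMonoidHom i₀)

theorem diagGL_coe (i₀ : Fin m) (t : Fˣ) :
    ((diagGL i₀ t : Matrix.GeneralLinearGroup (Fin m) F) : Matrix (Fin m) (Fin m) F) =
      Matrix.diagonal (Function.update (fun _ => (1 : F)) i₀ (t : F)) := rfl

theorem det_diagGL (i₀ : Fin m) (t : Fˣ) :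
    Matrix.GeneralLinearGroup.det (diagGL (F := F) i₀ t) = t := by
  apply Units.ext
  rw [Matrix.GeneralLinearGroup.val_det_apply, diagGL_coe, Matrix.det_diagonal,
    Finset.prod_update_of_mem (Finset.mem_univ _)]
  simp

theorem leviIsom_diagGL_coe (i₀ : Fin m) (t : Fˣ) :
    (((leviIsom m F (diagGL i₀ t) : ↥(Cfsg.isometryGroup F (Cfsg.quadFormPlus m F))) :
      Matrix.GeneralLinearGroup (Fin m ⊕ Fin m) F) :
      Matrix (Fin m ⊕ Fin m) (Fin m ⊕ Fin m) F) =
      Matrix.fromBlocks (Matrix.diagonal (Function.update (fun _ => (1 : F)) i₀ (t : F))) 0 0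
        (Matrix.diagonal (Function.update (fun _ => (1 : F)) i₀ ((t⁻¹ : Fˣ) : F))) := by
  rw [leviIsom_coe, ← Matrix.coe_units_inv, ← map_inv, diagGL_coe, diagGL_coe,
    Matrix.diagonal_transpose]

/-- The isometry exchanging the two standard maximal totally singular subspaces. -/
noncomputable def swapIsom (m : ℕ) (F : Type*) [Field F] :
    ↥(Cfsg.isometryGroup F (Cfsg.quadFormPlus m F)) :=
  ⟨⟨Matrix.fromBlocks 0 1 1 0, Matrix.fromBlocks 0 1 1 0,
      by simp [Matrix.fromBlocks_multiply, Matrix.fromBlocks_one],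
      by simp [Matrix.fromBlocks_multiply, Matrix.fromBlocks_one]⟩, by
    rw [mem_isometryGroup_iff]
    intro x
    have key : ∀ v : Fin m ⊕ Fin m → F,
        Cfsg.quadFormPlus m F v = (v ∘ Sum.inl) ⬝ᵥ (v ∘ Sum.inr) := fun v => rfl
    have hx : x = Sum.elim (x ∘ Sum.inl) (x ∘ Sum.inr) := (Sum.elim_comp_inl_inr x).symm
    rw [key, key]
    show ((Matrix.fromBlocks (0 : Matrix (Fin m) (Fin m) F) 1 1 0 *ᵥ x) ∘ Sum.inl) ⬝ᵥ
      ((Matrix.fromBlocks (0 : Matrix (Fin m) (Fin m) F) 1 1 0 *ᵥ x) ∘ Sum.inr) = _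
    conv_lhs => rw [hx, Matrix.fromBlocks_mulVec]
    simp only [Sum.elim_comp_inl, Sum.elim_comp_inr, zero_mulVec, add_zero, zero_add, one_mulVec]
    exact dotProduct_comm _ _⟩

theorem swapIsom_coe (m : ℕ) (F : Type*) [Field F] :
    (((swapIsom m F : ↥(Cfsg.isometryGroup F (Cfsg.quadFormPlus m F))) :
      Matrix.GeneralLinearGroup (Fin m ⊕ Fin m) F) :
      Matrix (Fin m ⊕ Fin m) (Fin m ⊕ Fin m) F) = Matrix.fromBlocks 0 1 1 0 := rfl

open scoped commutatorElement in
/-- `diag(s², 1, …; s⁻², 1, …)` is a commutator in `O⁺`. -/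
theorem leviIsom_diagGL_sq_mem (i₀ : Fin m) (s : Fˣ) :
    leviIsom m F (diagGL i₀ (s * s)) ∈ Cfsg.Omega F (Cfsg.quadFormPlus m F) := by
  have hcomm : swapIsom m F * leviIsom m F (diagGL i₀ s⁻¹) =
      leviIsom m F (diagGL i₀ s) * swapIsom m F := by
    apply isom_ext
    rw [Subgroup.coe_mul, Units.val_mul, Subgroup.coe_mul, Units.val_mul, swapIsom_coe,
      leviIsom_diagGL_coe, leviIsom_diagGL_coe, inv_inv, Matrix.fromBlocks_multiply,
      Matrix.fromBlocks_multiply]
    simp only [zero_mul, mul_zero, one_mul, mul_one, add_zero, zero_add]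
  have h1 : leviIsom m F (diagGL i₀ (s * s)) = ⁅leviIsom m F (diagGL i₀ s), swapIsom m F⁆ := by
    rw [commutatorElement_def, ← map_inv, ← map_inv, mul_assoc (leviIsom m F (diagGL i₀ s)),
      hcomm, map_mul, map_mul]
    group
  rw [h1]
  exact Subgroup.commutator_mem_commutator (Subgroup.mem_top _) (Subgroup.mem_top _)

end levi

end Cfsg.Agent.Lib.Helper14
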