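import Mathlib
import Cfsg.Agent.Lib.Helper14.Levi

set_option autoImplicit false

namespace Cfsg.Agent.Lib.Helper14

open Matrix

section levi2

variable {m : ℕ} {F : Type*} [Field F] [Fintype F]

omit [Fintype F] in
theorem leviIsom_diagGL_coe' (i₀ : Fin m) (t : Fˣ) :
    (((leviIsom m F (diagGL i₀ t) : ↥(Cfsg.isometryGroup F (Cfsg.quadFormPlus m F))) :
      Matrix.GeneralLinearGroup (Fin m ⊕ Fin m) F) :
      Matrix (Fin m ⊕ Fin m) (Fin m ⊕ Fin m) F) =
      Matrix.diagonal (fun j => if j = Sum.inl i₀ then (t : F)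
        else if j = Sum.inr i₀ then (t : F)⁻¹ else 1) := by
  rw [leviIsom_diagGL_coe, Matrix.fromBlocks_diagonal]
  congr 1
  funext j
  rcases j with j | j
  · by_cases hj : j = i₀
    · subst hj; simp
    · simp [Function.update_of_ne hj, hj]
  · by_cases hj : j = i₀
    · subst hj; simp
    · simp [Function.update_of_ne hj, hj]

theorem exists_ne_zero_ne_one (h : Fintype.card F ≠ 2) : ∃ a : F, a ≠ 0 ∧ a ≠ 1 := by
  classical
  by_contra hne
  push Not at hne
  have hsub : (Finset.univ : Finset F) ⊆ {0, 1} := by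
    intro a _
    by_cases ha : a = 0
    · simp [ha]
    · simp [hne a ha]
  have h1 := Finset.card_le_card hsub
  have h2 : ({0, 1} : Finset F).card ≤ 2 := Finset.card_le_two
  have h3 : 1 < Fintype.card F := Fintype.one_lt_card
  rw [Finset.card_univ] at h1
  omega

/-- `diag(A, A⁻ᵀ) ∈ Ω⁺_{2m}(q)` iff `det A` is a square. -/
theorem leviIsom_mem_omega_iff (hm : 1 ≤ m) (h : Fintype.card F ≠ 2 ∨ m ≠ 2)
    (A : Matrix.GeneralLinearGroup (Fin m) F) :
    leviIsom m F A ∈ Cfsg.Omega F (Cfsg.quadFormPlus m F) ↔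
      IsSquare (A : Matrix (Fin m) (Fin m) F).det := by
  have h' : m = 2 → ∃ a : F, a ≠ 0 ∧ a ≠ 1 := by
    intro hm2
    rcases h with h | h
    · exact exists_ne_zero_ne_one h
    · exact absurd hm2 h
  set i₀ : Fin m := ⟨0, hm⟩ with hi₀
  set t : Fˣ := Matrix.GeneralLinearGroup.det A with ht_def
  have hA : A = (A * (diagGL i₀ t)⁻¹) * diagGL i₀ t := by group
  have hdet : Matrix.GeneralLinearGroup.det (A * (diagGL i₀ t)⁻¹) = 1 := by
    rw [map_mul, map_inv, det_diagGL]
    exact mul_inv_cancel t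
  have h0 := leviIsom_mem_omega_of_det h' _ hdet
  have hiff : leviIsom m F A ∈ Cfsg.Omega F (Cfsg.quadFormPlus m F) ↔
      leviIsom m F (diagGL i₀ t) ∈ Cfsg.Omega F (Cfsg.quadFormPlus m F) := by
    conv_lhs => rw [hA, map_mul]
    exact Subgroup.mul_mem_cancel_left _ h0
  rw [hiff]
  have hdet' : (A : Matrix (Fin m) (Fin m) F).det = (t : F) :=
    (Matrix.GeneralLinearGroup.val_det_apply A).symm
  rw [hdet']
  constructor
  · intro hmem
    by_cases h2 : (2 : F) = 0
    · have hchar : ringChar F = 2 :=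
        CharP.ringChar_of_prime_eq_zero Nat.prime_two (by exact_mod_cast h2)
      exact FiniteField.isSquare_of_char_two hchar _
    · have hp := plus_isHypPair m F i₀
      rw [← plusQF_coe] at hp
      have ht : (t : F) ≠ 0 := t.ne_zero
      have hM := hp.refl_mul_refl_smul (plusQF m F) ht
      have hl : ∀ u ∈ [Pi.single (Sum.inl i₀) 1 - Pi.single (Sum.inr i₀) 1,
          Pi.single (Sum.inl i₀) 1 - (t : F) • Pi.single (Sum.inr i₀) 1],
          plusQF m F u ≠ 0 := by
        intro u hu
        simp only [List.mem_cons, List.not_mem_nil, or_false] at hu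
        rcases hu with rfl | rfl
        · rw [hp.quad_sub]; exact neg_ne_zero.mpr one_ne_zero
        · rw [hp.quad_sub_smul]; exact neg_ne_zero.mpr ht
      have key := (exists_mem_omega_iff h2 (plusQF m F) (plusQF_nondegenerate m F) _
        (plusQF_coe m F) _ hl _
        (by simp only [List.map_cons, List.map_nil, List.prod_cons, List.prod_nil, mul_one]
            exact hM)).mp
        ⟨leviIsom m F (diagGL i₀ t), hmem, leviIsom_diagGL_coe' i₀ t⟩
      have h3 := key.2
      simp only [List.map_cons, List.map_nil, List.prod_cons, List.prod_nil, mul_one] at h3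
      rw [hp.quad_sub, hp.quad_sub_smul] at h3
      simpa using h3
  · rintro ⟨s, hs⟩
    have hs0 : s ≠ 0 := by
      rintro rfl
      rw [mul_zero] at hs
      exact t.ne_zero hs
    have hts : t = Units.mk0 s hs0 * Units.mk0 s hs0 := Units.ext (by simpa using hs)
    rw [hts]
    exact leviIsom_diagGL_sq_mem i₀ _

/-- Statement form of `leviIsom_mem_omega_iff`. -/
theorem exists_levi_mem_omega_iff (hm : 1 ≤ m) (h : Fintype.card F ≠ 2 ∨ m ≠ 2)
    (A : Matrix.GeneralLinearGroup (Fin m) F) :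
    (∃ g : ↥(Cfsg.isometryGroup F (Cfsg.quadFormPlus m F)),
      g ∈ Cfsg.Omega F (Cfsg.quadFormPlus m F) ∧
      ((g : Matrix.GeneralLinearGroup (Fin m ⊕ Fin m) F) :
        Matrix (Fin m ⊕ Fin m) (Fin m ⊕ Fin m) F) =
        Matrix.fromBlocks (A : Matrix (Fin m) (Fin m) F) 0 0
          ((A : Matrix (Fin m) (Fin m) F)⁻¹).transpose) ↔
      IsSquare (A : Matrix (Fin m) (Fin m) F).det := by
  rw [← leviIsom_mem_omega_iff hm h A]
  constructor
  · rintro ⟨g, hg, hgM⟩
    have e : g = leviIsom m F A := isom_ext (hgM.trans (leviIsom_coe m F A).symm)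
    rw [← e]
    exact hg
  · intro hmem
    exact ⟨leviIsom m F A, hmem, leviIsom_coe m F A⟩

end levi2

end Cfsg.Agent.Lib.Helper14
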