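import Mathlib
import Cfsg.Agent.Lib.Helper14.Centre
import Cfsg.Agent.Lib.Helper14.OmegaInv
import Cfsg.Agent.Lib.Helper14.SOIndex
import Cfsg.Agent.Lib.Helper44.Char2Forms

set_option autoImplicit false

namespace Cfsg.Agent.Lib.Helper14

open Matrix Module

section ts

variable {ι : Type} [Fintype ι] [DecidableEq ι] {F : Type*} [Field F]

/-- Three hyperbolic pairs of coordinate vectors give a totally singular subspace of dimension
three. -/
theorem exists_ts_three (Q : QuadraticForm F (ι → F)) (κ κ' : Fin 3 → ι)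
    (hpair : ∀ j, IsHypPair ⇑Q (κ j) (κ' j)) (hκ : Function.Injective κ)
    (hdisj : ∀ i j, κ i ≠ κ' j) :
    ∃ E : Submodule F (ι → F), 3 ≤ finrank F E ∧ ∀ x ∈ E, Q x = 0 := by
  set b : Fin 3 → ι → F := fun j => Pi.single (κ j) 1 with hb
  have hli : LinearIndependent F b := by
    have := (Pi.basisFun F ι).linearIndependent.comp κ hκ
    convert this using 1
    funext j
    simp [b]
  refine ⟨Submodule.span F (Set.range b), ?_, ?_⟩
  · rw [finrank_span_eq_card hli, Fintype.card_fin]
  · have hcoord : ∀ x ∈ Submodule.span F (Set.range b), ∀ j, x (κ' j) = 0 := by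
      intro x hx j
      induction hx using Submodule.span_induction with
      | mem y hy =>
        obtain ⟨i, rfl⟩ := hy
        simp only [b]
        rw [Pi.single_apply, if_neg (fun h => hdisj i j h.symm)]
      | zero => rfl
      | add y z _ _ hy hz => rw [Pi.add_apply, hy, hz, add_zero]
      | smul c y _ hy => rw [Pi.smul_apply, hy, smul_zero]
    have hpol : ∀ x ∈ Submodule.span F (Set.range b), ∀ y ∈ Submodule.span F (Set.range b),
        QuadraticMap.polar ⇑Q x y = 0 := by
      intro x hx y hy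
      induction hx using Submodule.span_induction with
      | mem z hz =>
        obtain ⟨i, rfl⟩ := hz
        simp only [b]
        rw [(hpair i).polar_left]
        exact hcoord y hy i
      | zero => exact QuadraticMap.polar_zero_left _ _
      | add z w _ _ hz hw => rw [QuadraticMap.polar_add_left, hz, hw, add_zero]
      | smul c z _ hz => rw [QuadraticMap.polar_smul_left, hz, smul_zero]
    intro x hx
    induction hx using Submodule.span_induction with
    | mem z hz =>
      obtain ⟨i, rfl⟩ := hz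
      exact (hpair i).left
    | zero => exact QuadraticMap.map_zero _
    | add z w hz' hw' hz hw =>
      rw [QuadraticMap.map_add (⇑Q) z w, hz, hw, hpol z hz' w hw']
      simp
    | smul c z _ hz => rw [QuadraticMap.map_smul, hz, smul_zero]

end ts

section orders

variable {ι : Type} [Fintype ι] [DecidableEq ι] {F : Type*} [Field F] [Fintype F]

theorem card_pomega_of_mem (h2 : (2 : F) ≠ 0) (Q : QuadraticForm F (ι → F))
    (hQ : (QuadraticMap.polarBilin Q).Nondegenerate) (Qf : (ι → F) → F) (hQf : ⇑Q = Qf)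
    (E : Submodule F (ι → F)) (hE : 3 ≤ finrank F E) (hE0 : ∀ x ∈ E, Q x = 0)
    (hex : ∃ g : ↥(Cfsg.isometryGroup F Qf), g ∈ Cfsg.Omega F Qf ∧
      ((g : Matrix.GeneralLinearGroup ι F) : Matrix ι ι F) = -1) :
    8 * Nat.card (Cfsg.POmega F Qf) = Nat.card ↥(Cfsg.isometryGroup F Qf) := by
  subst hQf
  have hdim : 6 ≤ finrank F (ι → F) := by
    have := two_mul_finrank_le_of_ts hQ hE0
    omega
  rw [Module.finrank_fintype_fun_eq_card] at hdim
  have hidx := index_commutator_eq_four h2 Q hQ (by omega)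
  have h1 := Subgroup.card_mul_index (commutator ↥(Cfsg.isometryGroup F ⇑Q))
  have h3 := Subgroup.card_eq_card_quotient_mul_card_subgroup
    (Subgroup.center ↥(commutator ↥(Cfsg.isometryGroup F ⇑Q)))
  rw [card_center_omega_two h2 Q hQ E hE hE0 hex] at h3
  rw [hidx] at h1
  show 8 * Nat.card (↥(commutator ↥(Cfsg.isometryGroup F ⇑Q)) ⧸
    Subgroup.center ↥(commutator ↥(Cfsg.isometryGroup F ⇑Q))) = _
  omega

theorem card_pomega_of_not_mem (h2 : (2 : F) ≠ 0) (Q : QuadraticForm F (ι → F))
    (hQ : (QuadraticMap.polarBilin Q).Nondegenerate) (Qf : (ι → F) → F) (hQf : ⇑Q = Qf)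
    (E : Submodule F (ι → F)) (hE : 3 ≤ finrank F E) (hE0 : ∀ x ∈ E, Q x = 0)
    (hex : ¬ ∃ g : ↥(Cfsg.isometryGroup F Qf), g ∈ Cfsg.Omega F Qf ∧
      ((g : Matrix.GeneralLinearGroup ι F) : Matrix ι ι F) = -1) :
    4 * Nat.card (Cfsg.POmega F Qf) = Nat.card ↥(Cfsg.isometryGroup F Qf) := by
  subst hQf
  have hdim : 6 ≤ finrank F (ι → F) := by
    have := two_mul_finrank_le_of_ts hQ hE0
    omega
  rw [Module.finrank_fintype_fun_eq_card] at hdim
  have hidx := index_commutator_eq_four h2 Q hQ (by omega)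
  have h1 := Subgroup.card_mul_index (commutator ↥(Cfsg.isometryGroup F ⇑Q))
  have h3 := Subgroup.card_eq_card_quotient_mul_card_subgroup
    (Subgroup.center ↥(commutator ↥(Cfsg.isometryGroup F ⇑Q)))
  rw [card_center_omega_one Q hQ E hE hE0 (Or.inr hex)] at h3
  rw [hidx] at h1
  show 4 * Nat.card (↥(commutator ↥(Cfsg.isometryGroup F ⇑Q)) ⧸
    Subgroup.center ↥(commutator ↥(Cfsg.isometryGroup F ⇑Q))) = _
  omega

theorem card_pomega_char_two (h2 : (2 : F) = 0) (Q : QuadraticForm F (ι → F))
    (hQ : (QuadraticMap.polarBilin Q).Nondegenerate) (Qf : (ι → F) → F) (hQf : ⇑Q = Qf)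
    (E : Submodule F (ι → F)) (hE : 3 ≤ finrank F E) (hE0 : ∀ x ∈ E, Q x = 0) :
    2 * Nat.card (Cfsg.POmega F Qf) = Nat.card ↥(Cfsg.isometryGroup F Qf) := by
  subst hQf
  have hdim : 6 ≤ finrank F (ι → F) := by
    have := two_mul_finrank_le_of_ts hQ hE0
    omega
  have hdim' := hdim
  rw [Module.finrank_fintype_fun_eq_card] at hdim'
  have hidx := Cfsg.Agent.Lib.Helper44.index_commutator_char2 h2 Q hQ (Or.inr (by omega))
    (exists_quad_ne_zero Q hQ (by omega))
  have h1 := Subgroup.card_mul_index (commutator ↥(Cfsg.isometryGroup F ⇑Q))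
  have h3 := Subgroup.card_eq_card_quotient_mul_card_subgroup
    (Subgroup.center ↥(commutator ↥(Cfsg.isometryGroup F ⇑Q)))
  rw [card_center_omega_one Q hQ E hE hE0 (Or.inl h2)] at h3
  rw [hidx] at h1
  show 2 * Nat.card (↥(commutator ↥(Cfsg.isometryGroup F ⇑Q)) ⧸
    Subgroup.center ↥(commutator ↥(Cfsg.isometryGroup F ⇑Q))) = _
  omega

end orders

end Cfsg.Agent.Lib.Helper14
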